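import Groth.Agent.VB5.Split
import Groth.Agent.EulerLib.Scalar
import Mathlib.RingTheory.Artinian.Module
import Mathlib.CategoryTheory.Linear.Basic

/-!
# Endomorphism algebras of bundles: Fitting's lemma
-/

set_option autoImplicit false
set_option linter.style.haveILetI false
set_option linter.unusedSectionVars false
set_option backward.isDefEq.respectTransparency.types false

universe u

open CategoryTheory CategoryTheory.Limits AlgebraicGeometry Opposite TopologicalSpace
open Groth.Agent.Coherent Groth.Agent.PicLib Groth.Agent.AmpleLib Groth.Agent.EulerLib Groth.Agent.CurveRR24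

namespace Groth.Agent.VB5

/-- In a finite dimensional algebra without idempotents, elements are units or nilpotent. -/
theorem isUnit_or_isNilpotent {k A : Type*} [Field k] [Ring A] [Algebra k A] [Module.Finite k A]
    (h : ∀ e : A, e * e = e → e = 0 ∨ e = 1) (x : A) : IsUnit x ∨ IsNilpotent x := by
  obtain ⟨n, hn, h1⟩ :=
    ((LinearMap.eventually_isCompl_ker_pow_range_pow (LinearMap.mulLeft k x)).and
      (Filter.eventually_ge_atTop 1)).exists
  have hL : ∀ a : A, (LinearMap.mulLeft k x ^ n) a = x ^ n * a := fun a => by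
    rw [LinearMap.pow_mulLeft]; rfl
  obtain ⟨a, ha, c, ⟨b, rfl⟩, hab⟩ := Submodule.mem_sup.1
    (hn.sup_eq_top.ge (Submodule.mem_top : (1 : A) ∈ ⊤))
  rw [LinearMap.mem_ker, hL] at ha
  rw [hL] at hab
  have hxe : x ^ n * (x ^ n * b) = x ^ n := by
    conv_rhs => rw [← mul_one (x ^ n), ← hab, mul_add, ha, zero_add]
  have hidem : (x ^ n * b) * (x ^ n * b) = x ^ n * b := by
    rw [← sub_eq_zero, ← Submodule.mem_bot k, ← hn.inf_eq_bot]
    refine ⟨?_, b * (x ^ n * b) - b, ?_⟩
    · rw [SetLike.mem_coe, LinearMap.mem_ker, hL, mul_sub, ← mul_assoc, hxe, hxe, sub_self]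
    · rw [hL, mul_sub, mul_assoc]
  rcases h _ hidem with h0 | h1'
  · exact Or.inr ⟨n, by rw [← hxe, h0, mul_zero]⟩
  · refine Or.inl ?_
    obtain ⟨m, rfl⟩ : ∃ m, n = m + 1 := ⟨n - 1, by omega⟩
    rw [pow_succ', mul_assoc] at h1'
    haveI := IsArtinianRing.of_finite k A
    exact ⟨⟨x, x ^ m * b, h1', mul_eq_one_symm h1'⟩, rfl⟩

variable {X : Scheme.{u}}

/-- Idempotents of an indecomposable module are trivial. -/
theorem idem_of_indecomposable {E : X.Modules}
    (hind : ∀ E₁ E₂ : X.Modules, Nonempty (E ≅ E₁ ⊞ E₂) → IsZero E₁ ∨ IsZero E₂)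
    (e : E ⟶ E) (he : e ≫ e = e) : e = 0 ∨ e = 𝟙 E := by
  have h0 : (𝟙 E - e) ≫ e = 0 := by rw [Preadditive.sub_comp, Category.id_comp, he, sub_self]
  let ρ := kernel.lift e (𝟙 E - e) h0
  have hret : kernel.ι e ≫ ρ = 𝟙 _ := by
    rw [← cancel_mono (kernel.ι e), Category.assoc, kernel.lift_ι, Category.id_comp, Preadditive.comp_sub,
      Category.comp_id, kernel.condition, sub_zero]
  let S := ShortComplex.mk (kernel.ι e) (cokernel.π (kernel.ι e)) (cokernel.condition _)
  have hS : S.Exact := ShortComplex.exact_cokernel _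
  haveI : Epi S.g := inferInstanceAs (Epi (cokernel.π (kernel.ι e)))
  rcases hind _ _ ⟨(ShortComplex.Splitting.ofExactOfRetraction S hS ρ hret inferInstance).isoBinaryBiproduct⟩
    with hz | hz
  · refine Or.inr ?_
    haveI : Mono e := Preadditive.mono_of_isZero_kernel _ hz
    exact (cancel_mono e).1 (he.trans (Category.id_comp e).symm)
  · refine Or.inl ?_
    haveI : Epi (kernel.ι e) := Preadditive.epi_of_isZero_cokernel _ hz
    rw [← cancel_epi (kernel.ι e), kernel.condition, comp_zero]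

variable (k : Type u) [Field k] [X.Over (Spec (CommRingCat.of k))]

theorem smulMod_eq_smul (E : X.Modules) (c : k) :
    EulerLib.smulMod E (Coh.toGlobal (X ↘ Spec (CommRingCat.of k)) c) = c • 𝟙 E :=
  Scheme.Modules.hom_ext _ _ fun W => ConcreteCategory.hom_ext _ _ fun s => by
    refine (EulerLib.smulMod_app E _ W s).trans ?_
    refine Eq.trans ?_ (KLin.smul_app_apply c (𝟙 E) W s).symm
    rfl

theorem isIso_smul_id (E : X.Modules) {c : k} (hc : c ≠ 0) : IsIso (c • 𝟙 E) :=
  ⟨c⁻¹ • 𝟙 E, by rw [Linear.smul_comp, Category.id_comp, smul_smul, mul_inv_cancel₀ hc, one_smul],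
    by rw [Linear.smul_comp, Category.id_comp, smul_smul, inv_mul_cancel₀ hc, one_smul]⟩

variable [IsProper (X ↘ Spec (CommRingCat.of k))]

include k in
/-- The endomorphisms of an indecomposable bundle form a local ring. -/
theorem isIso_or_isIso_of_add {E : X.Modules} (hE : FlatMod.IsFinLocFree E)
    (hind : ∀ E₁ E₂ : X.Modules, Nonempty (E ≅ E₁ ⊞ E₂) → IsZero E₁ ∨ IsZero E₂)
    (f₁ f₂ : E ⟶ E) (h : IsIso (f₁ + f₂)) : IsIso f₁ ∨ IsIso f₂ := by
  haveI : Module.Finite k (End E) := finite_hom k hE hE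
  obtain ⟨u, hu⟩ := (isUnit_iff_isIso (f₁ + f₂ : End E)).2 h
  have hid : ∀ e : End E, e * e = e → e = 0 ∨ e = 1 := fun e he => idem_of_indecomposable hind e he
  have hsum : (↑u⁻¹ : End E) * (show End E from f₁) + (↑u⁻¹ : End E) * (show End E from f₂) = 1 := by
    rw [← mul_add]
    exact (congrArg ((↑u⁻¹ : End E) * ·) hu.symm).trans u.inv_mul
  rcases isUnit_or_isNilpotent (k := k) hid ((↑u⁻¹ : End E) * (show End E from f₁)) with h1 | h1
  · exact Or.inl ((isUnit_iff_isIso (show End E from f₁)).1 ((Units.isUnit_units_mul u⁻¹ _).1 h1))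
  · refine Or.inr ((isUnit_iff_isIso (show End E from f₂)).1 ((Units.isUnit_units_mul u⁻¹ _).1 ?_))
    rw [eq_sub_of_add_eq' hsum]
    exact h1.isUnit_one_sub

end Groth.Agent.VB5
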