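import Groth.Agent.VB5.GGen
import Groth.Agent.Clifford24.Main

/-!
# Vanishing of `H¹` for semistable bundles
-/

set_option autoImplicit false
set_option linter.style.haveILetI false
set_option linter.unusedSectionVars false
set_option backward.isDefEq.respectTransparency.types false

universe u

open CategoryTheory CategoryTheory.Limits AlgebraicGeometry Opposite TopologicalSpace
open Groth.Agent.Coherent Groth.Agent.PicLib Groth.Agent.AmpleLib Groth.Agent.EulerLib Groth.Agent.CurveRR24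

namespace Groth.Agent.VB5

variable {X : Scheme.{u}} [IsIntegral X] [IsLocallyNoetherian X]
  (k : Type u) [Field k] [X.Over (Spec (CommRingCat.of k))] [IsProper (X ↘ Spec (CommRingCat.of k))]
  [Smooth (X ↘ Spec (CommRingCat.of k))] [GeometricallyIntegral (X ↘ Spec (CommRingCat.of k))]
  (hdim : topologicalKrullDim X = 1)
include k hdim

/-- A module with nonzero `H¹` maps nonzero to the canonical line bundle. -/
theorem exists_hom_omega {E : X.Modules} (hE : Coh.IsCoh E) (h : ¬ Subsingleton (Coh.HH X E 1)) :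
    ∃ (Ω : X.Modules) (f : E ⟶ Ω), PicF.IsInvertible Ω ∧
      gdeg k Ω = 2 * (Curv2.genus k X : ℤ) - 2 ∧ f ≠ 0 := by
  haveI := EulerLib.isNoetherian_of_proper k (X := X)
  obtain ⟨ω, t, hω, hrep⟩ := SerreDual.exists_dualizing k X (d := 1) (by rw [hdim]; norm_num)
  obtain ⟨eω⟩ := OmegaDual24.nonempty_iso_omega k hdim hω hrep
  obtain ⟨hfin, hhom⟩ := SerreDual.finrank_hom_eq_h1 hrep hE
  haveI := hfin
  haveI := finite_HH_of_isCoh k hE 1
  rw [not_subsingleton_iff_nontrivial] at h
  haveI : Nontrivial (E ⟶ ω) := Module.nontrivial_of_finrank_pos (R := k)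
    (hhom.symm ▸ (Module.finrank_pos : 0 < Module.finrank k (Coh.HH X E 1)))
  obtain ⟨f, hf⟩ := exists_ne (0 : E ⟶ ω)
  have hΩ : PicF.IsInvertible (Omega.sheaf (X ↘ Spec (CommRingCat.of k))) :=
    OmegaDual24.isInvertible_omega (k := k) hdim
  refine ⟨_, f ≫ eω.inv, hΩ, ?_, fun h0 => hf ?_⟩
  · rw [← deg_line k hΩ, OmegaDual24.deg_omega k hdim]
  · rw [← cancel_mono eω.inv, h0, zero_comp]

theorem isIntegrallyClosed' : ∀ P : X, IsIntegrallyClosed (X.presheaf.stalk P) :=
  isIntegrallyClosed_stalk k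

/-- Semistable of slope above `2g - 2`. -/
theorem subsingleton_h1_of_ss {r : ℕ} {E : X.Modules} (hE : FlatMod.IsFinLocFreeOfRank r E) (hss : SS k E)
    (hdeg : (r : ℤ) * (2 * (Curv2.genus k X : ℤ) - 2) < gdeg k E) : Subsingleton (Coh.HH X E 1) := by
  by_contra h
  obtain ⟨Ω, f, hΩ, hd, hf⟩ := exists_hom_omega k hdim (SplitP1.isCoh_of_rank hE) h
  have hn := isIntegrallyClosed' k hdim (X := X)
  obtain ⟨I, p, j, hp, hj, -, hI, hI0⟩ := exists_image k hdim hn hE (PicLib.isFinLocFreeOfRank_one hΩ) f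
  have h0 := hI0 hf
  have h1 := (sub_bundle hdim.le hn (PicLib.isFinLocFreeOfRank_one hΩ) j hI).1
  have hI1 : grk I = 1 := by omega
  have hle := (full_rank k hdim j hI (isCoh_of_line hΩ) (hI1.trans (rank_one hΩ).symm)).1
  have hq := hss.quot k (SplitP1.isCoh_of_rank hE) p hI
  rw [hI1, grk_eq hE, Nat.cast_one, mul_one] at hq
  rw [hd] at hle
  nlinarith [mul_le_mul_of_nonneg_right hle (Int.natCast_nonneg r)]

/-- Stable of rank `≥ 2` and slope at least `2g - 2`. -/
theorem subsingleton_h1_of_st {r : ℕ} {E : X.Modules} (hr : 2 ≤ r) (hE : FlatMod.IsFinLocFreeOfRank r E)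
    (hst : ST k E) (hdeg : (r : ℤ) * (2 * (Curv2.genus k X : ℤ) - 2) ≤ gdeg k E) :
    Subsingleton (Coh.HH X E 1) := by
  by_contra h
  obtain ⟨Ω, f, hΩ, hd, hf⟩ := exists_hom_omega k hdim (SplitP1.isCoh_of_rank hE) h
  have hn := isIntegrallyClosed' k hdim (X := X)
  obtain ⟨I, p, j, hp, hj, -, hI, hI0⟩ := exists_image k hdim hn hE (PicLib.isFinLocFreeOfRank_one hΩ) f
  have h0 := hI0 hf
  have h1 := (sub_bundle hdim.le hn (PicLib.isFinLocFreeOfRank_one hΩ) j hI).1
  have hI1 : grk I = 1 := by omega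
  have hle := (full_rank k hdim j hI (isCoh_of_line hΩ) (hI1.trans (rank_one hΩ).symm)).1
  have hq := hst.quot k hdim hn hE p hI h0 fun hiso => by
    have := grk_congr (asIso p)
    rw [grk_eq hE] at this
    omega
  rw [hI1, grk_eq hE, Nat.cast_one, mul_one] at hq
  rw [hd] at hle
  nlinarith [mul_le_mul_of_nonneg_right hle (Int.natCast_nonneg r)]

theorem gdeg_twist_point [IsAlgClosed k] {r : ℕ} {E : X.Modules} (hE : FlatMod.IsFinLocFreeOfRank r E)
    {P : X} (hP : IsClosed ({P} : Set X)) :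
    gdeg k (CohB1.tensorMod E (ClSub.idealMod (ptIdeal P hP))) = gdeg k E - r := by
  have hn := isIntegrallyClosed' k hdim (X := X)
  have hI := isInvertible_ptIdeal_of_normal k hdim hP (hn P)
  rw [gdeg_twist k hdim hn hI r hE, ← deg_line k hI, deg_ptIdeal k hP, finrank_resField k hP]
  push_cast
  ring

theorem globallyGenerated_of_ss [IsAlgClosed k] {r : ℕ} {E : X.Modules} (hE : FlatMod.IsFinLocFreeOfRank r E)
    (hss : SS k E) (hdeg : (r : ℤ) * (2 * (Curv2.genus k X : ℤ) - 1) < gdeg k E) :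
    Curv2.IsGloballyGenerated E := by
  have hn := isIntegrallyClosed' k hdim (X := X)
  refine globallyGenerated_of_h1 k hdim hn hE fun P hP => ?_
  have hI := isInvertible_ptIdeal_of_normal k hdim hP (hn P)
  refine subsingleton_h1_of_ss k hdim (Clifford24.isFinLocFreeOfRank_tensorMod hE hI)
    (hss.twist k hdim hn hE hI) ?_
  rw [gdeg_twist_point k hdim hE hP]
  linarith

theorem globallyGenerated_of_st [IsAlgClosed k] {r : ℕ} {E : X.Modules} (hr : 2 ≤ r)
    (hE : FlatMod.IsFinLocFreeOfRank r E)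
    (hst : ST k E) (hdeg : (r : ℤ) * (2 * (Curv2.genus k X : ℤ) - 1) ≤ gdeg k E) :
    Curv2.IsGloballyGenerated E := by
  have hn := isIntegrallyClosed' k hdim (X := X)
  refine globallyGenerated_of_h1 k hdim hn hE fun P hP => ?_
  have hI := isInvertible_ptIdeal_of_normal k hdim hP (hn P)
  refine subsingleton_h1_of_st k hdim hr (Clifford24.isFinLocFreeOfRank_tensorMod hE hI)
    (hst.twist k hdim hn hE hI) ?_
  rw [gdeg_twist_point k hdim hE hP]
  linarith

end Groth.Agent.VB5
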