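import Groth.Agent.VB5.Higgs
import Groth.Agent.VB5.Vanish
import Groth.Agent.SerreDual.ExtLocFree
import Groth.Agent.Clifford24.StableFamily

/-!
# Splitting extensions of bundles on curves
-/

set_option autoImplicit false
set_option linter.style.haveILetI false
set_option linter.unusedSectionVars false
set_option backward.isDefEq.respectTransparency.types false
set_option maxHeartbeats 1000000

universe u

open CategoryTheory CategoryTheory.Limits AlgebraicGeometry Opposite TopologicalSpace
open Groth.Agent.Coherent Groth.Agent.PicLib Groth.Agent.AmpleLib Groth.Agent.EulerLib Groth.Agent.CurveRR24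

namespace Groth.Agent.VB5

variable {X : Scheme.{u}}

theorem exists_rank_free {r : ℕ} {E : X.Modules} (hE : FlatMod.IsFinLocFreeOfRank r E) : FlatMod.IsFinLocFree E :=
  fun x => let ⟨U, hx, e⟩ := hE x; ⟨U, r, hx, e⟩

/-- `ξ ⊗ a ↦ (x ↦ ξ x • a)`. -/
noncomputable def dyad (Q A : X.Modules) :
    Bilin (internalHom Q (Coh.structureModule X)) A (internalHom Q A) where
  app U ξ a := (show locHom Q A U from
    ⟨fun W hW => AddMonoidHom.mk' (fun x => (show Γ(X, W) from ev (secHom ξ) W hW x) • resM A hW a)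
        (fun x x' => by
          rw [show ev (secHom ξ) W hW (x + x') = ev (secHom ξ) W hW x + ev (secHom ξ) W hW x' from
            map_add ((secHom ξ).1 W hW) x x']
          exact add_smul _ _ _),
      fun W hW r x => by
        show (show Γ(X, W) from ev (secHom ξ) W hW (r • x)) • resM A hW a =
          r • ((show Γ(X, W) from ev (secHom ξ) W hW x) • resM A hW a)
        rw [ev_smul_arg, ← mul_smul]
        rfl,
      fun W W' hW h x => by
        show resM A h ((show Γ(X, W) from ev (secHom ξ) W hW x) • resM A hW a) = _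
        rw [resM_smul, resM_resM]
        exact congrArg (fun c : Γ(X, W') => c • resM A (h.trans hW) a) (ev_res (secHom ξ) hW h x)⟩)
  add_left U ξ ξ' a := locHom_ext fun W hW x => add_smul _ _ _
  add_right U ξ a a' := locHom_ext fun W hW x => by
    show (show Γ(X, W) from ev (secHom ξ) W hW x) • resM A hW (a + a') =
      (show Γ(X, W) from ev (secHom ξ) W hW x) • resM A hW a +
        (show Γ(X, W) from ev (secHom ξ) W hW x) • resM A hW a'
    rw [map_add, smul_add]
  smul_left U r ξ a := locHom_ext fun W hW x => by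
    show ((X.presheaf.map (homOfLE hW).op r : Γ(X, W)) * (show Γ(X, W) from ev (secHom ξ) W hW x)) • resM A hW a =
      (X.presheaf.map (homOfLE hW).op r : Γ(X, W)) • ((show Γ(X, W) from ev (secHom ξ) W hW x) • resM A hW a)
    rw [mul_smul]
  smul_right U r ξ a := locHom_ext fun W hW x => by
    show (show Γ(X, W) from ev (secHom ξ) W hW x) • resM A hW (r • a) =
      (X.presheaf.map (homOfLE hW).op r : Γ(X, W)) • ((show Γ(X, W) from ev (secHom ξ) W hW x) • resM A hW a)
    rw [resM_smul, smul_comm]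
  res U V h ξ a := locHom_ext fun W hW x => by
    show (show Γ(X, W) from ev (secHom ξ) W (hW.trans h) x) • resM A (hW.trans h) a =
      (show Γ(X, W) from ev (secHom ξ) W (hW.trans h) x) • resM A hW (resM A h a)
    rw [resM_resM]

theorem eq_sum_dyad {Q A : X.Modules} {U : X.Opens} {I : Type u} [Fintype I] {e : I → Γ(Q, U)}
    (hb : IsBasisOn Q U e) (φ : Γ(internalHom Q A, U)) :
    φ = ∑ i, (dyad Q A).app U (coordHom hb i) (ev (secHom φ) U le_rfl (e i)) := by
  refine locHom_ext (φ := secHom φ) (ψ := secHom _) fun W hW x => ?_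
  let g : Γ(internalHom Q A, U) →+ Γ(A, W) :=
    { toFun := fun ψ => ev (secHom ψ) W hW x
      map_zero' := rfl
      map_add' := fun _ _ => rfl }
  show _ = g (∑ i, (dyad Q A).app U (coordHom hb i) (ev (secHom φ) U le_rfl (e i)))
  rw [map_sum]
  conv_lhs => rw [← hb.coef_spec hW x]
  rw [ev_sum]
  refine Finset.sum_congr rfl fun i _ => ?_
  show _ = (show Γ(X, W) from hb.coef hW x i) • resM A hW (ev (secHom φ) U le_rfl (e i))
  rw [ev_smul_arg, ev_res]

/-- A nonzero functional on `Hom(Q, A)` gives a nonzero map `A ⟶ Q ⊗ Ω`. -/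
theorem exists_hom_tensor {Q A Ω : X.Modules} (hQ : FlatMod.IsFinLocFree Q) (f : internalHom Q A ⟶ Ω)
    (hf : f ≠ 0) : ∃ g : A ⟶ CohB1.tensorMod Q Ω, g ≠ 0 := by
  classical
  haveI := isIso_contract hQ Ω
  let β : Bilin (internalHom Q (Coh.structureModule X)) A Ω :=
    { app := fun U ξ a => f.app U ((dyad Q A).app U ξ a)
      add_left := fun U ξ ξ' a => by rw [(dyad Q A).add_left, map_add]
      add_right := fun U ξ a a' => by rw [(dyad Q A).add_right, map_add]
      smul_left := fun U r ξ a => by rw [(dyad Q A).smul_left, Scheme.Modules.Hom.app_smul]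
      smul_right := fun U r ξ a => by rw [(dyad Q A).smul_right, Scheme.Modules.Hom.app_smul]
      res := fun U V h ξ a => by rw [← app_resM, (dyad Q A).res] }
  refine ⟨curry β ≫ inv (contractBilin Q Ω).desc, fun h0 => hf ?_⟩
  have hc : curry β = 0 := by rw [← cancel_mono (inv (contractBilin Q Ω).desc), h0, zero_comp]
  have hβ : ∀ (U : X.Opens) (ξ : Γ(internalHom Q (Coh.structureModule X), U)) (a : Γ(A, U)), β.app U ξ a = 0 := by
    intro U ξ a
    have h := ev_curry β a U le_rfl ξ
    rw [hc, PicLib.resM_self] at h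
    exact h.symm
  refine Scheme.Modules.hom_ext _ _ fun V => ConcreteCategory.hom_ext _ _ fun φ => ?_
  show f.app V φ = 0
  refine sec_ext _ _ _ fun y hy => ?_
  obtain ⟨U, n, e, hyU, hUV, he⟩ := exists_basis_nhd hQ y V hy
  refine ⟨U, hUV, hyU, ?_⟩
  rw [← app_resM, eq_sum_dyad he (resM _ hUV φ), map_sum, map_zero]
  exact Finset.sum_eq_zero fun i _ => hβ U _ _

variable (k : Type u) [Field k] [X.Over (Spec (CommRingCat.of k))] [IsProper (X ↘ Spec (CommRingCat.of k))]

include k in
/-- Sections lift when the kernel has no `H¹`. -/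
theorem exists_lift_section {T : ShortComplex X.Modules} (hT : T.ShortExact)
    (h1 : Subsingleton (Coh.HH X T.X₁ 1)) (z : Γ(T.X₃, ⊤)) : ∃ y : Γ(T.X₂, ⊤), T.g.app ⊤ y = z := by
  let ρ := baseHom k X
  haveI : Subsingleton (HA ρ T.X₁ (⊤ : X.Opens) (0 + 1)) :=
    haveI := h1
    (HHBaseEquiv k _ 1).symm.toEquiv.subsingleton
  let z' : GA ρ T.X₃ := z
  obtain ⟨y, hy⟩ := (exact_postA_deltaA ρ hT ⊤ 0 ((secA ρ _).symm z')).1 (Subsingleton.elim _ _)
  refine ⟨secA ρ _ y, ?_⟩
  have h := secA_natural ρ T.g y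
  rw [hy, LinearEquiv.apply_symm_apply] at h
  exact h.symm

include k in
/-- `H¹(Hom(Q, A)) = 0` splits extensions. -/
theorem isSplitEpi_of_h1 {S : ShortComplex X.Modules} (hS : S.ShortExact) (hQ : FlatMod.IsFinLocFree S.X₃)
    (h1 : Subsingleton (Coh.HH X (internalHom S.X₃ S.X₁) 1)) : IsSplitEpi S.g := by
  haveI := SerreDual.preservesFiniteLimits_internalHom S.X₃
  haveI := SerreDual.preservesFiniteColimits_internalHom hQ
  have hT := hS.map_of_exact (internalHomFunctor S.X₃)
  obtain ⟨y, hy⟩ := exists_lift_section k hT h1 (SerreDual.idSec S.X₃)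
  refine ⟨⟨SerreDual.homOfSec y, Scheme.Modules.hom_ext _ _ fun W => ConcreteCategory.hom_ext _ _ fun a => ?_⟩⟩
  have h := ev_internalHomMap S.X₃ S.g y W le_top a
  refine h.symm.trans ?_
  exact congrArg (fun ξ => ev (secHom ξ) W le_top a) hy

theorem finite_hom {A B : X.Modules} (hA : FlatMod.IsFinLocFree A) (hB : FlatMod.IsFinLocFree B) :
    Module.Finite k (A ⟶ B) := by
  haveI := SerreDual.linear_internalHom k A
  haveI := finite_HH_of_isCoh k (Coherent.CohBC.isCoh_of_isFinLocFree (Coherent.CohBC.isFinLocFree_internalHom hA hB)) 0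
  haveI : Module.Finite k (GA (baseHom k X) (internalHom A B)) := Module.Finite.equiv (hhZero k (internalHom A B))
  let Φ : (A ⟶ B) →ₗ[k] GA (baseHom k X) (internalHom A B) :=
    { toFun := fun f => ((internalHomFunctor A).map f).app ⊤ (SerreDual.idSec A)
      map_add' := fun f g => by rw [Functor.map_add]; rfl
      map_smul' := fun c f => by
        rw [Functor.map_smul]
        refine (KLin.smul_app_apply c ((internalHomFunctor A).map f) ⊤ _).trans ?_
        show (X.presheaf.map (homOfLE le_top).op (Coh.toGlobal (X ↘ Spec (CommRingCat.of k)) c) : Γ(X, ⊤)) •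
          (show Γ(internalHom A B, ⊤) from ((internalHomFunctor A).map f).app ⊤ (SerreDual.idSec A)) = _
        rw [show (X.presheaf.map (homOfLE (le_top : (⊤ : X.Opens) ≤ ⊤)).op (Coh.toGlobal (X ↘ Spec (CommRingCat.of k)) c)) =
          Coh.toGlobal (X ↘ Spec (CommRingCat.of k)) c from ConcreteCategory.congr_hom (X.presheaf.map_id (op ⊤)) _]
        rfl }
  refine Module.Finite.of_injective Φ fun f g h => Scheme.Modules.hom_ext _ _ fun W =>
    ConcreteCategory.hom_ext _ _ fun a => ?_
  exact (SerreDual.ev_map_idSec f W a).symm.trans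
    ((congrArg (fun ξ => ev (secHom ξ) W le_top a) h).trans (SerreDual.ev_map_idSec g W a))

variable [IsIntegral X] [Smooth (X ↘ Spec (CommRingCat.of k))] [GeometricallyIntegral (X ↘ Spec (CommRingCat.of k))]

/-- The canonical sheaf. -/
noncomputable abbrev omega : X.Modules := Omega.sheaf (X ↘ Spec (CommRingCat.of k))

variable (hdim : topologicalKrullDim X = 1)
include hdim

theorem omega_line : PicF.IsInvertible (omega k (X := X)) := OmegaDual24.isInvertible_omega (k := k) hdim

theorem gdeg_omega : gdeg k (omega k (X := X)) = 2 * (Curv2.genus k X : ℤ) - 2 := by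
  haveI := CurveRR24.isLocallyNoetherian_of_proper k (X := X)
  rw [← deg_line k (omega_line k hdim), OmegaDual24.deg_omega k hdim]

/-- `H¹(E) = 0` iff nothing maps to the canonical sheaf. -/
theorem subsingleton_h1_iff_hom_omega {E : X.Modules} (hE : Coh.IsCoh E) :
    Subsingleton (Coh.HH X E 1) ↔ ∀ f : E ⟶ omega k (X := X), f = 0 := by
  haveI := EulerLib.isNoetherian_of_proper k (X := X)
  obtain ⟨ω, t, hω, hrep⟩ := SerreDual.exists_dualizing k X (d := 1) (by rw [hdim]; norm_num)
  obtain ⟨eω⟩ := OmegaDual24.nonempty_iso_omega k hdim hω hrep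
  obtain ⟨hfin, hhom⟩ := SerreDual.finrank_hom_eq_h1 hrep hE
  haveI := hfin
  haveI := finite_HH_of_isCoh k hE 1
  rw [← Module.finrank_zero_iff (R := k) (M := Coh.HH X E 1), ← hhom, Module.finrank_zero_iff]
  refine ⟨fun h f => ?_, fun h => subsingleton_of_forall_eq 0 fun g => ?_⟩
  · rw [← cancel_mono eω.hom, zero_comp]
    exact Subsingleton.elim (α := E ⟶ ω) _ _
  · rw [← cancel_mono eω.inv, zero_comp, h (g ≫ eω.inv)]

/-- Splitting when no nonzero map `A ⟶ Q ⊗ Ω` exists. -/
theorem isSplitEpi_of_hom_eq_zero {S : ShortComplex X.Modules} (hS : S.ShortExact)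
    (hA : FlatMod.IsFinLocFree S.X₁) (hQ : FlatMod.IsFinLocFree S.X₃)
    (h : ∀ g : S.X₁ ⟶ CohB1.tensorMod S.X₃ (omega k (X := X)), g = 0) : IsSplitEpi S.g := by
  refine isSplitEpi_of_h1 k hS hQ ((subsingleton_h1_iff_hom_omega k hdim
    (Coherent.CohBC.isCoh_of_isFinLocFree (Coherent.CohBC.isFinLocFree_internalHom hQ hA))).2 fun f => ?_)
  by_contra hf
  obtain ⟨g, hg⟩ := exists_hom_tensor hQ f hf
  exact hg (h g)

end Groth.Agent.VB5
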