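import Groth.Agent.Clifford24.SubSheaf
import Groth.Agent.AssSch12.Primary
import Groth.Agent.EulerLib.StabBasic
import Groth.Agent.CurveRR24.Degree
import Groth.Agent.Clifford24.StableFamily
import Groth.Agent.Coherent.CohBC.HomSheaf
import Groth.Agent.PicLib.FiniteSetTriv

/-!
# Generic rank and degree of coherent modules on a normal proper curve; saturation; slopes
-/

set_option autoImplicit false
set_option linter.style.haveILetI false
set_option linter.unusedSectionVars false
set_option backward.isDefEq.respectTransparency.types false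

universe u

open CategoryTheory CategoryTheory.Limits AlgebraicGeometry Opposite TopologicalSpace
open Groth.Agent.Coherent Groth.Agent.PicLib Groth.Agent.AmpleLib Groth.Agent.EulerLib Groth.Agent.CurveRR24

namespace Groth.Agent.VB5

variable {X : Scheme.{u}} [IsIntegral X]

/-- The dimension of the stalk at the generic point. -/
noncomputable def grk (G : X.Modules) : ℕ :=
  Module.finrank X.functionField (G.presheaf.stalk (genericPoint X))

theorem grk_congr {G H : X.Modules} (e : G ≅ H) : grk G = grk H :=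
  LinearEquiv.finrank_eq (R := X.functionField)
    ((DerSch.stalkFunctor X (genericPoint X)).mapIso e).toLinearEquiv

theorem grk_eq {r : ℕ} {E : X.Modules} (hE : FlatMod.IsFinLocFreeOfRank r E) : grk E = r := by
  obtain ⟨b⟩ := SplitP1.nonempty_basis_stalk hE (genericPoint X)
  exact (Module.finrank_eq_card_basis (R := X.functionField) b).trans (Fintype.card_fin r)

theorem grk_of_isZero {G : X.Modules} (h : IsZero G) : grk G = 0 := by
  haveI : Subsingleton (G.presheaf.stalk (genericPoint X)) :=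
    ModuleCat.isZero_iff_subsingleton.1 ((DerSch.stalkFunctor X (genericPoint X)).map_isZero h)
  exact Module.finrank_zero_of_subsingleton

theorem isZero_of_rank_zero {G : X.Modules} (h : FlatMod.IsFinLocFreeOfRank (grk G) G) (h0 : grk G = 0) :
    IsZero G :=
  Clifford24.isZero_of_rank_zero (h0 ▸ h)

variable [IsLocallyNoetherian X]

theorem finite_generic {G : X.Modules} (hG : Coh.IsCoh G) :
    Module.Finite X.functionField (G.presheaf.stalk (genericPoint X)) :=
  AssSch12.finite_stalk hG _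

theorem grk_additive {S : ShortComplex X.Modules} (hS : S.ShortExact) (h2 : Coh.IsCoh S.X₂) :
    grk S.X₂ = grk S.X₁ + grk S.X₃ := by
  let η := genericPoint X
  let F := X.functionField
  let St := DerSch.stalkFunctor X η
  have hSt := hS.map_of_exact St
  let i : S.X₁.presheaf.stalk η →ₗ[F] S.X₂.presheaf.stalk η := (St.map S.f).hom
  let q : S.X₂.presheaf.stalk η →ₗ[F] S.X₃.presheaf.stalk η := (St.map S.g).hom
  have hq : Function.Surjective q := (ModuleCat.epi_iff_surjective _).1 hSt.epi_g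
  have hi : Function.Injective i := (ModuleCat.mono_iff_injective _).1 hSt.mono_f
  have hker : LinearMap.ker q = LinearMap.range i :=
    (ShortComplex.Exact.moduleCat_range_eq_ker hSt.exact).symm
  haveI : Module.Finite F (S.X₂.presheaf.stalk η) := finite_generic h2
  have h := LinearMap.finrank_range_add_finrank_ker q
  rw [hker, LinearMap.range_eq_top.2 hq, finrank_top, LinearMap.finrank_range_of_inj hi] at h
  exact h.symm.trans (add_comm _ _)

/-- The projection to the torsion-free quotient is injective at the generic point. -/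
theorem injective_primπ_generic {Q : X.Modules} (hQ : Coh.IsCoh Q) :
    Function.Injective ((DerSch.stalkFunctor X (genericPoint X)).map
      (AssSch12.primπ (genericPoint X) Q hQ)).hom := by
  refine (injective_iff_map_eq_zero _).2 fun m hm => ?_
  obtain ⟨W, hW, s, rfl⟩ := TopCat.Presheaf.exists_germ_eq Q.presheaf m
  have h0 : (AssSch12.prim _ Q hQ).presheaf.germ W _ hW ((AssSch12.primπ (genericPoint X) Q hQ).app W s) = 0 :=
    (AssSch12.stalkFunctor_map_germ _ hW s).symm.trans hm
  obtain ⟨W', hW', i, j, he⟩ := TopCat.Presheaf.germ_eq _ _ hW hW _ 0 (h0.trans (map_zero _).symm)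
  rw [map_zero] at he
  have h1 : (AssSch12.primπ (genericPoint X) Q hQ).app W' (Q.presheaf.map i.op s) = 0 := by
    rw [← he]
    exact ConcreteCategory.congr_hom ((AssSch12.primπ (genericPoint X) Q hQ).mapPresheaf.naturality i.op) s
  have h2 := (AssSch12.primMap_app_eq_zero_iff _ Q hQ W' _).1
    ((AssSch12.primπ_app_eq_zero_iff _ Q hQ W' _).1 h1) hW'
  have hm : IsLocalRing.maximalIdeal (X.presheaf.stalk (genericPoint X)) = ⊥ :=
    IsLocalRing.isField_iff_maximalIdeal_eq.1 (Field.toIsField X.functionField)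
  have hk : AssSch12.expo (genericPoint X) Q hQ ≠ 0 :=
    (AssSch12.exists_exponent Q hQ (genericPoint X)).choose_spec.1.ne'
  rw [hm, Ideal.bot_pow hk, Submodule.bot_smul,
    Submodule.mem_bot, TopCat.Presheaf.germ_res_apply] at h2
  exact h2

/-- Nonzero functions act injectively on the stalks of the torsion-free quotient. -/
theorem eq_zero_of_germ_generic {Q : X.Modules} (hQ : Coh.IsCoh Q) {y : X} {W : X.Opens} (hy : y ∈ W)
    (s : Γ(AssSch12.prim (genericPoint X) Q hQ, W))
    (h : (AssSch12.prim (genericPoint X) Q hQ).presheaf.germ W (genericPoint X)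
      (((genericPoint_spec X).mem_open_set_iff W.2).2 ⟨y, trivial, hy⟩) s = 0) :
    (AssSch12.prim (genericPoint X) Q hQ).presheaf.germ W y hy s = 0 := by
  let π := AssSch12.primπ (genericPoint X) Q hQ
  haveI : Epi π := inferInstanceAs (Epi (AssSch12.primπ (genericPoint X) Q hQ))
  obtain ⟨W₁, hW₁, hyW₁, t, ht⟩ := Coherent.exists_lift_of_epi π W s y hy
  have hη₁ : genericPoint X ∈ W₁ := ((genericPoint_spec X).mem_open_set_iff W₁.2).2 ⟨y, trivial, hyW₁⟩
  have h1 : (DerSch.stalkFunctor X (genericPoint X)).map π (Q.presheaf.germ W₁ _ hη₁ t) = 0 := by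
    refine (AssSch12.stalkFunctor_map_germ _ hη₁ t).trans ?_
    rw [show π.app W₁ t = _ from ht]
    exact (TopCat.Presheaf.germ_res_apply _ _ _ hη₁ s).trans h
  have h2 : Q.presheaf.germ W₁ _ hη₁ t = 0 :=
    injective_primπ_generic hQ (h1.trans (map_zero _).symm)
  have h3 : π.app W₁ t = 0 := by
    refine (AssSch12.primπ_app_eq_zero_iff _ Q hQ W₁ t).2
      ((AssSch12.primMap_app_eq_zero_iff _ Q hQ W₁ t).2 fun _ => ?_)
    rw [show Q.presheaf.germ W₁ _ _ t = 0 from h2]
    exact zero_mem _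
  rw [ht] at h3
  rw [← TopCat.Presheaf.germ_res_apply _ (homOfLE hW₁) y hyW₁ s]
  exact (congrArg ((AssSch12.prim (genericPoint X) Q hQ).presheaf.germ W₁ y hyW₁) h3).trans (map_zero _)

/-- The torsion-free quotient is locally free on a normal curve. -/
theorem isFinLocFreeOfRank_prim (h1 : topologicalKrullDim X ≤ 1)
    (hn : ∀ x : X, IsIntegrallyClosed (X.presheaf.stalk x)) {Q : X.Modules} (hQ : Coh.IsCoh Q) :
    FlatMod.IsFinLocFreeOfRank (grk (AssSch12.prim (genericPoint X) Q hQ))
      (AssSch12.prim (genericPoint X) Q hQ) := by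
  classical
  set P := AssSch12.prim (genericPoint X) Q hQ with hP
  have hPc : Coh.IsCoh P := AssSch12.isCoh_prim _ Q hQ
  haveI := hPc.1
  intro x
  let R := X.presheaf.stalk x
  haveI : IsPrincipalIdealRing R := CurvesLib24.isPrincipalIdealRing_stalk h1 x (hn x)
  haveI : Module.Finite R (P.presheaf.stalk x) := AssSch12.finite_stalk hPc x
  haveI : Module.IsTorsionFree R (P.presheaf.stalk x) := .of_smul_eq_zero fun a m ham =>
    or_iff_not_imp_left.2 fun ha => by
      obtain ⟨U, hxU, f, rfl⟩ := X.presheaf.exists_germ_eq (x := x) a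
      obtain ⟨V, hxV, s, rfl⟩ := TopCat.Presheaf.exists_germ_eq P.presheaf m
      let W := U ⊓ V
      have hxW : x ∈ W := ⟨hxU, hxV⟩
      have hηW : genericPoint X ∈ W := ((genericPoint_spec X).mem_open_set_iff W.2).2 ⟨x, trivial, hxW⟩
      rw [← X.presheaf.germ_res_apply (Opens.infLELeft U V) x hxW f] at ha ham
      rw [← TopCat.Presheaf.germ_res_apply P.presheaf (Opens.infLERight U V) x hxW s] at ham ⊢
      generalize X.presheaf.map (Opens.infLELeft U V).op f = f' at ha ham
      generalize P.presheaf.map (Opens.infLERight U V).op s = s' at ham ⊢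
      rw [← QCohLoc.germ_smul' P hxW] at ham
      obtain ⟨W', hxW', i, j, he⟩ := TopCat.Presheaf.germ_eq _ _ hxW hxW _ 0 (ham.trans (map_zero _).symm)
      rw [map_zero] at he
      refine eq_zero_of_germ_generic hQ hxW s' ?_
      have hη' : genericPoint X ∈ W' := ((genericPoint_spec X).mem_open_set_iff W'.2).2 ⟨x, trivial, hxW'⟩
      have h0 := congrArg (P.presheaf.germ W' _ hη') he
      rw [TopCat.Presheaf.germ_res_apply, map_zero, QCohLoc.germ_smul'] at h0
      refine (smul_eq_zero (R := X.functionField)).1 h0 |>.resolve_left fun hf => ?_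
      haveI : Nonempty W := ⟨⟨x, hxW⟩⟩
      exact ha ((congrArg (X.presheaf.germ W x hxW) (germ_injective_of_isIntegral X (U := W) _ hηW
        (hf.trans (map_zero _).symm))).trans (map_zero _))
  obtain ⟨U, n, hxU, ⟨e⟩⟩ := Props12.exists_nhd_free P (isFP_of_isCoh hPc) x inferInstance
  obtain ⟨bn⟩ := Clifford24.nonempty_basis_stalk_local e (((genericPoint_spec X).mem_open_set_iff U.2).2 ⟨x, trivial, hxU⟩)
  have hns : n = grk P :=
    ((Module.finrank_eq_card_basis (R := X.functionField) bn).trans (Fintype.card_fin n)).symm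
  exact ⟨U, hxU, ⟨hns ▸ e⟩⟩

theorem exists_tf_quotient (h1 : topologicalKrullDim X ≤ 1)
    (hn : ∀ x : X, IsIntegrallyClosed (X.presheaf.stalk x)) {Q : X.Modules} (hQ : Coh.IsCoh Q) :
    ∃ (P : X.Modules) (π : Q ⟶ P), Epi π ∧ FlatMod.IsFinLocFreeOfRank (grk Q) P ∧
      grk (kernel π) = 0 := by
  let π := AssSch12.primπ (genericPoint X) Q hQ
  haveI : Epi π := inferInstanceAs (Epi (AssSch12.primπ (genericPoint X) Q hQ))
  have hP : Coh.IsCoh (AssSch12.prim (genericPoint X) Q hQ) := AssSch12.isCoh_prim _ Q hQ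
  have hadd := grk_additive (EulerLib.shortExact_kernel π) hQ
  change grk Q = grk (kernel π) + grk (AssSch12.prim (genericPoint X) Q hQ) at hadd
  have hle : grk Q ≤ grk (AssSch12.prim (genericPoint X) Q hQ) := by
    haveI := finite_generic hP
    exact LinearMap.finrank_le_finrank_of_injective (injective_primπ_generic hQ)
  refine ⟨_, π, inferInstance, ?_, by omega⟩
  have h := isFinLocFreeOfRank_prim h1 hn hQ
  rwa [show grk Q = grk (AssSch12.prim (genericPoint X) Q hQ) by omega]

/-- Coherent submodules of bundles are bundles. -/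
theorem sub_bundle (h1 : topologicalKrullDim X ≤ 1) (hn : ∀ x : X, IsIntegrallyClosed (X.presheaf.stalk x))
    {r : ℕ} {G E : X.Modules} (hE : FlatMod.IsFinLocFreeOfRank r E) (ι : G ⟶ E) [Mono ι] (hG : Coh.IsCoh G) :
    grk G ≤ r ∧ FlatMod.IsFinLocFreeOfRank (grk G) G := by
  obtain ⟨s, hs, hGs⟩ := Clifford24.isFinLocFreeOfRank_of_mono h1 hn hG hE ι
  rw [grk_eq hGs]
  exact ⟨hs, hGs⟩

variable (k : Type u) [Field k] [X.Over (Spec (CommRingCat.of k))]

/-- The degree of a coherent module. -/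
noncomputable def gdeg (G : X.Modules) : ℤ :=
  Curv2.euler k X G - (grk G : ℤ) * Curv2.euler k X (Coh.structureModule X)

theorem deg_eq_gdeg {r : ℕ} {E : X.Modules} (hE : FlatMod.IsFinLocFreeOfRank r E) :
    Curv2.deg k X E r = gdeg k E := by
  rw [gdeg, grk_eq hE]; rfl

variable [IsProper (X ↘ Spec (CommRingCat.of k))]

theorem gdeg_congr {G H : X.Modules} (e : G ≅ H) : gdeg k G = gdeg k H := by
  have h := CurveRR24.deg_congr k e (grk G)
  rw [gdeg, gdeg, grk_congr e.symm]
  exact h

theorem gdeg_additive {S : ShortComplex X.Modules} (hS : S.ShortExact) (h1 : Coh.IsCoh S.X₁)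
    (h2 : Coh.IsCoh S.X₂) (h3 : Coh.IsCoh S.X₃) : gdeg k S.X₂ = gdeg k S.X₁ + gdeg k S.X₃ := by
  rw [gdeg, gdeg, gdeg, euler_additive k X S hS h1 h2 h3, grk_additive hS h2]
  push_cast
  ring

theorem gdeg_of_isZero {G : X.Modules} (hG : Coh.IsCoh G) (h : IsZero G) : gdeg k G = 0 := by
  have hS : (ShortComplex.mk (𝟙 G) (0 : G ⟶ G) (by simp)).ShortExact :=
    haveI : Epi (0 : G ⟶ G) := ⟨fun a b _ => h.eq_of_src a b⟩
    { exact := ShortComplex.exact_of_f_is_kernel _ (KernelFork.IsLimit.ofId _ rfl) }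
  have := gdeg_additive k hS hG hG hG
  change gdeg k G = gdeg k G + gdeg k G at this
  omega

variable (hdim : topologicalKrullDim X = 1)
include hdim

/-- Torsion modules have degree `h⁰ ≥ 0`, and vanish if it is zero. -/
theorem torsion_deg {Q : X.Modules} (hQ : Coh.IsCoh Q) (h0 : grk Q = 0) :
    0 ≤ gdeg k Q ∧ (gdeg k Q = 0 → IsZero Q) := by
  have hηQ : genericPoint X ∉ CohB1.support Q := by
    refine (Coherent.notMem_support_iff _ _).2 (ModuleCat.isZero_iff_subsingleton.2 ?_)
    haveI := finite_generic hQ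
    exact (Module.finrank_zero_iff (R := X.functionField) (M := Q.presheaf.stalk (genericPoint X))).1 h0
  have hsupp : IsClosed (CohB1.support Q) :=
    Coherent.isClosed_support _ (Coherent.locallyFinGen_of_isFT _ hQ.2)
  obtain ⟨hfin, hpts, -⟩ := closed_small k hdim.le hsupp hηQ
  have he := euler_eq_h0_of_small k hdim.le hQ.1 hsupp hηQ subset_rfl
  haveI := finite_HH_of_isCoh k hQ 0
  rw [gdeg, h0, Nat.cast_zero, zero_mul, sub_zero, he]
  refine ⟨Int.natCast_nonneg _, fun hz => ?_⟩
  haveI : Subsingleton (Coh.HH X Q 0) := (Module.finrank_zero_iff (R := k)).1 (by exact_mod_cast hz)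
  haveI : Subsingleton (GA (baseHom k X) Q) := (hhZero k Q).symm.toEquiv.subsingleton
  exact isZero_of_finite_support hfin hpts subset_rfl fun t =>
    Subsingleton.elim (α := GA (baseHom k X) Q) t 0

/-- A full rank submodule has at most the degree, equal only if it is everything. -/
theorem full_rank {G E : X.Modules} (ι : G ⟶ E) [Mono ι] (hG : Coh.IsCoh G) (hE : Coh.IsCoh E)
    (hr : grk G = grk E) : gdeg k G ≤ gdeg k E ∧ (gdeg k G = gdeg k E → IsIso ι) := by
  have hQ := Coherent.isCoh_cokernel ι hG.1 hE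
  have hS := EulerLib.shortExact_cokernel ι
  have h1 := gdeg_additive k hS hG hE hQ
  have h2 := grk_additive hS hE
  change gdeg k E = gdeg k G + gdeg k (cokernel ι) at h1
  change grk E = grk G + grk (cokernel ι) at h2
  obtain ⟨h3, h4⟩ := torsion_deg k hdim hQ (by omega)
  refine ⟨by omega, fun he => ?_⟩
  haveI : Epi ι := Abelian.epi_of_cokernel_π_eq_zero _ ((h4 (by omega)).eq_of_tgt _ _)
  exact isIso_of_mono_of_epi ι

variable (hn : ∀ x : X, IsIntegrallyClosed (X.presheaf.stalk x))
include hn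

/-- Saturation. -/
theorem exists_saturation {r : ℕ} {G E : X.Modules} (hE : FlatMod.IsFinLocFreeOfRank r E) (ι : G ⟶ E)
    [Mono ι] (hG : Coh.IsCoh G) :
    ∃ (G' P : X.Modules) (j : G' ⟶ E) (p : E ⟶ P), Mono j ∧ Epi p ∧
      FlatMod.IsFinLocFreeOfRank (grk G) G' ∧ FlatMod.IsFinLocFreeOfRank (r - grk G) P ∧
      gdeg k G ≤ gdeg k G' ∧ gdeg k E = gdeg k G' + gdeg k P := by
  haveI := EulerLib.isNoetherian_of_proper k (X := X)
  have hEc : Coh.IsCoh E := SplitP1.isCoh_of_rank hE
  have hQ := Coherent.isCoh_cokernel ι hG.1 hEc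
  obtain ⟨P, π, hπ, hP, hT⟩ := exists_tf_quotient hdim.le hn hQ
  haveI := hπ
  have hPc : Coh.IsCoh P := SplitP1.isCoh_of_rank hP
  let p := cokernel.π ι ≫ π
  haveI : Epi p := epi_comp _ _
  have hK := Coherent.isCoh_kernel p hEc hPc.1
  have hTc := Coherent.isCoh_kernel π hQ hPc.1
  have r1 := grk_additive (EulerLib.shortExact_cokernel ι) hEc
  have r2 := grk_additive (EulerLib.shortExact_kernel p) hEc
  change grk E = grk G + grk (cokernel ι) at r1
  change grk E = grk (kernel p) + grk P at r2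
  have d1 := gdeg_additive k (EulerLib.shortExact_cokernel ι) hG hEc hQ
  have d2 := gdeg_additive k (EulerLib.shortExact_kernel p) hK hEc hPc
  have d3 := gdeg_additive k (EulerLib.shortExact_kernel π) hTc hQ hPc
  change gdeg k E = gdeg k G + gdeg k (cokernel ι) at d1
  change gdeg k E = gdeg k (kernel p) + gdeg k P at d2
  change gdeg k (cokernel ι) = gdeg k (kernel π) + gdeg k P at d3
  have d4 := (torsion_deg k hdim hTc hT).1
  rw [grk_eq hP] at r2
  rw [grk_eq hE] at r1 r2
  refine ⟨kernel p, P, kernel.ι p, p, inferInstance, inferInstance, ?_, ?_, by omega, d2⟩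
  · have h := (sub_bundle hdim.le hn hE (kernel.ι p) hK).2
    rwa [show grk (kernel p) = grk G by omega] at h
  · rwa [show r - grk G = grk (cokernel ι) by omega]

include k in
/-- Image factorisation of a map of bundles. -/
theorem exists_image {r s : ℕ} {E F : X.Modules} (hE : FlatMod.IsFinLocFreeOfRank r E)
    (hF : FlatMod.IsFinLocFreeOfRank s F) (φ : E ⟶ F) :
    ∃ (I : X.Modules) (p : E ⟶ I) (j : I ⟶ F), Epi p ∧ Mono j ∧ p ≫ j = φ ∧ Coh.IsCoh I ∧
      (φ ≠ 0 → 0 < grk I) := by
  haveI := EulerLib.isNoetherian_of_proper k (X := X)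
  have hEc : Coh.IsCoh E := SplitP1.isCoh_of_rank hE
  have hFc : Coh.IsCoh F := SplitP1.isCoh_of_rank hF
  have hK := Coherent.isCoh_kernel φ hEc hFc.1
  have hI : Coh.IsCoh (Abelian.coimage φ) := Coherent.isCoh_cokernel (kernel.ι φ) hK.1 hEc
  haveI : Mono (Abelian.factorThruCoimage φ) := inferInstance
  refine ⟨Abelian.coimage φ, Abelian.coimage.π φ, Abelian.factorThruCoimage φ, inferInstance, inferInstance,
    Abelian.coimage.fac φ, hI, fun hφ => ?_⟩
  obtain ⟨-, hIf⟩ := sub_bundle hdim.le hn hF (Abelian.factorThruCoimage φ) hI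
  by_contra h0
  have hz := isZero_of_rank_zero hIf (by omega)
  exact hφ (by rw [← Abelian.coimage.fac φ, hz.eq_of_tgt (Abelian.coimage.π φ) 0, zero_comp])

omit hdim hn

/-- Slope semistability on coherent submodules. -/
def SS (E : X.Modules) : Prop :=
  ∀ (G : X.Modules) (ι : G ⟶ E), Mono ι → Coh.IsCoh G → gdeg k G * (grk E : ℤ) ≤ gdeg k E * (grk G : ℤ)

/-- Slope stability on coherent submodules. -/
def ST (E : X.Modules) : Prop :=
  ∀ (G : X.Modules) (ι : G ⟶ E), Mono ι → Coh.IsCoh G → 0 < grk G → ¬ IsIso ι →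
    gdeg k G * (grk E : ℤ) < gdeg k E * (grk G : ℤ)

include hdim hn

theorem zero_rank_sub {r : ℕ} {G E : X.Modules} (hE : FlatMod.IsFinLocFreeOfRank r E) (ι : G ⟶ E)
    [Mono ι] (hG : Coh.IsCoh G) (h0 : grk G = 0) : IsZero G ∧ gdeg k G = 0 := by
  have hz := isZero_of_rank_zero (sub_bundle hdim.le hn hE ι hG).2 h0
  exact ⟨hz, gdeg_of_isZero k hG hz⟩

theorem ST.ss {r : ℕ} {E : X.Modules} (hE : FlatMod.IsFinLocFreeOfRank r E) (h : ST k E) : SS k E := by
  intro G ι hι hG
  rcases Nat.eq_zero_or_pos (grk G) with h0 | hpos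
  · rw [(zero_rank_sub k hdim hn hE ι hG h0).2, h0]; simp
  · by_cases hi : IsIso ι
    · rw [gdeg_congr k (asIso ι), grk_congr (asIso ι)]
    · exact (h G ι hι hG hpos hi).le

theorem ss_iff {r : ℕ} {E : X.Modules} (hE : FlatMod.IsFinLocFreeOfRank r E) :
    SS k E ↔ ∀ (G : X.Modules) (r' : ℕ) (i : G ⟶ E), Mono i → 0 < r' → FlatMod.IsFinLocFreeOfRank r' G →
      Curv2.deg k X G r' * (r : ℤ) ≤ Curv2.deg k X E r * (r' : ℤ) := by
  constructor
  · intro h G r' i hi _ hG
    haveI := hi
    have := h G i hi (SplitP1.isCoh_of_rank hG)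
    rwa [deg_eq_gdeg k hG, deg_eq_gdeg k hE, ← grk_eq hG, ← grk_eq hE]
  · intro h G ι hι hG
    rcases Nat.eq_zero_or_pos (grk G) with h0 | hpos
    · rw [(zero_rank_sub k hdim hn hE ι hG h0).2, h0]; simp
    · have hGf := (sub_bundle hdim.le hn hE ι hG).2
      have := h G _ ι hι hpos hGf
      rwa [deg_eq_gdeg k hGf, deg_eq_gdeg k hE, ← grk_eq hE] at this

theorem st_iff {r : ℕ} {E : X.Modules} (hE : FlatMod.IsFinLocFreeOfRank r E) :
    ST k E ↔ ∀ (G : X.Modules) (r' : ℕ) (i : G ⟶ E), Mono i → 0 < r' → FlatMod.IsFinLocFreeOfRank r' G →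
      (¬ IsIso i) → Curv2.deg k X G r' * (r : ℤ) < Curv2.deg k X E r * (r' : ℤ) := by
  constructor
  · intro h G r' i hi hr hG hni
    have := h G i hi (SplitP1.isCoh_of_rank hG) (grk_eq hG ▸ hr) hni
    rwa [deg_eq_gdeg k hG, deg_eq_gdeg k hE, ← grk_eq hG, ← grk_eq hE]
  · intro h G ι hι hG hpos hni
    have hGf := (sub_bundle hdim.le hn hE ι hG).2
    have := h G _ ι hι hpos hGf hni
    rwa [deg_eq_gdeg k hGf, deg_eq_gdeg k hE, ← grk_eq hE] at this

/-- Stability tested on submodules of smaller positive rank. -/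
theorem st_iff_lt {r : ℕ} {E : X.Modules} (hE : FlatMod.IsFinLocFreeOfRank r E) :
    ST k E ↔ ∀ (G : X.Modules) (r' : ℕ) (i : G ⟶ E), Mono i → 0 < r' → r' < r →
      FlatMod.IsFinLocFreeOfRank r' G → Curv2.deg k X G r' * (r : ℤ) < Curv2.deg k X E r * (r' : ℤ) := by
  constructor
  · intro h G r' i hi hr hlt hG
    refine (st_iff k hdim hn hE).1 h G r' i hi hr hG fun hiso => ?_
    have := grk_congr (asIso i)
    rw [grk_eq hG, grk_eq hE] at this
    omega
  · intro h G ι hι hG hpos hni
    obtain ⟨hle, hGf⟩ := sub_bundle hdim.le hn hE ι hG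
    rcases hle.lt_or_eq with hlt | heq
    · have := h G _ ι hι hpos hlt hGf
      rwa [deg_eq_gdeg k hGf, deg_eq_gdeg k hE, ← grk_eq hE] at this
    · rw [← grk_eq hE] at heq
      obtain ⟨hd, he⟩ := full_rank k hdim ι hG (SplitP1.isCoh_of_rank hE) heq
      rw [heq]
      exact Int.mul_lt_mul_of_pos_right (lt_of_le_of_ne hd fun e => hni (he e)) (by omega)

omit hdim hn in
theorem SS.quot {E I : X.Modules} (h : SS k E) (hEc : Coh.IsCoh E) (p : E ⟶ I) [Epi p] (hI : Coh.IsCoh I) :
    gdeg k E * (grk I : ℤ) ≤ gdeg k I * (grk E : ℤ) := by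
  have hK := Coherent.isCoh_kernel p hEc hI.1
  have h1 := h _ (kernel.ι p) inferInstance hK
  have hd := gdeg_additive k (EulerLib.shortExact_kernel p) hK hEc hI
  have hr := grk_additive (EulerLib.shortExact_kernel p) hEc
  change gdeg k E = gdeg k (kernel p) + gdeg k I at hd
  change grk E = grk (kernel p) + grk I at hr
  rw [hd, hr] at h1 ⊢
  push_cast at h1 ⊢
  linarith

theorem ST.quot {r : ℕ} {E I : X.Modules} (h : ST k E) (hE : FlatMod.IsFinLocFreeOfRank r E) (p : E ⟶ I)
    [Epi p] (hI : Coh.IsCoh I) (hI0 : 0 < grk I) (hp : ¬ IsIso p) :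
    gdeg k E * (grk I : ℤ) < gdeg k I * (grk E : ℤ) := by
  have hEc : Coh.IsCoh E := SplitP1.isCoh_of_rank hE
  have hK := Coherent.isCoh_kernel p hEc hI.1
  rcases Nat.eq_zero_or_pos (grk (kernel p)) with h0 | hpos
  · haveI : Mono p := Preadditive.mono_of_isZero_kernel _
      (zero_rank_sub k hdim hn hE (kernel.ι p) hK h0).1
    exact absurd (isIso_of_mono_of_epi p) hp
  have hd := gdeg_additive k (EulerLib.shortExact_kernel p) hK hEc hI
  have hr := grk_additive (EulerLib.shortExact_kernel p) hEc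
  change gdeg k E = gdeg k (kernel p) + gdeg k I at hd
  change grk E = grk (kernel p) + grk I at hr
  have h1 := h _ (kernel.ι p) inferInstance hK hpos fun hiso => by
    have := grk_congr (asIso (kernel.ι p))
    omega
  rw [hd, hr] at h1 ⊢
  push_cast at h1 ⊢
  linarith

omit hdim hn

theorem isIntegrallyClosed_stalk [Smooth (X ↘ Spec (CommRingCat.of k))] (P : X) :
    IsIntegrallyClosed (X.presheaf.stalk P) := by
  haveI := Groth.Agent.VarietyLib.isRegularLocalRing_stalk_of_smooth k X (X ↘ Spec (CommRingCat.of k)) P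
  exact Groth.Agent.CAlgH3.isIntegrallyClosed_of_regular _

/-- A nonzero map between stable bundles of equal slope is an isomorphism. -/
theorem isIso_of_st (hdim : topologicalKrullDim X = 1)
    (hn : ∀ x : X, IsIntegrallyClosed (X.presheaf.stalk x)) {r s : ℕ} {E F : X.Modules}
    (hE : FlatMod.IsFinLocFreeOfRank r E) (hF : FlatMod.IsFinLocFreeOfRank s F) (hEst : ST k E) (hFst : ST k F)
    (hr : 0 < r) (hs : 0 < s)
    (hμ : Curv2.deg k X E r * (s : ℤ) = Curv2.deg k X F s * (r : ℤ))
    (f : E ⟶ F) (hf : f ≠ 0) : IsIso f := by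
  obtain ⟨I, p, j, hp, hj, hpj, hI, hI0⟩ := exists_image k hdim hn hE hF f
  have hc : (0 : ℤ) < (grk I : ℤ) := by exact_mod_cast hI0 hf
  have hr' : (0 : ℤ) < r := by exact_mod_cast hr
  have hs' : (0 : ℤ) < s := by exact_mod_cast hs
  rw [deg_eq_gdeg k hE, deg_eq_gdeg k hF] at hμ
  have hle2 := (ST.ss k hdim hn hF hFst) I j hj hI
  have hle1 := (ST.ss k hdim hn hE hEst).quot k (SplitP1.isCoh_of_rank hE) p hI
  rw [grk_eq hE] at hle1
  rw [grk_eq hF] at hle2
  have key : gdeg k E * (grk I : ℤ) * (s : ℤ) = gdeg k F * (grk I : ℤ) * (r : ℤ) := by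
    rw [mul_right_comm, hμ, mul_right_comm]
  by_contra hni
  have hcase : ¬ IsIso p ∨ ¬ IsIso j := by
    by_contra h
    push Not at h
    haveI := h.1; haveI := h.2
    exact hni (hpj ▸ inferInstance)
  rcases hcase with h | h
  · have := hEst.quot k hdim hn hE p hI (hI0 hf) h
    rw [grk_eq hE] at this
    nlinarith [mul_lt_mul_of_pos_right this hs', mul_le_mul_of_nonneg_right hle2 hr'.le]
  · have := hFst I j hj hI (hI0 hf) h
    rw [grk_eq hF] at this
    nlinarith [mul_lt_mul_of_pos_right this hr', mul_le_mul_of_nonneg_right hle1 hs'.le]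

theorem not_isZero_of_grk {r : ℕ} {E : X.Modules} (hE : FlatMod.IsFinLocFreeOfRank r E) (hr : 0 < r) :
    ¬ IsZero E := fun h => by
  have := grk_of_isZero h
  rw [grk_eq hE] at this
  omega

omit [IsIntegral X] in
/-- A module whose nonzero endomorphisms are invertible is indecomposable. -/
theorem indecomposable_of_endo {E E₁ E₂ : X.Modules} (h : ∀ ψ : E ⟶ E, ψ ≠ 0 → IsIso ψ) (e : E ≅ E₁ ⊞ E₂) :
    IsZero E₁ ∨ IsZero E₂ := by
  let ψ : E ⟶ E := e.hom ≫ biprod.fst ≫ biprod.inl ≫ e.inv
  by_cases hψ : ψ = 0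
  · refine Or.inl ((IsZero.iff_id_eq_zero _).2 ?_)
    have h2 := congrArg (fun t => biprod.inl ≫ e.inv ≫ t ≫ e.hom ≫ biprod.fst) hψ
    simpa [ψ] using h2
  · refine Or.inr ((IsZero.iff_id_eq_zero _).2 ?_)
    haveI := h ψ hψ
    have h1 : (biprod.inr ≫ e.inv) ≫ ψ = 0 := by simp [ψ]
    have h2 : biprod.inr ≫ e.inv = 0 := (cancel_mono ψ).1 (h1.trans zero_comp.symm)
    have h3 := congrArg (fun t => t ≫ e.hom ≫ biprod.snd) h2
    simpa using h3

/-- A finite locally free module on an integral scheme has a rank. -/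
theorem exists_rank {E : X.Modules} (hE : FlatMod.IsFinLocFree E) : ∃ r, FlatMod.IsFinLocFreeOfRank r E := by
  refine ⟨grk E, fun x => ?_⟩
  obtain ⟨U, n, hxU, ⟨e⟩⟩ := hE x
  haveI : Coh.IsQCoh E := (Coherent.CohBC.isCoh_of_isFinLocFree hE).1
  obtain ⟨b⟩ := Clifford24.nonempty_basis_stalk_local e (((genericPoint_spec X).mem_open_set_iff U.2).2 ⟨x, trivial, hxU⟩)
  rw [show grk E = n from (Module.finrank_eq_card_basis (R := X.functionField) b).trans (Fintype.card_fin n)]
  exact ⟨U, hxU, ⟨e⟩⟩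

theorem rank_one {L : X.Modules} (hL : PicF.IsInvertible L) : grk L = 1 :=
  grk_eq (PicLib.isFinLocFreeOfRank_one hL)

end Groth.Agent.VB5
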