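import Groth.Agent.VB5.MaxDestab
import Groth.Agent.VB5.Vanish

/-!
# Sections of bundles on a curve
-/

set_option autoImplicit false
set_option linter.style.haveILetI false
set_option linter.unusedSectionVars false
set_option backward.isDefEq.respectTransparency.types false

universe u

open CategoryTheory CategoryTheory.Limits AlgebraicGeometry Opposite TopologicalSpace
open Groth.Agent.Coherent Groth.Agent.PicLib Groth.Agent.AmpleLib Groth.Agent.EulerLib Groth.Agent.CurveRR24

namespace Groth.Agent.VB5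

variable {X : Scheme.{u}} [IsIntegral X] [IsLocallyNoetherian X]
  (k : Type u) [Field k] [X.Over (Spec (CommRingCat.of k))] [IsProper (X ↘ Spec (CommRingCat.of k))]
  [Smooth (X ↘ Spec (CommRingCat.of k))] [GeometricallyIntegral (X ↘ Spec (CommRingCat.of k))]
  (hdim : topologicalKrullDim X = 1)
include k hdim

theorem gdeg_structure : gdeg k (Coh.structureModule X) = 0 := by
  rw [← deg_line k AmpleLib.isInvertible_structureModule, CurveRR24.deg_structure]

/-- Riemann–Roch in the generic-rank normalisation. -/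
theorem euler_eq_gdeg (F : X.Modules) :
    Curv2.euler k X F = gdeg k F + (grk F : ℤ) * (1 - (Curv2.genus k X : ℤ)) := by
  rw [gdeg, euler_structure_eq k hdim]
  ring

theorem gdeg_le_h0_add {F : X.Modules} (hF : Coh.IsCoh F) :
    gdeg k F + (grk F : ℤ) * (1 - (Curv2.genus k X : ℤ)) ≤ (Module.finrank k (Coh.HH X F 0) : ℤ) := by
  rw [← euler_eq_gdeg k hdim]
  exact euler_le_h0' k hdim hF

theorem subsingleton_h1_iff_h0 {F : X.Modules} (hF : Coh.IsCoh F) :
    Subsingleton (Coh.HH X F 1) ↔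
      gdeg k F + (grk F : ℤ) * (1 - (Curv2.genus k X : ℤ)) = (Module.finrank k (Coh.HH X F 0) : ℤ) := by
  rw [← euler_eq_gdeg k hdim]
  exact subsingleton_h1_iff k hdim hF

theorem exists_line_deg [IsAlgClosed k] (d : ℤ) : ∃ L : X.Modules, PicF.IsInvertible L ∧ gdeg k L = d := by
  haveI := LocallyOfFiniteType.jacobsonSpace (X ↘ Spec (CommRingCat.of k))
  obtain ⟨P, -, hP⟩ := nonempty_inter_closedPoints (X := X) Set.univ_nonempty isClosed_univ.isLocallyClosed
  have h1 := CurveRR24.deg_mem_degGroup k hdim hP (isIntegrallyClosed_stalk k P)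
  rw [finrank_resField k hP] at h1
  have h2 := (CurveRR24.degGroup k hdim.le).zsmul_mem h1 d
  simp only [smul_eq_mul, Nat.cast_one, mul_one] at h2
  obtain ⟨L, hL, hd⟩ := h2
  exact ⟨L, hL, (deg_line k hL).symm.trans hd⟩

theorem gdeg_inverse {N M : X.Modules} (hN : PicF.IsInvertible N) (hM : PicF.IsInvertible M)
    (e : CohB1.tensorMod N M ≅ Coh.structureModule X) : gdeg k M = - gdeg k N := by
  rw [← deg_line k hM, ← deg_line k hN, CurveRR24.deg_inverse k hdim.le hN hM e]

theorem gdeg_tensor_line {N M : X.Modules} (hN : PicF.IsInvertible N) (hM : PicF.IsInvertible M) :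
    gdeg k (CohB1.tensorMod N M) = gdeg k N + gdeg k M := by
  rw [← deg_line k hM, ← deg_line k hN, ← deg_line k (AmpleLib.isInvertible_tensorMod hN hM),
    CurveRR24.deg_tensor k hdim.le hN hM]

/-- A submodule of full rank loses at most the degree drop in sections. -/
theorem h0_le_of_full_sub {G E : X.Modules} (ι : G ⟶ E) [Mono ι] (hG : Coh.IsCoh G) (hE : Coh.IsCoh E)
    (hr : grk G = grk E) :
    (Module.finrank k (Coh.HH X E 0) : ℤ) ≤ Module.finrank k (Coh.HH X G 0) + (gdeg k E - gdeg k G) := by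
  have hQ := Coherent.isCoh_cokernel ι hG.1 hE
  have hS := EulerLib.shortExact_cokernel ι
  have h1 := grk_additive hS hE
  change grk E = grk G + grk (cokernel ι) at h1
  have h2 := gdeg_additive k hS hG hE hQ
  change gdeg k E = gdeg k G + gdeg k (cokernel ι) at h2
  have hQ0 : grk (cokernel ι) = 0 := by omega
  have h3 := euler_eq_gdeg k hdim (cokernel ι)
  rw [euler_eq_h0 k hdim hQ hQ0, hQ0] at h3
  have h4 := Clifford24.h0_le_kernel_add k hE hQ (cokernel.π ι)
  have hiso := CurveRR24.finrank_HH_congr k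
    (hS.fIsKernel.conePointUniqueUpToIso (kernelIsKernel (cokernel.π ι))) 0
  change Module.finrank k (Coh.HH X G 0) = Module.finrank k (Coh.HH X (kernel (cokernel.π ι)) 0) at hiso
  simp only [Nat.cast_zero, zero_mul, add_zero] at h3
  omega

theorem h0_le_twist [IsAlgClosed k] {r : ℕ} {E : X.Modules} (hE : FlatMod.IsFinLocFreeOfRank r E)
    {P : X} (hP : IsClosed ({P} : Set X)) :
    (Module.finrank k (Coh.HH X E 0) : ℤ) ≤
      Module.finrank k (Coh.HH X (CohB1.tensorMod E (ClSub.idealMod (ptIdeal P hP))) 0) + (r : ℤ) := by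
  have hI := isInvertible_ptIdeal_of_normal k hdim hP (isIntegrallyClosed_stalk k P)
  have hEI := Clifford24.isFinLocFreeOfRank_tensorMod hE hI
  haveI : Mono (Clifford24.mulR (ptIdeal P hP) E) :=
    Clifford24.mono_mulR _ fun x => let ⟨U, hx, e⟩ := hE x; ⟨U, r, hx, e⟩
  have h := h0_le_of_full_sub k hdim (Clifford24.mulR (ptIdeal P hP) E) (SplitP1.isCoh_of_rank hEI)
    (SplitP1.isCoh_of_rank hE) (by rw [grk_eq hEI, grk_eq hE])
  rw [gdeg_twist_point k hdim hE hP] at h
  omega

/-- A nonzero global section is a monomorphism from the structure module. -/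
theorem exists_section_mono {r : ℕ} {E : X.Modules} (hE : FlatMod.IsFinLocFreeOfRank r E)
    (h : Module.finrank k (Coh.HH X E 0) ≠ 0) :
    ∃ φ : Coh.structureModule X ⟶ E, φ ≠ 0 ∧ Mono φ := by
  have hEc := SplitP1.isCoh_of_rank hE
  haveI := CurveRR24.finite_HH_of_isCoh k hEc 0
  haveI : Nontrivial (Coh.HH X E 0) := Module.nontrivial_of_finrank_pos (R := k) (Nat.pos_of_ne_zero h)
  obtain ⟨x, hx⟩ := exists_ne (0 : Coh.HH X E 0)
  have hφ : (SerreDual.homUnitHH k E).symm x ≠ 0 := fun h => hx ((LinearEquiv.map_eq_zero_iff _).1 h)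
  exact ⟨_, hφ, SplitP1.mono_of_ne_zero' hEc (fun y => (SplitP1.nonempty_basis_stalk hE y).elim fun d =>
    Module.Free.of_basis d) AmpleLib.isInvertible_structureModule _ hφ⟩

/-- A semistable bundle of negative degree has no sections. -/
theorem h0_eq_zero_of_ss {r : ℕ} {E : X.Modules} (hE : FlatMod.IsFinLocFreeOfRank r E) (hss : SS k E)
    (hd : gdeg k E < 0) : Module.finrank k (Coh.HH X E 0) = 0 := by
  by_contra h
  obtain ⟨φ, -, hm⟩ := exists_section_mono k hdim hE h
  have := hss _ φ hm (isCoh_of_line AmpleLib.isInvertible_structureModule)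
  rw [gdeg_structure k hdim, rank_one AmpleLib.isInvertible_structureModule] at this
  simp at this
  omega

theorem h0_le_of_ss [IsAlgClosed k] {r : ℕ} : ∀ (n : ℕ) {E : X.Modules},
    FlatMod.IsFinLocFreeOfRank r E → SS k E → gdeg k E < (n : ℤ) * r →
      Module.finrank k (Coh.HH X E 0) ≤ r * n
  | 0, E, hE, hss, hd => by rw [h0_eq_zero_of_ss k hdim hE hss (by simpa using hd)]; simp
  | n + 1, E, hE, hss, hd => by
    have hn := isIntegrallyClosed' k hdim (X := X)
    haveI := LocallyOfFiniteType.jacobsonSpace (X ↘ Spec (CommRingCat.of k))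
    obtain ⟨P, -, hP⟩ := nonempty_inter_closedPoints (X := X) Set.univ_nonempty isClosed_univ.isLocallyClosed
    have hI := isInvertible_ptIdeal_of_normal k hdim hP (hn P)
    have h1 := h0_le_of_ss n (Clifford24.isFinLocFreeOfRank_tensorMod hE hI) (hss.twist k hdim hn hE hI)
      (by rw [gdeg_twist_point k hdim hE hP]; push_cast at hd; linarith)
    have h2 := h0_le_twist k hdim hE hP
    rw [Nat.mul_succ]
    omega

/-- A nonzero map into a twist gives one into the module. -/
theorem exists_hom_untwist {A E N M : X.Modules} (hN : PicF.IsInvertible N) (hM : PicF.IsInvertible M)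
    (e : CohB1.tensorMod N M ≅ Coh.structureModule X) (f : A ⟶ CohB1.tensorMod E N) (hf : f ≠ 0) :
    ∃ g : CohB1.tensorMod A M ⟶ E, g ≠ 0 := by
  obtain ⟨back⟩ := nonempty_untwist E hN hM e
  refine ⟨SerreDual.tensorRightHom k _ _ M f ≫ back.hom, fun h => hf ?_⟩
  refine SerreDual.tensorRightHom_injective k _ _ hM ?_
  rw [map_zero, ← cancel_mono back.hom, h, zero_comp]

/-- `H¹(E ⊗ N) = 0` for `N` of large degree, bounded by the slopes of submodules. -/
theorem subsingleton_h1_of_bounded {r : ℕ} (hr : 0 < r) {E N : X.Modules}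
    (hE : FlatMod.IsFinLocFreeOfRank r E) (hN : PicF.IsInvertible N) (C : ℤ)
    (hC : ∀ (G : X.Modules) (j : G ⟶ E), Mono j → 0 < grk G → Coh.IsCoh G →
      gdeg k G * (r : ℤ) ≤ (gdeg k E + (r : ℤ) * C) * (grk G : ℤ))
    (hbig : (r : ℤ) * ((r : ℤ) - 1) * C + (r : ℤ) * (2 * (Curv2.genus k X : ℤ) - 2) <
      gdeg k E + (r : ℤ) * gdeg k N) :
    Subsingleton (Coh.HH X (CohB1.tensorMod E N) 1) := by
  by_contra h
  have hn := isIntegrallyClosed' k hdim (X := X)
  have hEN := Clifford24.isFinLocFreeOfRank_tensorMod hE hN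
  have hENc := SplitP1.isCoh_of_rank hEN
  obtain ⟨Ω, f, hΩ, hd, hf⟩ := exists_hom_omega k hdim hENc h
  obtain ⟨I, p, j, hp, hj, -, hI, hI0⟩ := exists_image k hdim hn hEN (PicLib.isFinLocFreeOfRank_one hΩ) f
  haveI := hp; haveI := hj
  have hI1 := (sub_bundle hdim.le hn (PicLib.isFinLocFreeOfRank_one hΩ) j hI).1
  have hIeq : grk I = 1 := by have := hI0 hf; omega
  have hdI := (full_rank k hdim j hI (isCoh_of_line hΩ) (by rw [hIeq, rank_one hΩ])).1
  have hK := Coherent.isCoh_kernel p hENc hI.1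
  have h2 := grk_additive (EulerLib.shortExact_kernel p) hENc
  have h3 := gdeg_additive k (EulerLib.shortExact_kernel p) hK hENc hI
  change grk (CohB1.tensorMod E N) = grk (kernel p) + grk I at h2
  change gdeg k (CohB1.tensorMod E N) = gdeg k (kernel p) + gdeg k I at h3
  rw [grk_eq hEN, hIeq] at h2
  rw [gdeg_twist k hdim hn hN r hE] at h3
  obtain ⟨M, hM, ⟨e⟩⟩ := CurveRR24.exists_inverse k hN
  have hKf := (sub_bundle hdim.le hn hEN (kernel.ι p) hK).2
  rcases Nat.eq_zero_or_pos (grk (kernel p)) with h0 | hpos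
  · rw [(zero_rank_sub k hdim hn hEN (kernel.ι p) hK h0).2] at h3
    rw [show r = 1 by omega] at hbig h3
    push_cast at hbig h3
    linarith
  · obtain ⟨back⟩ := nonempty_untwist E hN hM e
    haveI := mono_tensorMap hM (kernel.ι p)
    have hKM := Clifford24.isFinLocFreeOfRank_tensorMod hKf hM
    have h4 := hC _ (tensorMap (kernel.ι p) (𝟙 M) ≫ back.hom) (mono_comp _ _) (by rw [grk_eq hKM]; exact hpos)
      (SplitP1.isCoh_of_rank hKM)
    rw [grk_eq hKM, gdeg_twist k hdim hn hM _ hKf, gdeg_inverse k hdim hN hM e] at h4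
    have hr1 : (r : ℤ) = (grk (kernel p) : ℤ) + 1 := by exact_mod_cast h2
    rw [hr1] at hbig h3 h4
    nlinarith [mul_nonneg (show (0 : ℤ) ≤ grk (kernel p) from Int.natCast_nonneg _)
      (show (0 : ℤ) ≤ 2 * (Curv2.genus k X : ℤ) - 2 - gdeg k I by omega)]

/-- A line subbundle of maximal degree, with bundle quotient. -/
theorem exists_max_line_sub {r : ℕ} (hr : 0 < r) {E : X.Modules} (hE : FlatMod.IsFinLocFreeOfRank r E) :
    ∃ (L : X.Modules) (i : L ⟶ E), Mono i ∧ PicF.IsInvertible L ∧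
      FlatMod.IsFinLocFreeOfRank (r - 1) (cokernel i) ∧
      ∀ (G : X.Modules) (f : G ⟶ E), PicF.IsInvertible G → f ≠ 0 → gdeg k G ≤ gdeg k L := by
  have hn := isIntegrallyClosed' k hdim (X := X)
  have hEc : Coh.IsCoh E := SplitP1.isCoh_of_rank hE
  let p : ℤ → Prop := fun d => ∃ (G : X.Modules) (j : G ⟶ E), Mono j ∧ Coh.IsCoh G ∧ grk G = 1 ∧ gdeg k G = d
  have hbdd : ∃ b : ℤ, ∀ d, p d → d ≤ b :=
    ⟨(Module.finrank k (Coh.HH X E 0) : ℤ) + (1 : ℤ) * ((Curv2.genus k X : ℤ) - 1), fun d => by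
      rintro ⟨G, j, hj, hG, h1, rfl⟩
      haveI := hj
      have hGf := (sub_bundle hdim.le hn hE j hG).2
      have := deg_le_h0_add k hdim hGf j hEc
      rw [deg_eq_gdeg k hGf, h1] at this
      exact_mod_cast this⟩
  have hne : ∃ d, p d := by
    obtain ⟨L, Q, S, hL, -, hS, e1, e2, -⟩ := exists_line_sub k hdim hn hr hE
    subst e1 e2
    exact ⟨_, S.X₁, S.f, hS.mono_f, isCoh_of_line hL, rank_one hL, rfl⟩
  obtain ⟨m, ⟨L, i, hi, hLc, hL1, hLd⟩, hmax⟩ := Int.exists_greatest_of_bdd hbdd hne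
  haveI := hi
  have hLf : FlatMod.IsFinLocFreeOfRank 1 L := hL1 ▸ (sub_bundle hdim.le hn hE i hLc).2
  refine ⟨L, i, hi, invertible_of_rank_one hLf, ?_, fun G f hG hf => ?_⟩
  · rw [← hL1]
    exact bundle_cokernel_of_max k hdim hn hE i hLc fun P j hj hP hP1 =>
      hLd ▸ hmax _ ⟨P, j, hj, hP, hP1.trans hL1, rfl⟩
  · haveI : Mono f := SplitP1.mono_of_ne_zero' hEc (fun y => (SplitP1.nonempty_basis_stalk hE y).elim fun d =>
      Module.Free.of_basis d) hG f hf
    exact hLd ▸ hmax _ ⟨G, f, inferInstance, isCoh_of_line hG, rank_one hG, rfl⟩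

end Groth.Agent.VB5
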