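import Groth.Agent.VB5.Line
import Groth.Agent.Clifford24.RankTwoSub
import Groth.Agent.CurveRR24.DegOneApps

/-!
# Twisting bundles by line bundles
-/

set_option autoImplicit false
set_option linter.style.haveILetI false
set_option linter.unusedSectionVars false
set_option backward.isDefEq.respectTransparency.types false

universe u

open CategoryTheory CategoryTheory.Limits AlgebraicGeometry Opposite TopologicalSpace
open Groth.Agent.Coherent Groth.Agent.PicLib Groth.Agent.AmpleLib Groth.Agent.EulerLib Groth.Agent.CurveRR24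

namespace Groth.Agent.VB5

/-- Rank one modules are invertible. -/
theorem invertible_of_rank_one {X : Scheme.{u}} {L : X.Modules} (h : FlatMod.IsFinLocFreeOfRank 1 L) :
    PicF.IsInvertible L := fun x => by
  obtain ⟨V, hx, ⟨e⟩⟩ := h x
  exact ⟨V, hx, ⟨e ≪≫ PicLib.freeModOneIso _⟩⟩

variable {X : Scheme.{u}} [IsIntegral X] [IsLocallyNoetherian X]

theorem grk_twist {r : ℕ} {E N : X.Modules} (hE : FlatMod.IsFinLocFreeOfRank r E) (hN : PicF.IsInvertible N) :
    grk (CohB1.tensorMod E N) = r :=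
  grk_eq (Clifford24.isFinLocFreeOfRank_tensorMod hE hN)

/-- The twist by `N` undone by its inverse. -/
theorem nonempty_untwist (E : X.Modules) {N M : X.Modules} (hN : PicF.IsInvertible N) (hM : PicF.IsInvertible M)
    (e : CohB1.tensorMod N M ≅ Coh.structureModule X) :
    Nonempty (CohB1.tensorMod (CohB1.tensorMod E N) M ≅ E) := by
  obtain ⟨a⟩ := exists_assocIso' E hN hM
  exact ⟨a ≪≫ AmpleLib.tensorIso (Iso.refl E) e ≪≫ tensorComm _ _ ≪≫ unitTensorIso E⟩

variable (k : Type u) [Field k] [X.Over (Spec (CommRingCat.of k))] [IsProper (X ↘ Spec (CommRingCat.of k))]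
  (hdim : topologicalKrullDim X = 1) (hn : ∀ x : X, IsIntegrallyClosed (X.presheaf.stalk x))
include k hdim hn

theorem exists_ample : ∃ A : X.Modules, PicF.IsInvertible A ∧ CohB1.IsAmple A := by
  haveI := EulerLib.isNoetherian_of_proper k (X := X)
  haveI := LocallyOfFiniteType.jacobsonSpace (X ↘ Spec (CommRingCat.of k))
  obtain ⟨P, -, hP⟩ := nonempty_inter_closedPoints (X := X) Set.univ_nonempty isClosed_univ.isLocallyClosed
  have hI := isInvertible_ptIdeal_of_normal k hdim hP (hn P)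
  obtain ⟨A, hA, ⟨eA⟩⟩ := CurveRR24.exists_inverse k hI
  have hdA : 0 < Curv2.deg k X A 1 := by
    rw [deg_inverse k hdim.le hI hA eA, deg_ptIdeal k hP]
    let _ := Curv2.resAlgebra k X P
    haveI := finite_resField hP k
    have : 0 < Module.finrank k (X.residueField P) := Module.finrank_pos
    omega
  exact ⟨A, hA, isAmple_of_deg_pos k hdim hA hdA⟩

/-- A bundle of positive rank contains a line bundle with bundle quotient. -/
theorem exists_line_sub {r : ℕ} (hr : 0 < r) {E : X.Modules} (hE : FlatMod.IsFinLocFreeOfRank r E) :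
    ∃ (L Q : X.Modules) (S : ShortComplex X.Modules), PicF.IsInvertible L ∧
      FlatMod.IsFinLocFreeOfRank (r - 1) Q ∧ S.ShortExact ∧ S.X₁ = L ∧ S.X₂ = E ∧ S.X₃ = Q := by
  classical
  obtain ⟨A, hA, hAa⟩ := exists_ample k hdim hn
  have hEc : Coh.IsCoh E := SplitP1.isCoh_of_rank hE
  obtain ⟨N₀, hN₀⟩ := eventually_globallyGenerated hAa E hEc
  obtain ⟨ι, p, hp⟩ := hN₀ N₀ le_rfl
  have hAn := AmpleLib.isInvertible_tensorPow hA N₀
  obtain ⟨L, hL, ⟨eL⟩⟩ := CurveRR24.exists_inverse k hAn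
  let p' : freeMod X ι ⟶ CohB1.tensorMod E (CohB1.tensorPow A N₀) := p
  haveI : Epi p' := hp
  have hne : p' ≠ 0 := fun h0 =>
    not_isZero_of_grk (Clifford24.isFinLocFreeOfRank_tensorMod hE hAn) hr (IsZero.of_epi_eq_zero p' h0)
  obtain ⟨i, hi⟩ : ∃ i, freeInj i ≫ p' ≠ 0 := by
    by_contra hall
    push Not at hall
    exact hne (freeMod_hom_ext fun i => (hall i).trans comp_zero.symm)
  obtain ⟨back⟩ := nonempty_untwist E hAn hL eL
  let f : L ⟶ E := (Linear.homCongr k (unitTensorIso L) back)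
    (SerreDual.tensorRightHom k _ _ L (freeInj i ≫ p'))
  have hf : f ≠ 0 := fun h => hi (SerreDual.tensorRightHom_injective k _ _ hL
    (((LinearEquiv.map_eq_zero_iff _).1 h).trans (map_zero _).symm))
  obtain ⟨I, q, j, hq, hj, hqj, hI, hI0⟩ :=
    exists_image k hdim hn (PicLib.isFinLocFreeOfRank_one hL) hE f
  have hL1 : Coh.IsCoh L := isCoh_of_line hL
  have hr1 := grk_additive (EulerLib.shortExact_kernel q) hL1
  change grk L = grk (kernel q) + grk I at hr1
  rw [rank_one hL] at hr1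
  have h1 : grk I = 1 := by have := hI0 hf; omega
  obtain ⟨L', Q, j', p'', hj', hp'', hL', hQ, -, -⟩ := exists_saturation k hdim hn hE j hI
  rw [h1] at hL' hQ
  haveI := hj'; haveI := hp''
  have hK := Coherent.isCoh_kernel p'' hEc (SplitP1.isCoh_of_rank hQ).1
  have hKf := sub_bundle hdim.le hn hE (kernel.ι p'') hK
  have hr2 := grk_additive (EulerLib.shortExact_kernel p'') hEc
  change grk E = grk (kernel p'') + grk Q at hr2
  rw [grk_eq hE, grk_eq hQ] at hr2
  have hK1 : grk (kernel p'') = 1 := by omega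
  exact ⟨kernel p'', Q, _, invertible_of_rank_one (hK1 ▸ hKf.2), hQ,
    EulerLib.shortExact_kernel p'', rfl, rfl, rfl⟩

/-- Degree of a twist. -/
theorem gdeg_twist {N : X.Modules} (hN : PicF.IsInvertible N) : ∀ (r : ℕ) {E : X.Modules},
    FlatMod.IsFinLocFreeOfRank r E →
      gdeg k (CohB1.tensorMod E N) = gdeg k E + (r : ℤ) * gdeg k N
  | 0, E, hE => by
    rw [gdeg_of_isZero k (SplitP1.isCoh_of_rank (Clifford24.isFinLocFreeOfRank_tensorMod hE hN))
      (Clifford24.isZero_of_rank_zero (Clifford24.isFinLocFreeOfRank_tensorMod hE hN)),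
      gdeg_of_isZero k (SplitP1.isCoh_of_rank hE) (Clifford24.isZero_of_rank_zero hE)]
    simp
  | r + 1, E, hE => by
    obtain ⟨L, Q, S, hL, hQ, hS, rfl, rfl, rfl⟩ := exists_line_sub k hdim hn r.succ_pos hE
    replace hQ : FlatMod.IsFinLocFreeOfRank r S.X₃ := hQ
    have hT := twistSeq_shortExact hN hS
    have c1 := isCoh_of_line hL
    have c2 := SplitP1.isCoh_of_rank hE
    have c3 := SplitP1.isCoh_of_rank hQ
    have d1 := gdeg_additive k hS c1 c2 c3
    have d2 := gdeg_additive k hT (EulerLib.isCoh_twist hN c1) (EulerLib.isCoh_twist hN c2) (EulerLib.isCoh_twist hN c3)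
    have ih := gdeg_twist hN r hQ
    have hl := CurveRR24.deg_tensor k hdim.le hL hN
    rw [deg_line k (AmpleLib.isInvertible_tensorMod hL hN), deg_line k hL, deg_line k hN] at hl
    change gdeg k (CohB1.tensorMod S.X₂ N) = gdeg k (CohB1.tensorMod S.X₁ N) + gdeg k (CohB1.tensorMod S.X₃ N) at d2
    rw [d2, hl, ih, d1]
    push_cast
    ring

/-- Semistability survives twisting. -/
theorem SS.twist {r : ℕ} {E N : X.Modules} (hE : FlatMod.IsFinLocFreeOfRank r E) (hN : PicF.IsInvertible N)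
    (h : SS k E) : SS k (CohB1.tensorMod E N) := by
  intro G ι hι hG
  haveI := hι
  have hEN := Clifford24.isFinLocFreeOfRank_tensorMod hE hN
  obtain ⟨hGr, hGf⟩ := sub_bundle hdim.le hn hEN ι hG
  obtain ⟨M, hM, ⟨e⟩⟩ := CurveRR24.exists_inverse k hN
  obtain ⟨back⟩ := nonempty_untwist E hN hM e
  haveI := mono_tensorMap hM ι
  have h1 := h _ (tensorMap ι (𝟙 M) ≫ back.hom) (mono_comp _ _) (EulerLib.isCoh_twist hM hG)
  rw [gdeg_twist k hdim hn hM _ hGf, grk_twist hGf hM, grk_eq hE] at h1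
  rw [gdeg_twist k hdim hn hN r hE, grk_twist hE hN]
  have hd := CurveRR24.deg_tensor k hdim.le hN hM
  rw [CurveRR24.deg_congr k e, CurveRR24.deg_structure, deg_line k hN, deg_line k hM] at hd
  have hM' : gdeg k M = - gdeg k N := by omega
  rw [hM'] at h1
  linarith

theorem ST.twist {r : ℕ} {E N : X.Modules} (hE : FlatMod.IsFinLocFreeOfRank r E) (hN : PicF.IsInvertible N)
    (h : ST k E) : ST k (CohB1.tensorMod E N) := by
  have hEN := Clifford24.isFinLocFreeOfRank_tensorMod hE hN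
  rw [st_iff_lt k hdim hn hEN]
  intro G s ι hι hs hlt hG
  haveI := hι
  obtain ⟨M, hM, ⟨e⟩⟩ := CurveRR24.exists_inverse k hN
  obtain ⟨back⟩ := nonempty_untwist E hN hM e
  haveI := mono_tensorMap hM ι
  have h1 := (st_iff_lt k hdim hn hE).1 h _ s (tensorMap ι (𝟙 M) ≫ back.hom) (mono_comp _ _) hs hlt
    (Clifford24.isFinLocFreeOfRank_tensorMod hG hM)
  rw [deg_eq_gdeg k (Clifford24.isFinLocFreeOfRank_tensorMod hG hM), deg_eq_gdeg k hE,
    gdeg_twist k hdim hn hM s hG] at h1
  rw [deg_eq_gdeg k hG, deg_eq_gdeg k hEN, gdeg_twist k hdim hn hN r hE]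
  have hd := CurveRR24.deg_tensor k hdim.le hN hM
  rw [CurveRR24.deg_congr k e, CurveRR24.deg_structure, deg_line k hN, deg_line k hM] at hd
  have hM' : gdeg k M = - gdeg k N := by omega
  rw [hM'] at h1
  linarith

end Groth.Agent.VB5
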