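import Groth.Agent.VB5.Split
import Groth.Agent.Coherent.CohBC.HomUnit
import Groth.Agent.VB5.Sections
import Groth.Agent.CycLib28.PB.Ops.TensorFree
import Groth.Agent.VarietyLib.CurveDegreeApps
import Groth.Agent.CycLib28.PB.Ops.DualSeq
import Groth.Agent.SerreDual.ExtShTensor

/-!
# Degrees of duals of bundles on curves; Faltings' criterion for semistability
-/

set_option autoImplicit false
set_option linter.style.haveILetI false
set_option linter.unusedSectionVars false
set_option backward.isDefEq.respectTransparency.types false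

universe u

open CategoryTheory CategoryTheory.Limits AlgebraicGeometry Opposite TopologicalSpace
open Groth.Agent.Coherent Groth.Agent.PicLib Groth.Agent.AmpleLib Groth.Agent.CurveRR24
open Groth.Agent.CycLib28.PB.Ops (dual isFinLocFreeOfRank_dual shortExact_dual)

namespace Groth.Agent.VB5

variable {X : Scheme.{u}} [IsIntegral X] [IsLocallyNoetherian X]
  (k : Type u) [Field k] [X.Over (Spec (CommRingCat.of k))] [IsProper (X ↘ Spec (CommRingCat.of k))]
  (hdim : topologicalKrullDim X = 1) (hn : ∀ x : X, IsIntegrallyClosed (X.presheaf.stalk x))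

include hdim hn in
/-- The dual has opposite degree. -/
theorem gdeg_dual : ∀ (r : ℕ) {E : X.Modules}, FlatMod.IsFinLocFreeOfRank r E →
    gdeg k (dual E) = - gdeg k E
  | 0, E, hE => by
    rw [gdeg_of_isZero k (SplitP1.isCoh_of_rank (isFinLocFreeOfRank_dual hE))
      (Clifford24.isZero_of_rank_zero (isFinLocFreeOfRank_dual hE)),
      gdeg_of_isZero k (SplitP1.isCoh_of_rank hE) (Clifford24.isZero_of_rank_zero hE), neg_zero]
  | r + 1, E, hE => by
    obtain ⟨L, Q, S, hL, hQ, hS, rfl, rfl, rfl⟩ := exists_line_sub k hdim hn r.succ_pos hE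
    replace hQ : FlatMod.IsFinLocFreeOfRank r S.X₃ := hQ
    have hL1 := PicLib.isFinLocFreeOfRank_one hL
    have hT := shortExact_dual (f := S.f) (g := S.g) (hfg := S.zero) hS hL1 hQ
    have d1 := gdeg_additive k hS (isCoh_of_line hL) (SplitP1.isCoh_of_rank hE) (SplitP1.isCoh_of_rank hQ)
    have d2 := gdeg_additive k hT (SplitP1.isCoh_of_rank (isFinLocFreeOfRank_dual hQ))
      (SplitP1.isCoh_of_rank (isFinLocFreeOfRank_dual hE)) (SplitP1.isCoh_of_rank (isFinLocFreeOfRank_dual hL1))
    change gdeg k (dual S.X₂) = gdeg k (dual S.X₃) + gdeg k (dual S.X₁) at d2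
    have hD : PicF.IsInvertible (dual S.X₁) := invertible_of_rank_one (isFinLocFreeOfRank_dual hL1)
    haveI := isIso_contract (E := dual S.X₁) (LocFreeLib.isFinLocFree_of_rank (isFinLocFreeOfRank_dual hL1)) S.X₁
    haveI := CohBC.isIso_scalar hL
    obtain ⟨dd⟩ := ExtSS.nonempty_dual_dual (LocFreeLib.isFinLocFree_of_rank hL1)
    have i : CohB1.tensorMod (dual S.X₁) S.X₁ ≅ Coh.structureModule X :=
      asIso (contractBilin (dual S.X₁) S.X₁).desc ≪≫ CohBC.internalHomSourceIso dd.symm S.X₁ ≪≫
        (asIso (curry (CohBC.scalarBilin S.X₁))).symm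
    have hl : gdeg k S.X₁ = - gdeg k (dual S.X₁) := by
      rw [← deg_line k hL, ← deg_line k hD, CurveRR24.deg_inverse k hdim.le hD hL i]
    rw [d2, gdeg_dual r hQ, d1]
    linarith

include hdim hn in
/-- The Euler characteristic of `F ⊗ E^∨`. -/
theorem euler_tensor_dual {r n : ℕ} {E F : X.Modules} (hE : FlatMod.IsFinLocFreeOfRank r E)
    (hF : FlatMod.IsFinLocFreeOfRank n F) :
    Curv2.euler k X (CohB1.tensorMod F (dual E)) = (r : ℤ) * gdeg k F - (n : ℤ) * gdeg k E
      + (r : ℤ) * n * Curv2.euler k X (Coh.structureModule X) := by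
  have h := VarietyLib.deg_tensor_rank k hdim.le hF (isFinLocFreeOfRank_dual hE)
  rw [deg_eq_gdeg k hF, deg_eq_gdeg k (isFinLocFreeOfRank_dual hE), gdeg_dual k hdim hn r hE] at h
  simp only [Curv2.deg, Nat.cast_mul] at h
  linarith

variable [Smooth (X ↘ Spec (CommRingCat.of k))] [GeometricallyIntegral (X ↘ Spec (CommRingCat.of k))]

include k hdim in
/-- `H¹` of a quotient vanishes with `H¹` of the module. -/
theorem subsingleton_h1_of_epi' {E G : X.Modules} (p : E ⟶ G) [Epi p] (hE : Coh.IsCoh E) (hG : Coh.IsCoh G)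
    (h : Subsingleton (Coh.HH X E 1)) : Subsingleton (Coh.HH X G 1) :=
  (subsingleton_h1_iff_hom_omega k hdim hG).2 fun f =>
    (cancel_epi p).1 (((subsingleton_h1_iff_hom_omega k hdim hE).1 h (p ≫ f)).trans comp_zero.symm)

include hdim in
/-- A bundle with no maps to some bundle of slope `μ + g - 1` has no subbundle of slope above `μ = 0`. -/
theorem ss_of_hom_eq_zero {r n : ℕ} {E F : X.Modules} (hn0 : 0 < n)
    (hE : FlatMod.IsFinLocFreeOfRank r E) (hF : FlatMod.IsFinLocFreeOfRank n F) (hdE : gdeg k E = 0)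
    (hdF : gdeg k F = (n : ℤ) * ((Curv2.genus k X : ℤ) - 1)) (h : ∀ φ : E ⟶ F, φ = 0) : SS k E := by
  have hn := isIntegrallyClosed_stalk k (X := X)
  haveI := EulerLib.isNoetherian_of_proper k (X := X)
  intro G₀ ι hι hG₀
  obtain ⟨G, P, j, p, hj, hp, hG, hP, hle, hadd⟩ := exists_saturation k hdim hn hE ι hG₀
  rw [hdE, zero_mul]
  refine mul_nonpos_of_nonpos_of_nonneg (hle.trans ?_) (Int.natCast_nonneg _)
  have hχ := euler_structure_eq k hdim (X := X)
  have hFf := exists_rank_free hF
  -- the dual sequence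
  have hEc := SplitP1.isCoh_of_rank hE
  have hPc := SplitP1.isCoh_of_rank hP
  have hK := Coherent.isCoh_kernel p hEc hPc.1
  obtain ⟨-, hKf⟩ := sub_bundle hdim.le hn hE (kernel.ι p) hK
  have hKd : gdeg k G = gdeg k (kernel p) := by
    have := gdeg_additive k (EulerLib.shortExact_kernel p) hK hEc hPc
    change gdeg k E = gdeg k (kernel p) + gdeg k P at this
    omega
  rw [hKd]
  have hD := shortExact_dual (f := kernel.ι p) (g := p) (hfg := kernel.condition p)
    (EulerLib.shortExact_kernel p) hKf hP
  haveI := preservesFiniteLimits_tensE hFf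
  haveI : PreservesFiniteColimits (tensE F) :=
    haveI := (tensorHomAdj F).leftAdjoint_preservesColimits
    inferInstance
  haveI : (tensE F).Additive := Functor.additive_of_preserves_binary_products _
  have hT := hD.map_of_exact (tensE F)
  have c2 : Coh.IsCoh (CohB1.tensorMod F (dual E)) :=
    CohBC.isCoh_of_isFinLocFree (exists_rank_free
      (CycLib28.PB.Ops.isFinLocFreeOfRank_tensor hF (isFinLocFreeOfRank_dual hE)))
  have c3 : Coh.IsCoh (CohB1.tensorMod F (dual (kernel p))) :=
    CohBC.isCoh_of_isFinLocFree (exists_rank_free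
      (CycLib28.PB.Ops.isFinLocFreeOfRank_tensor hF (isFinLocFreeOfRank_dual hKf)))
  -- no sections in the middle
  have h0 : Module.finrank k (Coh.HH X (CohB1.tensorMod F (dual E)) 0) = 0 := by
    obtain ⟨e⟩ := SerreDual.nonempty_internalHom_eq_tensor (exists_rank_free hE) F
    rw [finrank_HH_congr k (tensorComm F (dual E) ≪≫ e.symm) 0, ← (SerreDual.homUnitHH k _).finrank_eq]
    haveI : Subsingleton (Coh.structureModule X ⟶ internalHom E F) := subsingleton_of_forall_eq 0 fun s => by
      refine (SerreDual.homUnitHH k (internalHom E F)).injective ?_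
      have : Subsingleton (GA (baseHom k X) (internalHom E F)) := by
        refine subsingleton_of_forall_eq 0 fun t => ?_
        have ht : CohBC.homOfSec (show Γ(internalHom E F, ⊤) from t) = 0 := h _
        refine locHom_ext (U := (⊤ : X.Opens)) fun W hW a => ?_
        exact congrArg (fun f : E ⟶ F => f.app W a) ht
      haveI := (hhZero k (internalHom E F)).toEquiv.subsingleton
      exact Subsingleton.elim _ _
    exact Module.finrank_zero_of_subsingleton
  have e2 := euler_tensor_dual k hdim hn hE hF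
  rw [hdE, hdF, hχ] at e2
  have h1 : Subsingleton (Coh.HH X (CohB1.tensorMod F (dual E)) 1) := by
    haveI := finite_HH_of_isCoh k c2 1
    have := euler_eq_h0_sub_h1 k hdim.le _ c2.1
    rw [e2, h0] at this
    refine (Module.finrank_zero_iff (R := k)).1 ?_
    push_cast at this
    linarith
  haveI : Epi ((tensE F).map (SerreDual.precompApp (kernel.ι p) (Coh.structureModule X))) := hT.epi_g
  have h3 := subsingleton_h1_of_epi' k hdim ((tensE F).map (SerreDual.precompApp (kernel.ι p) (Coh.structureModule X)))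
    c2 c3 h1
  have e3 := euler_tensor_dual k hdim hn hKf hF
  rw [hdF, hχ, euler_eq_h0_sub_h1 k hdim.le _ c3.1] at e3
  haveI := finite_HH_of_isCoh k c3 1
  rw [(Module.finrank_zero_iff (R := k) (M := Coh.HH X (CohB1.tensorMod F (dual (kernel p))) 1)).2 h3, Nat.cast_zero] at e3
  have hn' : (0 : ℤ) < n := by exact_mod_cast hn0
  by_contra hpos
  push Not at hpos
  nlinarith [Int.natCast_nonneg (Module.finrank k (Coh.HH X (CohB1.tensorMod F (dual (kernel p))) 0))]

end Groth.Agent.VB5
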