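import Groth.Agent.VB5.RatPt
import Groth.Agent.SerreDual.ExtShLocFree
import Groth.Agent.DCat.PerfTensor

/-!
# Families of maps into a line bundle
-/

set_option autoImplicit false
set_option linter.style.haveILetI false
set_option linter.unusedSectionVars false
set_option backward.isDefEq.respectTransparency.types false

universe u

open CategoryTheory CategoryTheory.Limits AlgebraicGeometry Opposite TopologicalSpace
open Groth.Agent.Coherent Groth.Agent.PicLib Groth.Agent.AmpleLib Groth.Agent.EulerLib Groth.Agent.CurveRR24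

namespace Groth.Agent.VB5

variable {X : Scheme.{u}}

/-- The finite family `φ` is jointly monic. -/
def JointlyMono {F N : X.Modules} {M : ℕ} (φ : Fin M → (F ⟶ N)) : Prop :=
  ∀ {Z : X.Modules} (x : Z ⟶ F), (∀ i, x ≫ φ i = 0) → x = 0

theorem exists_mono_copies {F N : X.Modules} {M : ℕ} (φ : Fin M → (F ⟶ N)) (h : JointlyMono φ) :
    Mono (∑ i, φ i ≫ Sigma.ι (fun _ : Fin M => N) i) := by
  classical
  refine Preadditive.mono_of_cancel_zero _ fun {Z} x hx => h x fun i => ?_
  have h1 : (∑ j, φ j ≫ Sigma.ι (fun _ : Fin M => N) j) ≫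
      Sigma.desc (fun j => if j = i then 𝟙 N else 0) = φ i := by
    rw [Preadditive.sum_comp, Finset.sum_eq_single i]
    · simp
    · intro j _ hj
      simp [hj]
    · simp
  have h2 := congrArg (fun f => f ≫ Sigma.desc (fun j => if j = i then 𝟙 N else 0)) hx
  simp only [Category.assoc, zero_comp] at h2
  rwa [h1] at h2

theorem jointlyMono_of_mono {F N : X.Modules} {M : ℕ} (φ : Fin M → (F ⟶ N))
    [Mono (∑ i, φ i ≫ Sigma.ι (fun _ : Fin M => N) i)] : JointlyMono φ := by
  intro Z x hx
  refine zero_of_comp_mono (∑ i, φ i ≫ Sigma.ι (fun _ : Fin M => N) i) ?_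
  rw [Preadditive.comp_sum]
  exact Finset.sum_eq_zero fun i _ => by rw [← Category.assoc, hx i, zero_comp]

/-- Twisting by a bundle preserves monomorphisms. -/
theorem preservesMono_twistF {W : X.Modules} (hW : FlatMod.IsFinLocFree W) :
    (SerreDual.twistF W).PreservesMonomorphisms := by
  haveI := preservesFiniteLimits_tensE hW
  haveI := preservesFiniteLimits_of_natIso (SerreDual.twistTensIso W).symm
  infer_instance

/-- Twisting by a bundle keeps a family jointly monic. -/
theorem JointlyMono.twist {W F N : X.Modules} (hW : FlatMod.IsFinLocFree W) {M : ℕ}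
    {φ : Fin M → (F ⟶ N)} (h : JointlyMono φ) : JointlyMono fun i => (SerreDual.twistF W).map (φ i) := by
  intro Z x hx
  haveI := preservesMono_twistF hW
  haveI := exists_mono_copies φ h
  refine zero_of_comp_mono ((SerreDual.twistF W).map (∑ i, φ i ≫ Sigma.ι (fun _ : Fin M => N) i)) ?_
  rw [Functor.map_sum, Preadditive.comp_sum]
  exact Finset.sum_eq_zero fun i _ => by
    rw [Functor.map_comp]
    exact (Category.assoc _ _ _).symm.trans ((congrArg (fun f => f ≫ _) (hx i)).trans zero_comp)

variable [IsIntegral X] [IsLocallyNoetherian X]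
  (k : Type u) [Field k] [X.Over (Spec (CommRingCat.of k))] [IsProper (X ↘ Spec (CommRingCat.of k))]
  [Smooth (X ↘ Spec (CommRingCat.of k))] [GeometricallyIntegral (X ↘ Spec (CommRingCat.of k))]
  (hdim : topologicalKrullDim X = 1)
include k hdim

/-- A module embedded into copies of a line bundle has slope at most its degree. -/
theorem gdeg_le_of_jointlyMono {N : X.Modules} (hN : PicF.IsInvertible N) : ∀ (M : ℕ) {G : X.Modules}
    (φ : Fin M → (G ⟶ N)), Coh.IsCoh G → JointlyMono φ → gdeg k G ≤ (grk G : ℤ) * gdeg k N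
  | 0, G, φ, hG, h => by
    have hz : IsZero G := (IsZero.iff_id_eq_zero G).2 (h (𝟙 G) fun i => i.elim0)
    rw [gdeg_of_isZero k hG hz, grk_of_isZero hz]
    simp
  | M + 1, G, φ, hG, h => by
    haveI := EulerLib.isNoetherian_of_proper k (X := X)
    have hn := isIntegrallyClosed' k hdim (X := X)
    have hNf := PicLib.isFinLocFreeOfRank_one hN
    have hI : Coh.IsCoh (Abelian.image (φ 0)) :=
      Coherent.isCoh_kernel (cokernel.π (φ 0)) (isCoh_of_line hN) (Coherent.isCoh_cokernel (φ 0) hG.1 (isCoh_of_line hN)).1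
    let p := Abelian.factorThruImage (φ 0)
    have hK := Coherent.isCoh_kernel p hG hI.1
    have h1 : gdeg k (Abelian.image (φ 0)) ≤ (grk (Abelian.image (φ 0)) : ℤ) * gdeg k N := by
      have hle := (sub_bundle hdim.le hn hNf (Abelian.image.ι (φ 0)) hI).1
      rcases Nat.eq_zero_or_pos (grk (Abelian.image (φ 0))) with h0 | hpos
      · rw [(zero_rank_sub k hdim hn hNf (Abelian.image.ι (φ 0)) hI h0).2, h0]
        simp
      · rw [show grk (Abelian.image (φ 0)) = 1 by omega, Nat.cast_one, one_mul]
        exact (full_rank k hdim (Abelian.image.ι (φ 0)) hI (isCoh_of_line hN) (by rw [rank_one hN]; omega)).1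
    have h2 := gdeg_le_of_jointlyMono hN M (fun i => kernel.ι p ≫ φ i.succ) hK (by
      intro Z x hx
      refine zero_of_comp_mono (kernel.ι p) (h _ fun i => ?_)
      induction i using Fin.cases with
      | zero =>
        have h0 : kernel.ι p ≫ φ 0 = 0 := by
          refine (congrArg (fun f => kernel.ι p ≫ f) (Abelian.image.fac (φ 0)).symm).trans ?_
          exact (kernel.condition_assoc p _).trans zero_comp
        rw [Category.assoc, h0, comp_zero]
      | succ i => rw [Category.assoc]; exact hx i)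
    have r2 := grk_additive (EulerLib.shortExact_kernel p) hG
    have d2 := gdeg_additive k (EulerLib.shortExact_kernel p) hK hG hI
    change grk G = grk (kernel p) + grk (Abelian.image (φ 0)) at r2
    change gdeg k G = gdeg k (kernel p) + gdeg k (Abelian.image (φ 0)) at d2
    rw [d2, r2]
    push_cast
    linarith

/-- On an elliptic curve a semistable bundle of slope below `deg L - 1` embeds into copies of `L`. -/
theorem exists_jointlyMono_of_ss (hg : Curv2.genus k X = 1) (s : Spec (CommRingCat.of k) ⟶ X)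
    (hs : s ≫ (X ↘ Spec (CommRingCat.of k)) = 𝟙 _) {r : ℕ} (hr : 0 < r) {F L : X.Modules}
    (hF : FlatMod.IsFinLocFreeOfRank r F) (hss : SS k F) (hL : PicF.IsInvertible L)
    (hlt : gdeg k F < (gdeg k L - 1) * (r : ℤ)) :
    ∃ M : ℕ, 0 < M ∧ ∃ φ : Fin M → (F ⟶ L), JointlyMono φ := by
  haveI := EulerLib.isNoetherian_of_proper k (X := X)
  have hn := isIntegrallyClosed' k hdim (X := X)
  obtain ⟨P, hP, hJ, hJd⟩ := exists_rat_point k hdim s hs
  let J := ClSub.idealMod (ptIdeal P hP)
  let L' := CohB1.tensorMod L J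
  have hL' : PicF.IsInvertible L' := AmpleLib.isInvertible_tensorMod hL hJ
  obtain ⟨M', hM', ⟨e'⟩⟩ := CurveRR24.exists_inverse k hL'
  let N := CohB1.tensorMod M' J
  have hN : PicF.IsInvertible N := AmpleLib.isInvertible_tensorMod hM' hJ
  obtain ⟨as⟩ := exists_assocIso' L hJ hM'
  let e : CohB1.tensorMod L N ≅ Coh.structureModule X :=
    AmpleLib.tensorIso (Iso.refl L) (tensorComm M' J) ≪≫ as.symm ≪≫ e'
  have hL'd : gdeg k L' = gdeg k L - 1 := by
    rw [gdeg_tensor_line k hdim hL hJ, hJd]
    ring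
  have hr' : (0 : ℤ) < r := by exact_mod_cast hr
  obtain ⟨hfin, hdimL⟩ := finrank_hom_to_line k hdim hg hF hL hN e
  obtain ⟨hfin', hdimL'⟩ := finrank_hom_to_line k hdim hg hF hL' hM' e'
  rw [h0_eq_zero_of_ss k hdim (Clifford24.isFinLocFreeOfRank_tensorMod hF hN) (hss.twist k hdim hn hF hN)
    (by rw [gdeg_twist k hdim hn hN r hF, gdeg_inverse k hdim hL hN e]; nlinarith)] at hdimL
  rw [h0_eq_zero_of_ss k hdim (Clifford24.isFinLocFreeOfRank_tensorMod hF hM') (hss.twist k hdim hn hF hM')
    (by rw [gdeg_twist k hdim hn hM' r hF, gdeg_inverse k hdim hL' hM' e', hL'd]; nlinarith)] at hdimL'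
  haveI := hfin
  let b := Module.finBasis k (F ⟶ L)
  refine ⟨_, ?_, fun i => b i, ?_⟩
  · have : (0 : ℤ) < Module.finrank k (F ⟶ L) := by
      rw [hdimL]; push_cast; nlinarith
    exact_mod_cast this
  · by_contra hmono
    let j := ∑ i, b i ≫ Sigma.ι (fun _ : Fin (Module.finrank k (F ⟶ L)) => L) i
    have hSig : FlatMod.IsFinLocFree (∐ fun _ : Fin (Module.finrank k (F ⟶ L)) => L) :=
      DCat.PerfTensor.isFinLocFree_sigma _ fun _ => exists_rank_free (PicLib.isFinLocFreeOfRank_one hL)
    obtain ⟨R, hR⟩ := exists_rank hSig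
    obtain ⟨I, p, q, hp, hq, hpq, hI, -⟩ := exists_image k hdim hn hF hR j
    haveI := hp; haveI := hq
    obtain ⟨-, hIf⟩ := sub_bundle hdim.le hn hR q hI
    have hFc := SplitP1.isCoh_of_rank hF
    have hK := Coherent.isCoh_kernel p hFc hI.1
    have r2 := grk_additive (EulerLib.shortExact_kernel p) hFc
    change grk F = grk (kernel p) + grk I at r2
    rw [grk_eq hF] at r2
    have hkill : ∀ φ : F ⟶ L, kernel.ι p ≫ φ = 0 := by
      classical
      intro φ
      have h0 : ∀ i, kernel.ι p ≫ b i = 0 := fun i => by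
        have h1 : j ≫ Sigma.desc (fun l => if l = i then 𝟙 L else 0) = b i := by
          rw [Preadditive.sum_comp, Finset.sum_eq_single i]
          · simp
          · intro l _ hl
            simp [hl]
          · simp
        rw [← h1, ← hpq]
        simp
      rw [← b.sum_repr φ, Preadditive.comp_sum]
      exact Finset.sum_eq_zero fun i _ => by rw [Linear.comp_smul, h0 i, smul_zero]
    have hK0 : 0 < grk (kernel p) := by
      rcases Nat.eq_zero_or_pos (grk (kernel p)) with h0 | hpos
      · exfalso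
        haveI : Mono p := Preadditive.mono_of_isZero_kernel p
          (zero_rank_sub k hdim hn hF (kernel.ι p) hK h0).1
        haveI : Mono j := hpq ▸ mono_comp p q
        exact hmono (jointlyMono_of_mono _)
      · exact hpos
    haveI : Mono (Clifford24.mulR (ptIdeal P hP) L) := by
      have hLf := PicLib.isFinLocFreeOfRank_one hL
      exact Clifford24.mono_mulR _ fun x => let ⟨U, hx, e⟩ := hLf x; ⟨U, 1, hx, e⟩
    have hbij : ∀ {Y : X.Modules}, (∀ φ : F ⟶ Y, kernel.ι p ≫ φ = 0) →
        Module.finrank k (F ⟶ Y) = Module.finrank k (I ⟶ Y) := fun {Y} hY =>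
      (LinearEquiv.ofBijective (Linear.leftComp k Y p)
        ⟨fun a b h => (cancel_epi p).1 h, fun φ => ⟨Abelian.epiDesc p φ (hY φ), Abelian.comp_epiDesc p φ (hY φ)⟩⟩).finrank_eq.symm
    rw [hbij hkill] at hdimL
    rw [hbij (Y := L') fun φ => zero_of_comp_mono (Clifford24.mulR (ptIdeal P hP) L)
      ((Category.assoc _ _ _).trans (hkill _))] at hdimL'
    obtain ⟨-, hIL⟩ := finrank_hom_to_line k hdim hg hIf hL hN e
    obtain ⟨-, hIL'⟩ := finrank_hom_to_line k hdim hg hIf hL' hM' e'
    have hIM := Clifford24.isFinLocFreeOfRank_tensorMod hIf hM'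
    haveI : Mono (Clifford24.mulR (ptIdeal P hP) (CohB1.tensorMod I M')) :=
      Clifford24.mono_mulR _ fun x => let ⟨U, hx, e⟩ := hIM x; ⟨U, grk I, hx, e⟩
    obtain ⟨aI⟩ := exists_assocIso' I hM' hJ
    have hle : Module.finrank k (Coh.HH X (CohB1.tensorMod I N) 0) ≤
        Module.finrank k (Coh.HH X (CohB1.tensorMod I M') 0) :=
      h0_le_of_mono k (aI.inv ≫ Clifford24.mulR (ptIdeal P hP) _) (SplitP1.isCoh_of_rank hIM)
    have : (r : ℤ) ≤ grk I := by
      rw [hL'd] at hdimL' hIL'
      push_cast at hdimL hdimL'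
      linarith
    omega

end Groth.Agent.VB5
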