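import Groth.Agent.VB5.Elliptic
import Groth.Agent.CurveRR24.RatPoint
import Groth.Agent.SerreDual.TwistEquiv

/-!
# Bundles on a curve with a rational point
-/

set_option autoImplicit false
set_option linter.style.haveILetI false
set_option linter.unusedSectionVars false
set_option backward.isDefEq.respectTransparency.types false

universe u

open CategoryTheory CategoryTheory.Limits AlgebraicGeometry Opposite TopologicalSpace
open Groth.Agent.Coherent Groth.Agent.PicLib Groth.Agent.AmpleLib Groth.Agent.EulerLib Groth.Agent.CurveRR24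

namespace Groth.Agent.VB5

variable {X : Scheme.{u}} [IsIntegral X] [IsLocallyNoetherian X]
  (k : Type u) [Field k] [X.Over (Spec (CommRingCat.of k))] [IsProper (X ↘ Spec (CommRingCat.of k))]
  [Smooth (X ↘ Spec (CommRingCat.of k))] [GeometricallyIntegral (X ↘ Spec (CommRingCat.of k))]
  (hdim : topologicalKrullDim X = 1)
include k hdim

/-- A rational point gives an invertible ideal of degree `-1`. -/
theorem exists_rat_point (s : Spec (CommRingCat.of k) ⟶ X)
    (hs : s ≫ (X ↘ Spec (CommRingCat.of k)) = 𝟙 _) :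
    ∃ (P : X) (hP : IsClosed ({P} : Set X)),
      PicF.IsInvertible (ClSub.idealMod (ptIdeal P hP)) ∧ gdeg k (ClSub.idealMod (ptIdeal P hP)) = -1 := by
  obtain ⟨pt⟩ := (inferInstance : Nonempty (PrimeSpectrum k))
  have hP := CurveRR24.isClosed_section_point s hs pt
  have hI := isInvertible_ptIdeal_of_normal k hdim hP (isIntegrallyClosed_stalk k (s pt))
  refine ⟨s pt, hP, hI, ?_⟩
  rw [← deg_line k hI, deg_ptIdeal k hP, finrank_resField_section s hs pt]
  rfl

/-- With a rational point every degree occurs. -/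
theorem exists_line_deg_rat (s : Spec (CommRingCat.of k) ⟶ X)
    (hs : s ≫ (X ↘ Spec (CommRingCat.of k)) = 𝟙 _) (d : ℤ) :
    ∃ L : X.Modules, PicF.IsInvertible L ∧ gdeg k L = d := by
  obtain ⟨pt⟩ := (inferInstance : Nonempty (PrimeSpectrum k))
  have hP := CurveRR24.isClosed_section_point s hs pt
  have h1 := CurveRR24.deg_mem_degGroup k hdim hP (isIntegrallyClosed_stalk k (s pt))
  rw [finrank_resField_section s hs pt] at h1
  have h2 := (CurveRR24.degGroup k hdim.le).zsmul_mem h1 d
  simp only [smul_eq_mul, Nat.cast_one, mul_one] at h2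
  obtain ⟨L, hL, hd⟩ := h2
  exact ⟨L, hL, (deg_line k hL).symm.trans hd⟩

/-- Twisting down by a point of degree one loses at most the rank in sections. -/
theorem h0_le_twist_rat {r : ℕ} {E : X.Modules} (hE : FlatMod.IsFinLocFreeOfRank r E) {P : X}
    (hP : IsClosed ({P} : Set X)) (hI : PicF.IsInvertible (ClSub.idealMod (ptIdeal P hP)))
    (hd : gdeg k (ClSub.idealMod (ptIdeal P hP)) = -1) :
    (Module.finrank k (Coh.HH X E 0) : ℤ) ≤
      Module.finrank k (Coh.HH X (CohB1.tensorMod E (ClSub.idealMod (ptIdeal P hP))) 0) + (r : ℤ) := by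
  have hEI := Clifford24.isFinLocFreeOfRank_tensorMod hE hI
  haveI : Mono (Clifford24.mulR (ptIdeal P hP) E) :=
    Clifford24.mono_mulR _ fun x => let ⟨U, hx, e⟩ := hE x; ⟨U, r, hx, e⟩
  have h := h0_le_of_full_sub k hdim (Clifford24.mulR (ptIdeal P hP) E) (SplitP1.isCoh_of_rank hEI)
    (SplitP1.isCoh_of_rank hE) (by rw [grk_eq hEI, grk_eq hE])
  rw [gdeg_twist k hdim (isIntegrallyClosed' k hdim) hI r hE, hd] at h
  linarith

/-- No maps from a semistable bundle to one of smaller slope. -/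
theorem hom_eq_zero_of_slope_lt {r s : ℕ} (hr : 0 < r) (hs : 0 < s) {E F : X.Modules}
    (hE : FlatMod.IsFinLocFreeOfRank r E) (hF : FlatMod.IsFinLocFreeOfRank s F) (hEss : SS k E) (hFss : SS k F)
    (hlt : gdeg k F * (r : ℤ) < gdeg k E * (s : ℤ)) (f : E ⟶ F) : f = 0 := by
  obtain ⟨I, p, j, hp, hj, -, hI, hI0⟩ := exists_image k hdim (isIntegrallyClosed' k hdim) hE hF f
  by_contra hf
  have hc : (0 : ℤ) < (grk I : ℤ) := by exact_mod_cast hI0 hf
  have h1 := hEss.quot k (SplitP1.isCoh_of_rank hE) p hI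
  have h2 := hFss I j hj hI
  rw [grk_eq hE] at h1
  rw [grk_eq hF] at h2
  have hr' : (0 : ℤ) < r := by exact_mod_cast hr
  have hs' : (0 : ℤ) < s := by exact_mod_cast hs
  nlinarith [mul_le_mul_of_nonneg_right h1 hs'.le, mul_le_mul_of_nonneg_right h2 hr'.le,
    mul_lt_mul_of_pos_right hlt hc]

/-- On a genus one curve, `dim Hom(Z, N) = h⁰(Z ⊗ N⁻¹) + r deg N - deg Z`. -/
theorem finrank_hom_to_line (hg : Curv2.genus k X = 1) {r : ℕ} {Z N M : X.Modules}
    (hZ : FlatMod.IsFinLocFreeOfRank r Z) (hN : PicF.IsInvertible N) (hM : PicF.IsInvertible M)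
    (e : CohB1.tensorMod N M ≅ Coh.structureModule X) :
    Module.Finite k (Z ⟶ N) ∧ (Module.finrank k (Z ⟶ N) : ℤ) =
      Module.finrank k (Coh.HH X (CohB1.tensorMod Z M) 0) - gdeg k Z + (r : ℤ) * gdeg k N := by
  haveI : (SerreDual.twistF M).IsEquivalence := SerreDual.isEquivalence_twistF hN hM e
  have hbij : Function.Bijective (SerreDual.tensorRightHom k Z N M) :=
    ⟨SerreDual.tensorRightHom_injective k Z N hM, fun g => (SerreDual.twistF M).map_surjective g⟩
  let a : (Z ⟶ N) ≃ₗ[k] (CohB1.tensorMod Z M ⟶ Coh.structureModule X) :=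
    (LinearEquiv.ofBijective _ hbij).trans (Linear.homCongr k (Iso.refl _) e)
  obtain ⟨hfin, hh⟩ := finrank_hom_to_structure k hdim hg
    (SplitP1.isCoh_of_rank (Clifford24.isFinLocFreeOfRank_tensorMod hZ hM))
  haveI := hfin
  refine ⟨Module.Finite.equiv a.symm, ?_⟩
  rw [a.finrank_eq, hh, gdeg_twist k hdim (isIntegrallyClosed' k hdim) hM r hZ, gdeg_inverse k hdim hN hM e]
  ring

end Groth.Agent.VB5
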