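import Groth.Agent.VB5.Basic

/-!
# Maps between line bundles and their submodules of bundles
-/

set_option autoImplicit false
set_option linter.style.haveILetI false
set_option linter.unusedSectionVars false
set_option backward.isDefEq.respectTransparency.types false

universe u

open CategoryTheory CategoryTheory.Limits AlgebraicGeometry Opposite TopologicalSpace
open Groth.Agent.Coherent Groth.Agent.PicLib Groth.Agent.AmpleLib Groth.Agent.EulerLib Groth.Agent.CurveRR24

namespace Groth.Agent.VB5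

variable {X : Scheme.{u}} [IsIntegral X] [IsLocallyNoetherian X]
  (k : Type u) [Field k] [X.Over (Spec (CommRingCat.of k))] [IsProper (X ↘ Spec (CommRingCat.of k))]

theorem isCoh_of_line {L : X.Modules} (hL : PicF.IsInvertible L) : Coh.IsCoh L :=
  SplitP1.isCoh_of_rank (PicLib.isFinLocFreeOfRank_one hL)

theorem deg_line {L : X.Modules} (hL : PicF.IsInvertible L) : Curv2.deg k X L 1 = gdeg k L :=
  deg_eq_gdeg k (PicLib.isFinLocFreeOfRank_one hL)

variable (hdim : topologicalKrullDim X = 1) (hn : ∀ x : X, IsIntegrallyClosed (X.presheaf.stalk x))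
include k hdim hn

theorem st_line {L : X.Modules} (hL : PicF.IsInvertible L) : ST k L := by
  refine (st_iff_lt k hdim hn (PicLib.isFinLocFreeOfRank_one hL)).2 fun G r' i _ h1 h2 => ?_
  omega

/-- A nonzero map of line bundles does not decrease the degree; it is mono, iso for equal degrees. -/
theorem line_map {A B : X.Modules} (hA : PicF.IsInvertible A) (hB : PicF.IsInvertible B) (f : A ⟶ B) (hf : f ≠ 0) :
    gdeg k A ≤ gdeg k B ∧ Mono f ∧ (gdeg k A = gdeg k B → IsIso f) := by
  obtain ⟨I, p, j, hp, hj, hpj, hI, hI0⟩ :=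
    exists_image k hdim hn (PicLib.isFinLocFreeOfRank_one hA) (PicLib.isFinLocFreeOfRank_one hB) f
  have h1 := hI0 hf
  have hK := Coherent.isCoh_kernel p (isCoh_of_line hA) hI.1
  have hr := grk_additive (EulerLib.shortExact_kernel p) (isCoh_of_line hA)
  change grk A = grk (kernel p) + grk I at hr
  rw [rank_one hA] at hr
  haveI : Mono p := Preadditive.mono_of_isZero_kernel _
    (zero_rank_sub k hdim hn (PicLib.isFinLocFreeOfRank_one hA) (kernel.ι p) hK (by omega)).1
  haveI : Mono f := hpj ▸ mono_comp p j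
  obtain ⟨h2, h3⟩ := full_rank k hdim f (isCoh_of_line hA) (isCoh_of_line hB) (by rw [rank_one hA, rank_one hB])
  exact ⟨h2, inferInstance, h3⟩

/-- A nonzero endomorphism of a line bundle is invertible. -/
theorem isIso_line_endo {A : X.Modules} (hA : PicF.IsInvertible A) (f : A ⟶ A) (hf : f ≠ 0) : IsIso f :=
  (line_map k hdim hn hA hA f hf).2.2 rfl

/-- If `A` is a retract through a line bundle up to a unit, it is isomorphic to it. -/
theorem nonempty_iso_of_comp_ne_zero {A B : X.Modules} (hA : PicF.IsInvertible A) (hB : PicF.IsInvertible B)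
    (f : A ⟶ B) (g : B ⟶ A) (h : f ≫ g ≠ 0) : Nonempty (A ≅ B) := by
  have h1 := (line_map k hdim hn hA hB f fun e => h (by rw [e, zero_comp]))
  have h2 := (line_map k hdim hn hB hA g fun e => h (by rw [e, comp_zero]))
  haveI := h1.2.2 (le_antisymm h1.1 h2.1)
  exact ⟨asIso f⟩

theorem line_summand {L M₁ M₂ : X.Modules} (hL : PicF.IsInvertible L) (h₁ : PicF.IsInvertible M₁)
    (h₂ : PicF.IsInvertible M₂) (a : L ⟶ M₁ ⊞ M₂) (b : M₁ ⊞ M₂ ⟶ L) (hab : a ≫ b = 𝟙 L) :
    Nonempty (L ≅ M₁) ∨ Nonempty (L ≅ M₂) := by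
  by_contra h
  push Not at h
  have e1 : (a ≫ biprod.fst) ≫ (biprod.inl ≫ b) = 0 :=
    by_contra fun e => not_isEmpty_iff.2 (nonempty_iso_of_comp_ne_zero k hdim hn hL h₁ _ _ e) h.1
  have e2 : (a ≫ biprod.snd) ≫ (biprod.inr ≫ b) = 0 :=
    by_contra fun e => not_isEmpty_iff.2 (nonempty_iso_of_comp_ne_zero k hdim hn hL h₂ _ _ e) h.2
  refine not_isZero_of_grk (PicLib.isFinLocFreeOfRank_one hL) Nat.one_pos ((IsZero.iff_id_eq_zero _).2 ?_)
  calc 𝟙 L = a ≫ (biprod.fst ≫ biprod.inl + biprod.snd ≫ biprod.inr) ≫ b := by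
        rw [biprod.total, Category.id_comp, hab]
    _ = 0 := by
        simp only [Category.assoc] at e1 e2
        simp only [Preadditive.add_comp, Preadditive.comp_add, Category.assoc, e1, e2, add_zero]

/-- Two saturated line subbundles agree as soon as one maps to zero in the quotient of the other. -/
theorem exists_iso_of_comp_eq_zero {E M M' : X.Modules} (hM : PicF.IsInvertible M) (hM' : PicF.IsInvertible M')
    (i : M ⟶ E) (i' : M' ⟶ E) [Mono i] [Mono i'] (hq : PicF.IsInvertible (cokernel i))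
    (h : i ≫ cokernel.π i' = 0) : ∃ φ : M ≅ M', φ.hom ≫ i' = i := by
  let S := ShortComplex.mk i' (cokernel.π i') (cokernel.condition i')
  have hS : S.ShortExact := EulerLib.shortExact_cokernel i'
  let ψ : M ⟶ M' := hS.fIsKernel.lift (KernelFork.ofι i h)
  have hψ : ψ ≫ i' = i := hS.fIsKernel.fac (KernelFork.ofι i h) WalkingParallelPair.zero
  haveI : Mono ψ := mono_of_mono_fac hψ
  have h' : i' ≫ cokernel.π i = 0 := by
    by_contra hne
    haveI := (line_map k hdim hn hM' hq _ hne).2.1
    have h0 : ψ ≫ (i' ≫ cokernel.π i) = 0 ≫ (i' ≫ cokernel.π i) := by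
      rw [zero_comp, ← Category.assoc, hψ, cokernel.condition]
    exact not_isZero_of_grk (PicLib.isFinLocFreeOfRank_one hM) Nat.one_pos
      (IsZero.of_mono_eq_zero ψ ((cancel_mono _).1 h0))
  let χ : M' ⟶ M := (EulerLib.shortExact_cokernel i).fIsKernel.lift (KernelFork.ofι i' h')
  have hχ : χ ≫ i = i' :=
    (EulerLib.shortExact_cokernel i).fIsKernel.fac (KernelFork.ofι i' h') WalkingParallelPair.zero
  exact ⟨⟨ψ, χ, (cancel_mono i).1 (by rw [Category.assoc, hχ, hψ, Category.id_comp]),
    (cancel_mono i').1 (by rw [Category.assoc, hψ, hχ, Category.id_comp])⟩, hψ⟩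

end Groth.Agent.VB5
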