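import Groth.Agent.VB5.RankTwo
import Groth.Agent.VarietyLib.DetDeg

/-!
# Semistable bundles on genus one curves: evaluation kernels
-/

set_option autoImplicit false
set_option linter.style.haveILetI false
set_option linter.unusedSectionVars false
set_option backward.isDefEq.respectTransparency.types false

universe u

open CategoryTheory CategoryTheory.Limits AlgebraicGeometry Opposite TopologicalSpace
open Groth.Agent.Coherent Groth.Agent.PicLib Groth.Agent.AmpleLib Groth.Agent.EulerLib Groth.Agent.CurveRR24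

namespace Groth.Agent.VB5

variable {X : Scheme.{u}} [IsIntegral X] [IsLocallyNoetherian X]
  (k : Type u) [Field k] [X.Over (Spec (CommRingCat.of k))] [IsProper (X ↘ Spec (CommRingCat.of k))]
  [Smooth (X ↘ Spec (CommRingCat.of k))] [GeometricallyIntegral (X ↘ Spec (CommRingCat.of k))]
  (hdim : topologicalKrullDim X = 1)
include k hdim

omit hdim in
theorem grk_free (n : ℕ) : grk (FlatMod.freeMod X n) = n :=
  grk_eq (VarietyLib.isFinLocFreeOfRank_freeMod n)

theorem gdeg_free (n : ℕ) : gdeg k (FlatMod.freeMod X n) = 0 := by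
  rw [gdeg, grk_free k, VarietyLib.euler_freeMod k n]
  ring

/-- Projection of a free module. -/
noncomputable abbrev freeπ (n : ℕ) (i : Fin n) : FlatMod.freeMod X n ⟶ Coh.structureModule X :=
  Sigma.desc fun j => if j = i then 𝟙 _ else 0

omit [IsIntegral X] [IsLocallyNoetherian X] hdim in
include k in
theorem hom_free_ext {n : ℕ} {A : X.Modules} (a : A ⟶ FlatMod.freeMod X n) :
    a = ∑ i, (a ≫ freeπ n i) ≫ Sigma.ι (fun _ : Fin n => Coh.structureModule X) i := by
  classical
  have h : ∑ i, freeπ n i ≫ Sigma.ι (fun _ : Fin n => Coh.structureModule X) i = 𝟙 (FlatMod.freeMod X n) := by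
    refine Sigma.hom_ext _ _ fun j => ?_
    rw [Preadditive.comp_sum, Category.comp_id, Finset.sum_eq_single j]
    · simp [freeπ]
    · intro i _ hi
      simp [freeπ, Ne.symm hi]
    · exact fun h => absurd (Finset.mem_univ j) h
  conv_lhs => rw [← Category.comp_id a, ← h, Preadditive.comp_sum]
  simp only [Category.assoc]

omit [IsIntegral X] [IsLocallyNoetherian X] hdim in
theorem finite_hom_structure_free (n : ℕ) :
    Module.Finite k (Coh.structureModule X ⟶ FlatMod.freeMod X n) := by
  haveI := EulerLib.isNoetherian_of_proper k (X := X)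
  haveI := CurveRR24.finite_HH_of_isCoh k
    (Coherent.CohBC.isCoh_of_isFinLocFree (exists_rank_free (VarietyLib.isFinLocFreeOfRank_freeMod (X := X) n))) 0
  exact Module.Finite.equiv (SerreDual.homUnitHH k _).symm

theorem finrank_hom_structure_free (n : ℕ) :
    Module.finrank k (Coh.structureModule X ⟶ FlatMod.freeMod X n) ≤ n := by
  let O := Coh.structureModule X
  haveI := CurveRR24.finite_HH_of_isCoh k (isCoh_of_line (AmpleLib.isInvertible_structureModule (X := X))) 0
  haveI : Module.Finite k (O ⟶ O) := Module.Finite.equiv (SerreDual.homUnitHH k _).symm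
  let T : (O ⟶ FlatMod.freeMod X n) →ₗ[k] (Fin n → (O ⟶ O)) :=
    LinearMap.pi fun i => Linear.rightComp k O (freeπ n i)
  have hT : Function.Injective T := (injective_iff_map_eq_zero _).2 fun a h => by
    rw [hom_free_ext k a]
    refine Finset.sum_eq_zero fun i _ => ?_
    rw [show a ≫ freeπ n i = 0 from congrFun h i, zero_comp]
  refine (LinearMap.finrank_le_finrank_of_injective hT).trans ?_
  rw [Module.finrank_pi_fintype, (SerreDual.homUnitHH k O).finrank_eq, CurveRR24.h0_structure_of_geomIntegral k]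
  simp

/-- The kernel of a map out of a free module injective on global sections has no sections. -/
theorem h0_kernel_free {n : ℕ} {F : X.Modules} (hF : Coh.IsCoh F) (u : FlatMod.freeMod X n ⟶ F)
    (hu : ∀ c : Fin n → k, (∑ i, c i • (Sigma.ι (fun _ : Fin n => Coh.structureModule X) i ≫ u)) = 0 → c = 0) :
    Module.finrank k (Coh.HH X (kernel u) 0) = 0 := by
  let O := Coh.structureModule X
  haveI := finite_hom_structure_free k (X := X) n
  let ι := Sigma.ι (fun _ : Fin n => O)
  let T : (Fin n → k) →ₗ[k] (O ⟶ FlatMod.freeMod X n) := Fintype.linearCombination k ι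
  have hTu : ∀ c, T c ≫ u = ∑ i, c i • (ι i ≫ u) := fun c => by
    simp [T, Fintype.linearCombination_apply, Preadditive.sum_comp]
  have hT : Function.Injective T := (injective_iff_map_eq_zero _).2 fun c hc => hu c (by
    rw [← hTu, hc, zero_comp])
  have hTs : Function.Surjective T := by
    rw [← LinearMap.range_eq_top]
    refine Submodule.eq_top_of_finrank_eq (le_antisymm (Submodule.finrank_le _) ?_)
    rw [LinearMap.finrank_range_of_inj hT, Module.finrank_fin_fun]
    exact finrank_hom_structure_free k hdim n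
  haveI : Subsingleton (O ⟶ kernel u) := subsingleton_of_forall_eq 0 fun a => by
    obtain ⟨c, hc⟩ := hTs (a ≫ kernel.ι u)
    have h0 : c = 0 := hu c (by rw [← hTu, hc, Category.assoc, kernel.condition, comp_zero])
    rw [h0, map_zero] at hc
    exact (cancel_mono (kernel.ι u)).1 (hc.symm.trans zero_comp.symm)
  rw [← (SerreDual.homUnitHH k (kernel u)).finrank_eq]
  exact Module.finrank_zero_of_subsingleton

/-- Evaluation on global sections. -/
theorem exists_eval {r : ℕ} {F : X.Modules} (hF : FlatMod.IsFinLocFreeOfRank r F)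
    (hg : Curv2.IsGloballyGenerated F) :
    ∃ u : FlatMod.freeMod X (Module.finrank k (Coh.HH X F 0)) ⟶ F, Epi u ∧
      ∀ c : Fin (Module.finrank k (Coh.HH X F 0)) → k,
        (∑ i, c i • (Sigma.ι (fun _ : Fin (Module.finrank k (Coh.HH X F 0)) => Coh.structureModule X) i ≫ u)) = 0 →
          c = 0 := by
  classical
  let O := Coh.structureModule X
  haveI := EulerLib.isNoetherian_of_proper k (X := X)
  haveI := CurveRR24.finite_HH_of_isCoh k (SplitP1.isCoh_of_rank hF) 0
  haveI : Module.Finite k (O ⟶ F) := Module.Finite.equiv (SerreDual.homUnitHH k _).symm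
  let b := Module.finBasisOfFinrankEq k (O ⟶ F) ((SerreDual.homUnitHH k F).finrank_eq)
  refine ⟨Sigma.desc b, ?_, fun c hc => ?_⟩
  · obtain ⟨ι, p, hp⟩ := hg
    let p' : Coherent.freeMod X ι ⟶ F := p
    haveI : Epi p' := hp
    refine epi_of_epi_fac (f := freeDesc fun i => ∑ l, b.repr (freeInj i ≫ p') l •
      Sigma.ι (fun _ : Fin (Module.finrank k (Coh.HH X F 0)) => O) l) (h := p') ?_
    refine freeMod_hom_ext fun i => ?_
    rw [← Category.assoc, freeInj_freeDesc, Preadditive.sum_comp]
    simp only [Linear.smul_comp, Sigma.ι_desc]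
    exact b.sum_repr (freeInj i ≫ p')
  · simp only [Sigma.ι_desc] at hc
    exact funext (Fintype.linearIndependent_iff.1 b.linearIndependent c hc)

/-- On a genus one curve, rank `r` and degree `r`: a line bundle of positive degree maps in. -/
theorem exists_line_of_deg_rank [IsAlgClosed k] (hg : Curv2.genus k X = 1) {r : ℕ} (hr : 0 < r) {E : X.Modules}
    (hE : FlatMod.IsFinLocFreeOfRank r E) (hd : gdeg k E = r) :
    ∃ (M : X.Modules) (f : M ⟶ E), PicF.IsInvertible M ∧ f ≠ 0 ∧ 1 ≤ gdeg k M := by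
  haveI := EulerLib.isNoetherian_of_proper k (X := X)
  have hn := isIntegrallyClosed' k hdim (X := X)
  have hEc := SplitP1.isCoh_of_rank hE
  let O := Coh.structureModule X
  have hO : PicF.IsInvertible O := AmpleLib.isInvertible_structureModule
  by_cases hP : ∃ (P : X) (hP : IsClosed ({P} : Set X)),
      Module.finrank k (Coh.HH X (CohB1.tensorMod E (ClSub.idealMod (ptIdeal P hP))) 0) ≠ 0
  · obtain ⟨P, hP, h0⟩ := hP
    have hI := isInvertible_ptIdeal_of_normal k hdim hP (hn P)
    obtain ⟨φ, hφ, -⟩ := exists_section_mono k hdim (Clifford24.isFinLocFreeOfRank_tensorMod hE hI) h0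
    obtain ⟨A, hA, ⟨e⟩⟩ := CurveRR24.exists_inverse k hI
    obtain ⟨g, hgne⟩ := exists_hom_untwist k hdim hI hA e φ hφ
    refine ⟨_, g, AmpleLib.isInvertible_tensorMod hO hA, hgne, ?_⟩
    rw [gdeg_tensor_line k hdim hO hA, gdeg_structure k hdim, gdeg_inverse k hdim hI hA e,
      ← deg_line k hI, deg_ptIdeal k hP, finrank_resField k hP]
    norm_num
  · push Not at hP
    exfalso
    have hEg : Curv2.IsGloballyGenerated E := by
      refine globallyGenerated_of_h1 k hdim hn hE fun P hP' => ?_
      have hI := isInvertible_ptIdeal_of_normal k hdim hP' (hn P)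
      have hT := Clifford24.isFinLocFreeOfRank_tensorMod hE hI
      rw [subsingleton_h1_iff_h0 k hdim (SplitP1.isCoh_of_rank hT), hP P hP', grk_eq hT,
        gdeg_twist_point k hdim hE hP', hd, hg]
      norm_num
    haveI := LocallyOfFiniteType.jacobsonSpace (X ↘ Spec (CommRingCat.of k))
    obtain ⟨P, -, hP'⟩ := nonempty_inter_closedPoints (X := X) Set.univ_nonempty isClosed_univ.isLocallyClosed
    have hle := h0_le_twist k hdim hE hP'
    rw [hP P hP'] at hle
    have hge := gdeg_le_h0_add k hdim hEc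
    rw [grk_eq hE, hd, hg] at hge
    obtain ⟨u, hu, -⟩ := exists_eval k hdim hE hEg
    have hfc := SplitP1.isCoh_of_rank (VarietyLib.isFinLocFreeOfRank_freeMod (X := X) (Module.finrank k (Coh.HH X E 0)))
    have hK := Coherent.isCoh_kernel u hfc hEc.1
    have r2 := grk_additive (EulerLib.shortExact_kernel u) hfc
    have d2 := gdeg_additive k (EulerLib.shortExact_kernel u) hK hfc hEc
    change grk (FlatMod.freeMod X _) = grk (kernel u) + grk E at r2
    change gdeg k (FlatMod.freeMod X _) = gdeg k (kernel u) + gdeg k E at d2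
    rw [grk_free k, grk_eq hE] at r2
    rw [gdeg_free k hdim, hd] at d2
    push_cast at hle hge
    have := (torsion_deg k hdim hK (by omega)).1
    omega

/-- On a genus one curve `dim Hom(G, O) = h¹(G)`. -/
theorem finrank_hom_to_structure (hg : Curv2.genus k X = 1) {G : X.Modules} (hG : Coh.IsCoh G) :
    Module.Finite k (G ⟶ Coh.structureModule X) ∧
      (Module.finrank k (G ⟶ Coh.structureModule X) : ℤ) = Module.finrank k (Coh.HH X G 0) - gdeg k G := by
  haveI := EulerLib.isNoetherian_of_proper k (X := X)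
  obtain ⟨ω, t, hω, hrep⟩ := SerreDual.exists_dualizing k X (d := 1) (by rw [hdim]; norm_num)
  obtain ⟨eω⟩ := OmegaDual24.nonempty_iso_omega k hdim hω hrep
  obtain ⟨hfin, hhom⟩ := SerreDual.finrank_hom_eq_h1 hrep hG
  haveI := hfin
  obtain ⟨eO⟩ := nonempty_omega_iso k hdim hg
  let e : (G ⟶ ω) ≃ₗ[k] (G ⟶ Coh.structureModule X) := Linear.homCongr k (Iso.refl G) (eω.symm ≪≫ eO.symm)
  refine ⟨Module.Finite.equiv e, ?_⟩
  rw [← e.finrank_eq, hhom]
  have h := euler_eq_gdeg k hdim G
  rw [euler_eq_h0_sub_h1 k hdim.le G hG.1, hg] at h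
  push_cast at h
  omega

/-- The slope estimate for a submodule of maximal slope of an evaluation kernel. -/
theorem kernel_slope_core (hg : Curv2.genus k X = 1) {r' n : ℕ} {F G : X.Modules}
    (hF : FlatMod.IsFinLocFreeOfRank r' F) (hss : SS k F) (hd : gdeg k F = n)
    (u : FlatMod.freeMod X n ⟶ F)
    (hM0 : Module.finrank k (Coh.HH X (kernel u) 0) = 0)
    (j : G ⟶ kernel u) [Mono j] (hG : Coh.IsCoh G) (hpos : 0 < grk G)
    (hmax : ∀ (K : X.Modules) (i : K ⟶ kernel u), Mono i → Coh.IsCoh K →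
      gdeg k K * (grk G : ℤ) ≤ gdeg k G * (grk K : ℤ)) :
    gdeg k G * ((n : ℤ) - r') ≤ -(n : ℤ) * grk G ∧
      (gdeg k G * ((n : ℤ) - r') = -(n : ℤ) * grk G → ST k F → (grk G : ℤ) < (n : ℤ) - r' → False) := by
  classical
  haveI := EulerLib.isNoetherian_of_proper k (X := X)
  have hn := isIntegrallyClosed' k hdim (X := X)
  let O := Coh.structureModule X
  obtain ⟨hfin, he⟩ := finrank_hom_to_structure k hdim hg hG
  haveI := hfin
  have hfc : ∀ m, Coh.IsCoh (FlatMod.freeMod X m) := fun m =>
    SplitP1.isCoh_of_rank (VarietyLib.isFinLocFreeOfRank_freeMod (X := X) m)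
  have hFc := SplitP1.isCoh_of_rank hF
  have hG0 : Module.finrank k (Coh.HH X G 0) = 0 := by
    have := h0_le_of_mono k j (Coherent.isCoh_kernel u (hfc n) hFc.1)
    omega
  rw [hG0, Nat.cast_zero, zero_sub] at he
  let ι := Sigma.ι (fun _ : Fin n => O)
  let g : Fin n → (G ⟶ O) := fun i => (j ≫ kernel.ι u) ≫ freeπ n i
  let W := Submodule.span k (Set.range g)
  let w := Module.finrank k W
  have hw : (w : ℤ) ≤ - gdeg k G := by
    have h : (w : ℤ) ≤ Module.finrank k (G ⟶ Coh.structureModule X) := by exact_mod_cast Submodule.finrank_le W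
    linarith
  let b : Module.Basis (Fin w) k W := Module.finBasisOfFinrankEq k W rfl
  let A : Fin n → Fin w → k := fun i => b.repr ⟨g i, Submodule.subset_span ⟨i, rfl⟩⟩
  have hgA : ∀ i, g i = ∑ l, A i l • (b l : G ⟶ O) := fun i => by
    have h := congrArg W.subtype (b.sum_repr ⟨g i, Submodule.subset_span ⟨i, rfl⟩⟩)
    simp only [map_sum, map_smul, Submodule.subtype_apply] at h
    exact h.symm
  have hB : ∀ l, ∃ B : Fin n → k, ∑ i, B i • g i = (b l : G ⟶ O) := fun l =>
    (Submodule.mem_span_range_iff_exists_fun k).1 (b l).2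
  choose B hB using hB
  have hBA : ∀ l m, ∑ i, B l i * A i m = if l = m then 1 else 0 := fun l m => by
    have h1 : ∑ m, (∑ i, B l i * A i m) • b m = b l := by
      apply Subtype.ext
      simp only [AddSubmonoidClass.coe_finset_sum, SetLike.val_smul, Finset.sum_smul]
      rw [Finset.sum_comm, ← hB l]
      simp only [hgA, Finset.smul_sum, smul_smul]
    have h2 := congrArg (fun z => b.repr z m) h1
    simpa [Finsupp.single_apply] using h2
  let a : FlatMod.freeMod X w ⟶ FlatMod.freeMod X n := Sigma.desc fun l => ∑ i, A i l • ι i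
  let a' : FlatMod.freeMod X n ⟶ FlatMod.freeMod X w :=
    Sigma.desc fun i => ∑ l, B l i • Sigma.ι (fun _ : Fin w => O) l
  haveI : IsSplitMono a := ⟨⟨a', Sigma.hom_ext _ _ fun l => by
    simp only [a, a', ι, Sigma.ι_desc_assoc, Preadditive.sum_comp, Linear.smul_comp, Sigma.ι_desc,
      Finset.smul_sum, smul_smul, Category.comp_id]
    rw [Finset.sum_comm]
    simp only [← Finset.sum_smul]
    rw [Finset.sum_eq_single l]
    · rw [Finset.sum_congr rfl fun i _ => mul_comm (A i l) (B l i), hBA l l, if_pos rfl, one_smul]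
    · intro m _ hm
      rw [Finset.sum_congr rfl fun i _ => mul_comm (A i l) (B m i), hBA m l, if_neg hm, zero_smul]
    · exact fun h => absurd (Finset.mem_univ l) h⟩⟩
  let β : G ⟶ FlatMod.freeMod X w := ∑ l, (b l : G ⟶ O) ≫ Sigma.ι (fun _ : Fin w => O) l
  have hβ : β ≫ a = j ≫ kernel.ι u := by
    rw [hom_free_ext k (j ≫ kernel.ι u)]
    simp only [β, a, Preadditive.sum_comp, Category.assoc, Sigma.ι_desc, Preadditive.comp_sum, Linear.comp_smul]
    rw [Finset.sum_comm]
    refine Finset.sum_congr rfl fun i _ => ?_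
    rw [show j ≫ kernel.ι u ≫ freeπ n i ≫ Sigma.ι (fun _ : Fin n => Coh.structureModule X) i =
      g i ≫ ι i by simp [g, ι, O], hgA i, Preadditive.sum_comp]
    simp only [Linear.smul_comp]
  haveI : Mono (β ≫ a) := hβ.symm ▸ mono_comp j (kernel.ι u)
  haveI : Mono β := mono_of_mono β a
  let v := a ≫ u
  have hK := Coherent.isCoh_kernel v (hfc w) hFc.1
  let γ : G ⟶ kernel v := kernel.lift v β (by
    rw [← Category.assoc, hβ, Category.assoc, kernel.condition, comp_zero])
  haveI : Mono γ := mono_of_mono_fac (kernel.lift_ι v β _)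
  let δ : kernel v ⟶ kernel u := kernel.lift u (kernel.ι v ≫ a) (by
    rw [Category.assoc]; exact kernel.condition v)
  haveI : Mono δ := mono_of_mono_fac (h := kernel.ι v ≫ a) (kernel.lift_ι u _ _)
  have hKs := hmax (kernel v) δ inferInstance hK
  have hrG : grk G ≤ grk (kernel v) := by
    have h := grk_additive (EulerLib.shortExact_cokernel γ) hK
    change grk (kernel v) = grk G + grk (cokernel γ) at h
    omega
  have hI : Coh.IsCoh (Abelian.coimage v) := Coherent.isCoh_cokernel (kernel.ι v) hK.1 (hfc w)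
  haveI : Mono (Abelian.factorThruCoimage v) := inferInstance
  have hr := grk_additive (EulerLib.shortExact_cokernel (kernel.ι v)) (hfc w)
  have hdd := gdeg_additive k (EulerLib.shortExact_cokernel (kernel.ι v)) hK (hfc w) hI
  change grk (FlatMod.freeMod X w) = grk (kernel v) + grk (Abelian.coimage v) at hr
  change gdeg k (FlatMod.freeMod X w) = gdeg k (kernel v) + gdeg k (Abelian.coimage v) at hdd
  rw [grk_free k] at hr
  rw [gdeg_free k hdim] at hdd
  have hIss := hss _ (Abelian.factorThruCoimage v) inferInstance hI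
  rw [grk_eq hF, hd] at hIss
  set s : ℤ := (grk G : ℤ) with hs
  set κ : ℤ := (grk (kernel v) : ℤ) with hκ
  set ρ : ℤ := (grk (Abelian.coimage v) : ℤ) with hρ
  have hr' : (w : ℤ) = κ + ρ := by simp only [hκ, hρ]; exact_mod_cast hr
  have hs0 : 0 < s := by simp only [hs]; exact_mod_cast hpos
  have hsκ : s ≤ κ := by simp only [hs, hκ]; exact_mod_cast hrG
  have hρ0 : 0 ≤ ρ := Int.natCast_nonneg _
  have hκ0 : 0 ≤ κ := Int.natCast_nonneg _
  have hn0 : (0 : ℤ) ≤ n := Int.natCast_nonneg _
  have hr0 : (0 : ℤ) ≤ r' := Int.natCast_nonneg _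
  have he0 : 0 ≤ - gdeg k G := by omega
  have e1 : gdeg k (Abelian.coimage v) = - gdeg k (kernel v) := by omega
  rw [e1] at hIss
  have c1 : 0 ≤ (r' : ℤ) * ((-gdeg k (kernel v)) * s - (-gdeg k G) * κ) :=
    mul_nonneg hr0 (by linarith)
  have c2 : 0 ≤ s * ((n : ℤ) * ρ - (-gdeg k (kernel v)) * r') := mul_nonneg hs0.le (by linarith)
  have c3 : 0 ≤ s * (n : ℤ) * (-gdeg k G - (w : ℤ)) := mul_nonneg (mul_nonneg hs0.le hn0) (by linarith)
  have c4 : 0 ≤ (κ - s) * ((-gdeg k G) * r' + (n : ℤ) * s) :=
    mul_nonneg (by linarith) (add_nonneg (mul_nonneg he0 hr0) (mul_nonneg hn0 hs0.le))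
  have key : s * ((-gdeg k G) * ((n : ℤ) - r') - (n : ℤ) * s) =
      (r' : ℤ) * ((-gdeg k (kernel v)) * s - (-gdeg k G) * κ) + s * ((n : ℤ) * ρ - (-gdeg k (kernel v)) * r') +
      s * (n : ℤ) * (-gdeg k G - (w : ℤ)) + (κ - s) * ((-gdeg k G) * r' + (n : ℤ) * s) := by
    rw [hr']; ring
  refine ⟨?_, fun heq hst hlt => ?_⟩
  · have hnn : 0 ≤ s * ((-gdeg k G) * ((n : ℤ) - r') - (n : ℤ) * s) := by rw [key]; linarith
    have := nonneg_of_mul_nonneg_right hnn hs0
    linarith
  · have hz : s * ((-gdeg k G) * ((n : ℤ) - r') - (n : ℤ) * s) = 0 := by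
      rw [show (-gdeg k G) * ((n : ℤ) - r') - (n : ℤ) * s = 0 by linarith, mul_zero]
    have hn1 : 0 < (n : ℤ) := by linarith
    have z2 : s * ((n : ℤ) * ρ - (-gdeg k (kernel v)) * r') = 0 := by linarith
    have z3 : s * (n : ℤ) * (-gdeg k G - (w : ℤ)) = 0 := by linarith
    have z4 : (κ - s) * ((-gdeg k G) * r' + (n : ℤ) * s) = 0 := by linarith
    have hw' : (w : ℤ) = -gdeg k G := by
      rcases mul_eq_zero.1 z3 with h | h
      · exact absurd h (mul_ne_zero hs0.ne' hn1.ne')
      · linarith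
    have hκ' : κ = s := by
      rcases mul_eq_zero.1 z4 with h | h
      · linarith
      · exact absurd h (ne_of_gt (add_pos_of_nonneg_of_pos (mul_nonneg he0 hr0) (mul_pos hn1 hs0)))
    have hρ' : ρ * ((n : ℤ) - r') = s * r' := by
      rw [show ρ = -gdeg k G - s by linarith]
      linarith
    have hρlt : ρ < r' := by
      by_contra hle
      push Not at hle
      have h1 : (r' : ℤ) * ((n : ℤ) - r') ≤ ρ * ((n : ℤ) - r') := mul_le_mul_of_nonneg_right hle (by linarith)
      rcases eq_or_lt_of_le hr0 with h | h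
      · have h0 : r' = 0 := by exact_mod_cast h.symm
        have := (zero_rank_sub k hdim hn hF (𝟙 F) hFc ((grk_eq hF).trans h0)).2
        linarith
      · nlinarith [mul_lt_mul_of_pos_left hlt h]
    have hρpos : 0 < ρ := by
      by_contra h0
      have : ρ = 0 := by linarith
      rw [this, zero_mul] at hρ'
      rcases mul_eq_zero.1 hρ'.symm with h | h <;> linarith
    have hni : ¬ IsIso (Abelian.factorThruCoimage v) := fun hi => by
      have := grk_congr (asIso (Abelian.factorThruCoimage v))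
      rw [grk_eq hF] at this
      simp only [hρ, this] at hρlt
      exact lt_irrefl _ hρlt
    have := hst _ (Abelian.factorThruCoimage v) inferInstance hI (by simp only [hρ] at hρpos; exact_mod_cast hρpos) hni
    rw [grk_eq hF, hd, e1] at this
    rcases mul_eq_zero.1 z2 with h | h <;> linarith

/-- The evaluation kernel of a semistable bundle of slope above one on a genus one curve. -/
theorem exists_kernel_bundle [IsAlgClosed k] (hg : Curv2.genus k X = 1) {r' n : ℕ} {F : X.Modules}
    (hF : FlatMod.IsFinLocFreeOfRank r' F) (hss : SS k F) (hd : gdeg k F = n) (hlt : r' < n) :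
    ∃ M : X.Modules, FlatMod.IsFinLocFreeOfRank (n - r') M ∧ gdeg k M = -(n : ℤ) ∧ SS k M ∧
      (ST k F → ST k M) := by
  haveI := EulerLib.isNoetherian_of_proper k (X := X)
  have hn := isIntegrallyClosed' k hdim (X := X)
  have hFc := SplitP1.isCoh_of_rank hF
  have h1 := subsingleton_h1_of_ss k hdim hF hss (by rw [hg, hd]; push_cast; omega)
  have h0 := (subsingleton_h1_iff_h0 k hdim hFc).1 h1
  rw [hd, hg] at h0
  push_cast at h0
  have hn' : Module.finrank k (Coh.HH X F 0) = n := by omega
  have hgg := globallyGenerated_of_ss k hdim hF hss (by rw [hg, hd]; push_cast; omega)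
  obtain ⟨u, hu, hinj⟩ := exists_eval k hdim hF hgg
  have hf := VarietyLib.isFinLocFreeOfRank_freeMod (X := X) (Module.finrank k (Coh.HH X F 0))
  have hfc := SplitP1.isCoh_of_rank hf
  have hKc := Coherent.isCoh_kernel u hfc hFc.1
  have r2 := grk_additive (EulerLib.shortExact_kernel u) hfc
  have d2 := gdeg_additive k (EulerLib.shortExact_kernel u) hKc hfc hFc
  change grk (FlatMod.freeMod X _) = grk (kernel u) + grk F at r2
  change gdeg k (FlatMod.freeMod X _) = gdeg k (kernel u) + gdeg k F at d2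
  rw [grk_free k, grk_eq hF] at r2
  rw [gdeg_free k hdim, hd] at d2
  have hr : grk (kernel u) = n - r' := by omega
  have hMf : FlatMod.IsFinLocFreeOfRank (n - r') (kernel u) :=
    hr ▸ (sub_bundle hdim.le hn hf (kernel.ι u) hKc).2
  have hM0 := h0_kernel_free k hdim hFc u hinj
  have hcast : ((n - r' : ℕ) : ℤ) = (n : ℤ) - r' := by omega
  obtain ⟨E₁, i, hi, hE₁c, hpos, hE₁, hmax⟩ := exists_max_destab k hdim hn (by omega) hMf
  have hF' : gdeg k F = (Module.finrank k (Coh.HH X F 0) : ℤ) := by rw [hn', hd]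
  haveI := hi
  have hcore := (kernel_slope_core k hdim hg hF hss hF' u hM0 i hE₁c hpos fun K l hl hK => (hmax K l hl hK).1).1
  rw [hn'] at hcore
  refine ⟨kernel u, hMf, by omega, fun G j hj hG => ?_, fun hst => ?_⟩
  · rw [hr, hcast, show gdeg k (kernel u) = -(n : ℤ) by omega]
    refine le_of_mul_le_mul_right ?_ (show (0 : ℤ) < grk E₁ by exact_mod_cast hpos)
    have h2 := mul_le_mul_of_nonneg_right (hmax G j hj hG).1 (show (0 : ℤ) ≤ (n : ℤ) - r' by omega)
    have h3 := mul_le_mul_of_nonneg_right hcore (Int.natCast_nonneg (grk G))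
    linarith
  · rw [st_iff_lt k hdim hn hMf]
    intro G s j hj hs hlt' hG
    haveI := hj
    have hGc := SplitP1.isCoh_of_rank hG
    rw [deg_eq_gdeg k hG, deg_eq_gdeg k hMf, hcast, show gdeg k (kernel u) = -(n : ℤ) by omega]
    have hs' : (0 : ℤ) < s := by exact_mod_cast hs
    have hE₁' : (0 : ℤ) < grk E₁ := by exact_mod_cast hpos
    have h2 := (hmax G j hj hGc).1
    rw [grk_eq hG] at h2
    by_contra hnot
    push Not at hnot
    have h4 := mul_le_mul_of_nonneg_right h2 (show (0 : ℤ) ≤ (n : ℤ) - r' by omega)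
    have h5 := mul_le_mul_of_nonneg_right hcore hs'.le
    have h6 := mul_le_mul_of_nonneg_right hnot hE₁'.le
    have hGmax : ∀ (K : X.Modules) (l : K ⟶ kernel u), Mono l → Coh.IsCoh K →
        gdeg k K * (grk G : ℤ) ≤ gdeg k G * (grk K : ℤ) := by
      intro K l hl hK
      rw [grk_eq hG]
      have h7 := mul_le_mul_of_nonneg_right (hmax K l hl hK).1 hs'.le
      have h8 : gdeg k G * (grk E₁ : ℤ) * ((n : ℤ) - r') = gdeg k E₁ * s * ((n : ℤ) - r') := by linarith
      have h9 : gdeg k G * (grk E₁ : ℤ) = gdeg k E₁ * s :=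
        mul_right_cancel₀ (show ((n : ℤ) - r') ≠ 0 by omega) h8
      refine le_of_mul_le_mul_right ?_ hE₁'
      calc gdeg k K * s * (grk E₁ : ℤ) ≤ gdeg k E₁ * (grk K : ℤ) * s := by linarith
        _ = gdeg k E₁ * s * (grk K : ℤ) := by ring
        _ = gdeg k G * (grk E₁ : ℤ) * (grk K : ℤ) := by rw [h9]
        _ = gdeg k G * (grk K : ℤ) * (grk E₁ : ℤ) := by ring
    obtain ⟨ha, hb⟩ := kernel_slope_core k hdim hg hF hss hF' u hM0 j hGc (by rw [grk_eq hG]; exact hs) hGmax
    rw [grk_eq hG, hn'] at ha hb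
    exact hb (by linarith) hst (by omega)

/-- A free module is semistable. -/
theorem ss_free (n : ℕ) : SS k (FlatMod.freeMod X n) := by
  haveI := EulerLib.isNoetherian_of_proper k (X := X)
  have hn := isIntegrallyClosed' k hdim (X := X)
  have hf := VarietyLib.isFinLocFreeOfRank_freeMod (X := X) n
  intro G j hj hG
  haveI := hj
  rw [gdeg_free k hdim, zero_mul, grk_free k]
  rcases Nat.eq_zero_or_pos n with h0 | hn0
  · rw [h0]; simp
  obtain ⟨E₁, i, hi, hE₁c, hpos, hE₁, hmax⟩ := exists_max_destab k hdim hn hn0 hf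
  haveI := hi
  suffices h : gdeg k E₁ ≤ 0 by
    have h2 := (hmax G j hj hG).1
    have h3 : gdeg k E₁ * (grk G : ℤ) ≤ 0 := mul_nonpos_of_nonpos_of_nonneg h (Int.natCast_nonneg _)
    exact mul_nonpos_of_nonpos_of_nonneg (nonpos_of_mul_nonpos_left (h2.trans h3) (by exact_mod_cast hpos))
      (Int.natCast_nonneg _)
  obtain ⟨l, hl⟩ : ∃ l, i ≫ freeπ n l ≠ 0 := by
    by_contra hall
    push Not at hall
    refine not_isZero_of_grk hE₁ hpos (IsZero.of_mono_eq_zero i ?_)
    rw [hom_free_ext k i]
    exact Finset.sum_eq_zero fun l _ => by rw [hall l, zero_comp]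
  have hO := AmpleLib.isInvertible_structureModule (X := X)
  obtain ⟨I, p, q, hp, hq, -, hI, hI0⟩ :=
    exists_image k hdim hn hE₁ (PicLib.isFinLocFreeOfRank_one hO) (i ≫ freeπ n l)
  haveI := hp; haveI := hq
  have hI1 := (sub_bundle hdim.le hn (PicLib.isFinLocFreeOfRank_one hO) q hI).1
  have hIe : grk I = 1 := by have := hI0 hl; omega
  have hdI := (full_rank k hdim q hI (isCoh_of_line hO) (by rw [hIe, rank_one hO])).1
  rw [gdeg_structure k hdim] at hdI
  have hss : SS k E₁ := fun K m hm hK => by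
    haveI := hm
    exact (hmax K (m ≫ i) (mono_comp _ _) hK).1
  have h1 := hss.quot k hE₁c p hI
  rw [hIe] at h1
  push_cast at h1
  nlinarith [mul_nonpos_of_nonpos_of_nonneg hdI (Int.natCast_nonneg (grk E₁))]

/-- Semistable bundles of every rank and degree in genus one. -/
theorem exists_ss_bundle [IsAlgClosed k] (hg : Curv2.genus k X = 1) : ∀ (r : ℕ), 0 < r → ∀ d : ℤ,
    ∃ F : X.Modules, FlatMod.IsFinLocFreeOfRank r F ∧ gdeg k F = d ∧ SS k F := by
  have hn := isIntegrallyClosed' k hdim (X := X)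
  intro r
  induction r using Nat.strong_induction_on with
  | h r ih =>
    intro hr d
    obtain ⟨E, x, hE, hd, hss⟩ : ∃ (E : X.Modules) (x : ℤ), FlatMod.IsFinLocFreeOfRank r E ∧
        gdeg k E + r * x = d ∧ SS k E := by
      by_cases hdiv : (r : ℤ) ∣ d
      · obtain ⟨x, rfl⟩ := hdiv
        exact ⟨_, x, VarietyLib.isFinLocFreeOfRank_freeMod r, by rw [gdeg_free k hdim]; ring, ss_free k hdim r⟩
      · have hr' : (r : ℤ) ≠ 0 := by omega
        have hm1 := Int.emod_nonneg (-d) hr'
        have hm2 := Int.emod_lt_of_pos (-d) (show (0 : ℤ) < r by omega)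
        have hm3 : (-d) % (r : ℤ) ≠ 0 := fun h => hdiv (Int.dvd_neg.1 (Int.dvd_of_emod_eq_zero h))
        obtain ⟨m, hm⟩ : ∃ m : ℕ, (m : ℤ) = (-d) % r := ⟨_, Int.toNat_of_nonneg hm1⟩
        obtain ⟨F, hF, hdF, hssF⟩ := ih m (by omega) (by omega) ((r + m : ℕ) : ℤ)
        obtain ⟨M, hM, hdM, hssM, -⟩ := exists_kernel_bundle k hdim hg hF hssF hdF (by omega)
        refine ⟨M, 1 - (-d) / (r : ℤ), by rwa [show r + m - m = r by omega] at hM, ?_, hssM⟩
        have := Int.emod_add_mul_ediv (-d) (r : ℤ)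
        rw [hdM]
        push_cast
        rw [mul_sub, mul_one]
        linarith
    obtain ⟨N, hN, hdN⟩ := exists_line_deg k hdim x (X := X)
    refine ⟨_, Clifford24.isFinLocFreeOfRank_tensorMod hE hN, ?_, hss.twist k hdim hn hE hN⟩
    rw [gdeg_twist k hdim hn hN r hE, hdN, hd]

/-- In genus one, stable bundles have coprime rank and degree. -/
theorem gcd_eq_one_of_st [IsAlgClosed k] (hg : Curv2.genus k X = 1) : ∀ (r : ℕ), 0 < r →
    ∀ {F : X.Modules}, FlatMod.IsFinLocFreeOfRank r F → ST k F → Int.gcd (gdeg k F) r = 1 := by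
  have hn := isIntegrallyClosed' k hdim (X := X)
  intro r
  induction r using Nat.strong_induction_on with
  | h r ih =>
    intro hr F hF hst
    rcases eq_or_ne r 1 with rfl | hr1
    · simp
    have twist : ∀ x : ℤ, ∃ E : X.Modules, FlatMod.IsFinLocFreeOfRank r E ∧ ST k E ∧
        gdeg k E = gdeg k F + r * x := fun x => by
      obtain ⟨N, hN, hdN⟩ := exists_line_deg k hdim x (X := X)
      exact ⟨_, Clifford24.isFinLocFreeOfRank_tensorMod hF hN, hst.twist k hdim hn hF hN,
        by rw [gdeg_twist k hdim hn hN r hF, hdN]⟩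
    by_cases hdiv : (r : ℤ) ∣ gdeg k F
    · exfalso
      obtain ⟨y, hy⟩ := hdiv
      obtain ⟨E, hE, hEst, hdE⟩ := twist (1 - y)
      obtain ⟨M, f, hM, hf, hdM⟩ := exists_line_of_deg_rank k hdim hg hr hE (by rw [hdE, hy]; ring)
      haveI : Mono f := SplitP1.mono_of_ne_zero' (SplitP1.isCoh_of_rank hE)
        (fun z => (SplitP1.nonempty_basis_stalk hE z).elim fun b => Module.Free.of_basis b) hM f hf
      have := hEst M f inferInstance (isCoh_of_line hM) (by rw [rank_one hM]; exact Nat.one_pos) fun hi => by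
        have := grk_congr (asIso f)
        rw [rank_one hM, grk_eq hE] at this
        omega
      rw [rank_one hM, grk_eq hE, hdE, hy] at this
      push_cast at this
      nlinarith
    · have hr' : (r : ℤ) ≠ 0 := by omega
      have hm1 := Int.emod_nonneg (gdeg k F) hr'
      have hm2 := Int.emod_lt_of_pos (gdeg k F) (show (0 : ℤ) < r by omega)
      have hm3 : gdeg k F % (r : ℤ) ≠ 0 := fun h => hdiv (Int.dvd_of_emod_eq_zero h)
      obtain ⟨m, hm⟩ : ∃ m : ℕ, (m : ℤ) = gdeg k F % r := ⟨_, Int.toNat_of_nonneg hm1⟩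
      obtain ⟨E, hE, hEst, hdE⟩ := twist (1 - gdeg k F / (r : ℤ))
      have hdE' : gdeg k E = ((r + m : ℕ) : ℤ) := by
        have := Int.emod_add_mul_ediv (gdeg k F) (r : ℤ)
        rw [hdE, mul_sub, mul_one]
        push_cast
        linarith
      obtain ⟨M, hM, hdM, -, hMst⟩ := exists_kernel_bundle k hdim hg hE (hEst.ss k hdim hn hE) hdE' (by omega)
      rw [show r + m - r = m by omega] at hM
      have h1 := ih m (by omega) (by omega) hM (hMst hEst)
      rw [hdM, Int.neg_gcd] at h1
      rw [Int.gcd_natCast_natCast, Nat.gcd_add_self_left] at h1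
      rw [← Int.emod_add_mul_ediv (gdeg k F) (r : ℤ), ← hm, Int.gcd_add_mul_left_left, Int.gcd_natCast_natCast,
        Nat.gcd_comm, h1]

end Groth.Agent.VB5
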