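import Groth.Agent.VB5.Basic

/-!
# Submodules of extensions
-/

set_option autoImplicit false
set_option linter.style.haveILetI false
set_option linter.unusedSectionVars false
set_option backward.isDefEq.respectTransparency.types false

universe u

open CategoryTheory CategoryTheory.Limits AlgebraicGeometry Opposite TopologicalSpace
open Groth.Agent.Coherent Groth.Agent.PicLib Groth.Agent.AmpleLib Groth.Agent.EulerLib Groth.Agent.CurveRR24

namespace Groth.Agent.VB5

variable {X : Scheme.{u}} [IsIntegral X] [IsLocallyNoetherian X]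
  (k : Type u) [Field k] [X.Over (Spec (CommRingCat.of k))] [IsProper (X ↘ Spec (CommRingCat.of k))]

/-- A submodule of an extension is an extension of submodules. -/
theorem exists_split_sub {T : ShortComplex X.Modules} (hT : T.ShortExact) (h3 : Coh.IsCoh T.X₃)
    {G : X.Modules} (i : G ⟶ T.X₂) [Mono i] (hG : Coh.IsCoh G) :
    ∃ (G₁ G₂ : X.Modules) (i₁ : G₁ ⟶ T.X₁) (i₂ : G₂ ⟶ T.X₃), Mono i₁ ∧ Mono i₂ ∧ Coh.IsCoh G₁ ∧ Coh.IsCoh G₂ ∧
      grk G = grk G₁ + grk G₂ ∧ gdeg k G = gdeg k G₁ + gdeg k G₂ := by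
  let φ := i ≫ T.g
  have hK := Coherent.isCoh_kernel φ hG h3.1
  have hI : Coh.IsCoh (Abelian.coimage φ) := Coherent.isCoh_cokernel (kernel.ι φ) hK.1 hG
  haveI : Mono (Abelian.factorThruCoimage φ) := inferInstance
  let l : kernel φ ⟶ T.X₁ :=
    hT.fIsKernel.lift (KernelFork.ofι (kernel.ι φ ≫ i) (by rw [Category.assoc, kernel.condition]))
  have hl : l ≫ T.f = kernel.ι φ ≫ i :=
    hT.fIsKernel.fac (KernelFork.ofι (kernel.ι φ ≫ i) _) WalkingParallelPair.zero
  haveI : Mono l := mono_of_mono_fac hl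
  have hS := EulerLib.shortExact_cokernel (kernel.ι φ)
  have r1 := grk_additive hS hG
  have d1 := gdeg_additive k hS hK hG hI
  exact ⟨kernel φ, Abelian.coimage φ, l, Abelian.factorThruCoimage φ, inferInstance, inferInstance, hK, hI, r1, d1⟩

/-- The preimage of a submodule of the quotient of an extension. -/
theorem exists_preimage_sub {T : ShortComplex X.Modules} (hT : T.ShortExact) (h1 : Coh.IsCoh T.X₁)
    (h2 : Coh.IsCoh T.X₂) (h3 : Coh.IsCoh T.X₃) {G : X.Modules} (i : G ⟶ T.X₃) [Mono i] (hG : Coh.IsCoh G) :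
    ∃ (P : X.Modules) (j : P ⟶ T.X₂), Mono j ∧ Coh.IsCoh P ∧
      grk P = grk T.X₁ + grk G ∧ gdeg k P = gdeg k T.X₁ + gdeg k G := by
  haveI := hT.epi_g
  let π := T.g ≫ cokernel.π i
  haveI : Epi π := epi_comp _ _
  have hC := Coherent.isCoh_cokernel i hG.1 h3
  have hP := Coherent.isCoh_kernel π h2 hC.1
  have r1 := grk_additive hT h2
  have r2 := grk_additive (EulerLib.shortExact_cokernel i) h3
  have r3 := grk_additive (EulerLib.shortExact_kernel π) h2
  have d1 := gdeg_additive k hT h1 h2 h3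
  have d2 := gdeg_additive k (EulerLib.shortExact_cokernel i) hG h3 hC
  have d3 := gdeg_additive k (EulerLib.shortExact_kernel π) hP h2 hC
  change grk T.X₃ = grk G + grk (cokernel i) at r2
  change grk T.X₂ = grk (kernel π) + grk (cokernel i) at r3
  change gdeg k T.X₃ = gdeg k G + gdeg k (cokernel i) at d2
  change gdeg k T.X₂ = gdeg k (kernel π) + gdeg k (cokernel i) at d3
  exact ⟨kernel π, kernel.ι π, inferInstance, hP, by omega, by omega⟩

end Groth.Agent.VB5
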