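import Groth.Agent.VB5.Bound
import Groth.Agent.VB5.Ext

/-!
# The maximal destabilising subbundle
-/

set_option autoImplicit false
set_option linter.style.haveILetI false
set_option linter.unusedSectionVars false
set_option backward.isDefEq.respectTransparency.types false

universe u

open CategoryTheory CategoryTheory.Limits AlgebraicGeometry Opposite TopologicalSpace
open Groth.Agent.Coherent Groth.Agent.PicLib Groth.Agent.AmpleLib Groth.Agent.EulerLib Groth.Agent.CurveRR24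

namespace Groth.Agent.VB5

variable {X : Scheme.{u}} [IsIntegral X] [IsLocallyNoetherian X]
  (k : Type u) [Field k] [X.Over (Spec (CommRingCat.of k))] [IsProper (X ↘ Spec (CommRingCat.of k))]
  (hdim : topologicalKrullDim X = 1) (hn : ∀ x : X, IsIntegrallyClosed (X.presheaf.stalk x))
include k hdim hn

/-- The quotient by a submodule of maximal degree among those of its rank is a bundle. -/
theorem bundle_cokernel_of_max {r : ℕ} {E G : X.Modules} (hE : FlatMod.IsFinLocFreeOfRank r E) (ι : G ⟶ E)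
    [Mono ι] (hG : Coh.IsCoh G)
    (hmax : ∀ (P : X.Modules) (j : P ⟶ E), Mono j → Coh.IsCoh P → grk P = grk G → gdeg k P ≤ gdeg k G) :
    FlatMod.IsFinLocFreeOfRank (r - grk G) (cokernel ι) := by
  haveI := EulerLib.isNoetherian_of_proper k (X := X)
  have hEc : Coh.IsCoh E := SplitP1.isCoh_of_rank hE
  have hQ := Coherent.isCoh_cokernel ι hG.1 hEc
  obtain ⟨P, π, hπ, hP, hT⟩ := exists_tf_quotient hdim.le hn hQ
  haveI := hπ
  have hTc := Coherent.isCoh_kernel π hQ (SplitP1.isCoh_of_rank hP).1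
  obtain ⟨G', j, hj, hG', hr', hd'⟩ :=
    exists_preimage_sub k (EulerLib.shortExact_cokernel ι) hG hEc hQ (kernel.ι π) hTc
  change grk G' = grk G + grk (kernel π) at hr'
  change gdeg k G' = gdeg k G + gdeg k (kernel π) at hd'
  have h1 := hmax G' j hj hG' (by omega)
  have h2 := torsion_deg k hdim hTc hT
  haveI : Mono π := Preadditive.mono_of_isZero_kernel _ (h2.2 (by omega))
  haveI := isIso_of_mono_of_epi π
  have hr := grk_additive (EulerLib.shortExact_cokernel ι) hEc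
  change grk E = grk G + grk (cokernel ι) at hr
  rw [grk_eq hE] at hr
  rw [show r - grk G = grk (cokernel ι) by omega]
  intro x
  obtain ⟨U, hxU, ⟨e⟩⟩ := hP x
  exact ⟨U, hxU, ⟨(Scheme.Modules.restrictFunctor U.ι).mapIso (asIso π) ≪≫ e⟩⟩

variable [GeometricallyIntegral (X ↘ Spec (CommRingCat.of k))]

/-- Submodules with a given property of maximal slope and, among them, of maximal rank. -/
theorem exists_max_sub {r : ℕ} (hr : 0 < r) {E : X.Modules} (hE : FlatMod.IsFinLocFreeOfRank r E)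
    (Pr : ∀ G : X.Modules, (G ⟶ E) → Prop) (hPr : Pr E (𝟙 E)) :
    ∃ (E₁ : X.Modules) (i : E₁ ⟶ E), Mono i ∧ Coh.IsCoh E₁ ∧ Pr E₁ i ∧ 0 < grk E₁ ∧
      FlatMod.IsFinLocFreeOfRank (grk E₁) E₁ ∧
      ∀ (G : X.Modules) (j : G ⟶ E), Mono j → Coh.IsCoh G → Pr G j →
        gdeg k G * (grk E₁ : ℤ) ≤ gdeg k E₁ * (grk G : ℤ) ∧
        (0 < grk G → gdeg k G * (grk E₁ : ℤ) = gdeg k E₁ * (grk G : ℤ) → grk G ≤ grk E₁) := by
  classical
  have hEc : Coh.IsCoh E := SplitP1.isCoh_of_rank hE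
  let Good (n : ℕ) (d : ℤ) : Prop :=
    ∃ (G : X.Modules) (j : G ⟶ E), Mono j ∧ Coh.IsCoh G ∧ Pr G j ∧ grk G = n ∧ gdeg k G = d
  let S : Finset ℕ := (Finset.Icc 1 r).filter fun n => ∃ d, Good n d
  have hbdd : ∀ n d, Good n d →
      d ≤ (Module.finrank k (Coh.HH X E 0) : ℤ) + (n : ℤ) * ((Curv2.genus k X : ℤ) - 1) := by
    rintro n d ⟨G, j, hj, hG, -, rfl, rfl⟩
    haveI := hj
    have hGf := (sub_bundle hdim.le hn hE j hG).2
    rw [← deg_eq_gdeg k hGf]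
    exact deg_le_h0_add k hdim hGf j hEc
  have hmx : ∀ n, ∃ d : ℤ, (∃ d', Good n d') → Good n d ∧ ∀ d', Good n d' → d' ≤ d := by
    intro n
    by_cases h : ∃ d', Good n d'
    · obtain ⟨d, h1, h2⟩ := Int.exists_greatest_of_bdd ⟨_, fun d hd => hbdd n d hd⟩ h
      exact ⟨d, fun _ => ⟨h1, h2⟩⟩
    · exact ⟨0, fun h' => absurd h' h⟩
  choose D hD using hmx
  have hSne : S.Nonempty := ⟨r, Finset.mem_filter.2 ⟨Finset.mem_Icc.2 ⟨hr, le_rfl⟩,
    gdeg k E, E, 𝟙 E, inferInstance, hEc, hPr, grk_eq hE, rfl⟩⟩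
  obtain ⟨n₁, hn₁, hmax⟩ := Finset.exists_max_image S
    (fun n => (toLex ((D n : ℚ) / (n : ℚ), n) : Lex (ℚ × ℕ))) hSne
  obtain ⟨hn₁1, hex⟩ := Finset.mem_filter.1 hn₁
  obtain ⟨⟨E₁, i, hi, hE₁, hP₁, hr₁, hd₁⟩, -⟩ := hD n₁ hex
  haveI := hi
  have hpos : 0 < n₁ := (Finset.mem_Icc.1 hn₁1).1
  refine ⟨E₁, i, hi, hE₁, hP₁, hr₁ ▸ hpos, (sub_bundle hdim.le hn hE i hE₁).2, fun G j hj hG hPG => ?_⟩
  rw [hr₁, hd₁]
  haveI := hj
  rcases Nat.eq_zero_or_pos (grk G) with h0 | hp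
  · rw [(zero_rank_sub k hdim hn hE j hG h0).2, h0]
    simp
  have hgood : Good (grk G) (gdeg k G) := ⟨G, j, hj, hG, hPG, rfl, rfl⟩
  have hle : gdeg k G ≤ D (grk G) := (hD _ ⟨_, hgood⟩).2 _ hgood
  have hGS : grk G ∈ S := Finset.mem_filter.2
    ⟨Finset.mem_Icc.2 ⟨hp, (sub_bundle hdim.le hn hE j hG).1⟩, _, hgood⟩
  have hp' : (0 : ℚ) < (grk G : ℚ) := by exact_mod_cast hp
  have hn' : (0 : ℚ) < (n₁ : ℚ) := by exact_mod_cast hpos
  have hleQ : (gdeg k G : ℚ) / (grk G : ℚ) ≤ (D (grk G) : ℚ) / (grk G : ℚ) :=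
    div_le_div_of_nonneg_right (by exact_mod_cast hle) hp'.le
  rcases Prod.Lex.le_iff.1 (hmax _ hGS) with h | ⟨h, h'⟩
  · have hlt : (gdeg k G : ℚ) / (grk G : ℚ) < (D n₁ : ℚ) / (n₁ : ℚ) := lt_of_le_of_lt hleQ h
    rw [div_lt_div_iff₀ hp' hn'] at hlt
    have hlt' : gdeg k G * (n₁ : ℤ) < D n₁ * (grk G : ℤ) := by exact_mod_cast hlt
    exact ⟨hlt'.le, fun _ he => absurd he hlt'.ne⟩
  · have hle' : (gdeg k G : ℚ) / (grk G : ℚ) ≤ (D n₁ : ℚ) / (n₁ : ℚ) := hleQ.trans h.le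
    rw [div_le_div_iff₀ hp' hn'] at hle'
    exact ⟨by exact_mod_cast hle', fun _ _ => h'⟩

/-- Submodules of maximal slope and, among them, of maximal rank. -/
theorem exists_max_destab {r : ℕ} (hr : 0 < r) {E : X.Modules} (hE : FlatMod.IsFinLocFreeOfRank r E) :
    ∃ (E₁ : X.Modules) (i : E₁ ⟶ E), Mono i ∧ Coh.IsCoh E₁ ∧ 0 < grk E₁ ∧
      FlatMod.IsFinLocFreeOfRank (grk E₁) E₁ ∧
      ∀ (G : X.Modules) (j : G ⟶ E), Mono j → Coh.IsCoh G →
        gdeg k G * (grk E₁ : ℤ) ≤ gdeg k E₁ * (grk G : ℤ) ∧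
        (0 < grk G → gdeg k G * (grk E₁ : ℤ) = gdeg k E₁ * (grk G : ℤ) → grk G ≤ grk E₁) := by
  obtain ⟨E₁, i, hi, hc, -, hp, hf, h⟩ := exists_max_sub k hdim hn hr hE (fun _ _ => True) trivial
  exact ⟨E₁, i, hi, hc, hp, hf, fun G j hj hG => h G j hj hG trivial⟩

end Groth.Agent.VB5
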