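import Groth.Agent.VB5.Basic
import Groth.Agent.CurveRR24.GenusZero
import Groth.Agent.Clifford24.Equality

/-!
# Bounding degrees of subbundles by sections
-/

set_option autoImplicit false
set_option linter.style.haveILetI false
set_option linter.unusedSectionVars false
set_option backward.isDefEq.respectTransparency.types false

universe u

open CategoryTheory CategoryTheory.Limits AlgebraicGeometry Opposite TopologicalSpace
open Groth.Agent.Coherent Groth.Agent.PicLib Groth.Agent.AmpleLib Groth.Agent.EulerLib Groth.Agent.CurveRR24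

namespace Groth.Agent.VB5

variable {X : Scheme.{u}} [IsIntegral X] (k : Type u) [Field k] [X.Over (Spec (CommRingCat.of k))]
  [IsProper (X ↘ Spec (CommRingCat.of k))]

theorem h0_le_of_mono {F E : X.Modules} (ι : F ⟶ E) [Mono ι] (hE : Coh.IsCoh E) :
    Module.finrank k (Coh.HH X F 0) ≤ Module.finrank k (Coh.HH X E 0) := by
  haveI := CurveRR24.finite_HH_of_isCoh k hE 0
  let O := Coh.structureModule X
  haveI : Module.Finite k (O ⟶ E) := Module.Finite.equiv (SerreDual.homUnitHH k _).symm
  rw [← (SerreDual.homUnitHH k F).finrank_eq, ← (SerreDual.homUnitHH k E).finrank_eq]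
  exact LinearMap.finrank_le_finrank_of_injective (f := Linear.rightComp k O ι)
    fun a b h => (cancel_mono ι).1 h

theorem euler_le_h0 (hdim : topologicalKrullDim X = 1) {F : X.Modules} (hF : Coh.IsQCoh F) :
    Curv2.euler k X F ≤ (Module.finrank k (Coh.HH X F 0) : ℤ) := by
  rw [euler_eq_h0_sub_h1 k hdim.le F hF]
  omega

theorem euler_structure_eq [GeometricallyIntegral (X ↘ Spec (CommRingCat.of k))]
    (hdim : topologicalKrullDim X = 1) :
    Curv2.euler k X (Coh.structureModule X) = 1 - (Curv2.genus k X : ℤ) := by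
  rw [euler_eq_h0_sub_h1 k hdim.le _ (isQCoh_structure k), CurveRR24.h0_structure_of_geomIntegral k]
  rfl

/-- `deg F ≤ h⁰(E) + r'(g - 1)` for a subbundle `F` of rank `r'`. -/
theorem deg_le_h0_add [GeometricallyIntegral (X ↘ Spec (CommRingCat.of k))]
    (hdim : topologicalKrullDim X = 1) {F E : X.Modules} {r' : ℕ} (hF : FlatMod.IsFinLocFreeOfRank r' F)
    (ι : F ⟶ E) [Mono ι] (hE : Coh.IsCoh E) :
    Curv2.deg k X F r' ≤ (Module.finrank k (Coh.HH X E 0) : ℤ) + (r' : ℤ) * ((Curv2.genus k X : ℤ) - 1) := by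
  haveI := CurveRR24.isLocallyNoetherian_of_proper k (X := X)
  have h1 := euler_le_h0 k hdim (SplitP1.isCoh_of_rank hF).1
  have h2 := h0_le_of_mono k ι hE
  rw [Curv2.deg, euler_structure_eq k hdim, show (r' : ℤ) * (1 - (Curv2.genus k X : ℤ)) =
    -((r' : ℤ) * ((Curv2.genus k X : ℤ) - 1)) by ring]
  have h3 : (Module.finrank k (Coh.HH X F 0) : ℤ) ≤ (Module.finrank k (Coh.HH X E 0) : ℤ) := by exact_mod_cast h2
  omega

end Groth.Agent.VB5
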