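import Groth.Agent.VB5.Sections
import Groth.Agent.VB5.Endo
import Groth.Agent.Clifford24.Canonical
import Groth.Agent.Clifford24.Sub

/-!
# Rank two bundles on a curve
-/

set_option autoImplicit false
set_option linter.style.haveILetI false
set_option linter.unusedSectionVars false
set_option backward.isDefEq.respectTransparency.types false

universe u

open CategoryTheory CategoryTheory.Limits AlgebraicGeometry Opposite TopologicalSpace
open Groth.Agent.Coherent Groth.Agent.PicLib Groth.Agent.AmpleLib Groth.Agent.EulerLib Groth.Agent.CurveRR24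

namespace Groth.Agent.VB5

variable {X : Scheme.{u}} [IsIntegral X] [IsLocallyNoetherian X]
  (k : Type u) [Field k] [X.Over (Spec (CommRingCat.of k))] [IsProper (X ↘ Spec (CommRingCat.of k))]
  [Smooth (X ↘ Spec (CommRingCat.of k))] [GeometricallyIntegral (X ↘ Spec (CommRingCat.of k))]

theorem eq_smul_of_smulAb {E : X.Modules} {φ : E ⟶ E} {c : k}
    (h : (SheafOfModules.toSheaf X.ringCatSheaf).map φ =
      Coh.smulAb E (Coh.toGlobal (X ↘ Spec (CommRingCat.of k)) c)) : φ = c • 𝟙 E := by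
  rw [← smulMod_eq_smul]
  exact (SheafOfModules.toSheaf X.ringCatSheaf).map_injective h

/-- The middle of an extension of line bundles that is simple: no back map, no splitting. -/
theorem hom_zero_of_simple {S : ShortComplex X.Modules} (hS : S.ShortExact)
    (hL : PicF.IsInvertible S.X₁) (hQ : PicF.IsInvertible S.X₃)
    (hs : ∀ φ : S.X₂ ⟶ S.X₂, ∃ c : k, φ = c • 𝟙 S.X₂) :
    (∀ g : S.X₃ ⟶ S.X₁, g = 0) ∧ ¬ IsSplitEpi S.g := by
  haveI := hS.mono_f
  haveI := hS.epi_g
  have key : ∀ φ : S.X₂ ⟶ S.X₂, S.f ≫ φ = 0 → φ = 0 := by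
    intro φ hφ
    obtain ⟨c, rfl⟩ := hs φ
    rcases eq_or_ne c 0 with h0 | h0
    · rw [h0, zero_smul]
    · rw [Linear.comp_smul, Category.comp_id] at hφ
      exact absurd (IsZero.of_mono_eq_zero S.f (by rw [← inv_smul_smul₀ h0 S.f, hφ, smul_zero]))
        (not_isZero_of_grk (PicLib.isFinLocFreeOfRank_one hL) Nat.one_pos)
  refine ⟨fun g => ?_, fun hsp => ?_⟩
  · have h := key (S.g ≫ g ≫ S.f) (by rw [← Category.assoc, S.zero, zero_comp])
    exact (cancel_epi S.g).1 (((cancel_mono S.f).1 ((Category.assoc S.g g S.f).trans (h.trans zero_comp.symm))).trans comp_zero.symm)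
  · obtain ⟨⟨σ, hσ⟩⟩ := hsp.exists_splitEpi
    have h := key (S.g ≫ σ) (by rw [← Category.assoc, S.zero, zero_comp])
    refine not_isZero_of_grk (PicLib.isFinLocFreeOfRank_one hQ) Nat.one_pos ((IsZero.iff_id_eq_zero _).2 ?_)
    rw [← hσ, (cancel_epi S.g).1 (h.trans comp_zero.symm), zero_comp]

variable (hdim : topologicalKrullDim X = 1)
include hdim

theorem exists_hom_of_not_isSplitEpi {S : ShortComplex X.Modules} (hS : S.ShortExact)
    (hA : FlatMod.IsFinLocFree S.X₁) (hQ : FlatMod.IsFinLocFree S.X₃) (h : ¬ IsSplitEpi S.g) :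
    ∃ f : S.X₁ ⟶ CohB1.tensorMod S.X₃ (omega k (X := X)), f ≠ 0 := by
  by_contra hf
  push Not at hf
  exact h (isSplitEpi_of_hom_eq_zero k hdim hS hA hQ hf)

theorem gdeg_le_of_nonsplit {S : ShortComplex X.Modules} (hS : S.ShortExact)
    (hL : PicF.IsInvertible S.X₁) (hQ : PicF.IsInvertible S.X₃) (h : ¬ IsSplitEpi S.g) :
    gdeg k S.X₁ ≤ gdeg k S.X₃ + (2 * (Curv2.genus k X : ℤ) - 2) ∧
      (gdeg k S.X₁ = gdeg k S.X₃ + (2 * (Curv2.genus k X : ℤ) - 2) →
        Nonempty (S.X₁ ≅ CohB1.tensorMod S.X₃ (omega k (X := X)))) := by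
  have hn := isIntegrallyClosed' k hdim (X := X)
  obtain ⟨f, hf⟩ := exists_hom_of_not_isSplitEpi k hdim hS (exists_rank_free (PicLib.isFinLocFreeOfRank_one hL))
    (exists_rank_free (PicLib.isFinLocFreeOfRank_one hQ)) h
  have hΩ := omega_line k hdim (X := X)
  obtain ⟨h1, -, h3⟩ := line_map k hdim hn hL (AmpleLib.isInvertible_tensorMod hQ hΩ) f hf
  rw [gdeg_tensor_line k hdim hQ hΩ, gdeg_omega k hdim] at h1 h3
  exact ⟨h1, fun he => haveI := h3 he; ⟨asIso f⟩⟩

/-- A nonsplit extension of lines without maps backwards. -/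
theorem gdeg_le_of_nonsplit_hom {S : ShortComplex X.Modules} (hS : S.ShortExact)
    (hL : PicF.IsInvertible S.X₁) (hQ : PicF.IsInvertible S.X₃) (h : ¬ IsSplitEpi S.g)
    (hhom : ∀ g : S.X₃ ⟶ S.X₁, g = 0) :
    gdeg k S.X₁ - gdeg k S.X₃ ≤ (Curv2.genus k X : ℤ) - 2 := by
  have hn := isIntegrallyClosed' k hdim (X := X)
  obtain ⟨N, hN, ⟨e⟩⟩ := CurveRR24.exists_inverse k hQ
  have hT := AmpleLib.isInvertible_tensorMod hL hN
  obtain ⟨f, hf⟩ := exists_hom_of_not_isSplitEpi k hdim hS (exists_rank_free (PicLib.isFinLocFreeOfRank_one hL))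
    (exists_rank_free (PicLib.isFinLocFreeOfRank_one hQ)) h
  have h1 : ¬ Subsingleton (Coh.HH X (CohB1.tensorMod S.X₁ N) 1) := by
    rw [subsingleton_h1_iff_hom_omega k hdim (isCoh_of_line hT)]
    intro hall
    obtain ⟨back⟩ := nonempty_untwist (omega k (X := X)) hQ hN e
    let θ : CohB1.tensorMod (CohB1.tensorMod S.X₃ (omega k (X := X))) N ≅ omega k (X := X) :=
      AmpleLib.tensorIso (AmpleLib.tensorComm _ _) (Iso.refl N) ≪≫ back
    refine hf (SerreDual.tensorRightHom_injective k _ _ hN ?_)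
    rw [map_zero, ← cancel_mono θ.hom, zero_comp]
    exact hall _
  obtain ⟨hfin, hh⟩ := Clifford24.hom_equiv_h0 k hQ hL hN e
  haveI := hfin
  haveI : Subsingleton (S.X₃ ⟶ S.X₁) := ⟨fun a b => (hhom a).trans (hhom b).symm⟩
  rw [Module.finrank_zero_of_subsingleton] at hh
  rw [subsingleton_h1_iff_h0 k hdim (isCoh_of_line hT), ← hh, rank_one hT, gdeg_tensor_line k hdim hL hN,
    gdeg_inverse k hdim hQ hN e] at h1
  have h2 := gdeg_le_h0_add k hdim (isCoh_of_line hT)
  rw [← hh, rank_one hT, gdeg_tensor_line k hdim hL hN, gdeg_inverse k hdim hQ hN e] at h2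
  push_cast at h1 h2
  omega

theorem gdeg_split {r : ℕ} {E L : X.Modules} (hE : FlatMod.IsFinLocFreeOfRank r E) (i : L ⟶ E) [Mono i]
    (hL : Coh.IsCoh L) : gdeg k E = gdeg k L + gdeg k (cokernel i) := by
  have hEc : Coh.IsCoh E := SplitP1.isCoh_of_rank hE
  have hC : Coh.IsCoh (cokernel i) := Coherent.isCoh_cokernel i hL.1 hEc
  have h := gdeg_additive (S := ShortComplex.mk i (cokernel.π i) (cokernel.condition i)) k
    (EulerLib.shortExact_cokernel i) hL hEc hC
  exact h

/-- On a genus one curve, `Ω ≅ O`. -/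
theorem nonempty_omega_iso (hg : Curv2.genus k X = 1) :
    Nonempty (Coh.structureModule X ≅ omega k (X := X)) :=
  Clifford24.nonempty_iso_omega_of_deg k hdim AmpleLib.isInvertible_structureModule
    (by rw [CurveRR24.deg_structure, hg]; norm_num)
    (by rw [hg, CurveRR24.h0_structure_of_geomIntegral k])

theorem exists_line_of_deg_two [IsAlgClosed k] (hg : Curv2.genus k X = 1) {E : X.Modules}
    (hE : FlatMod.IsFinLocFreeOfRank 2 E) (hd : gdeg k E = 2) :
    ∃ (M : X.Modules) (f : M ⟶ E), PicF.IsInvertible M ∧ f ≠ 0 ∧ 1 ≤ gdeg k M := by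
  classical
  haveI := EulerLib.isNoetherian_of_proper k (X := X)
  have hn := isIntegrallyClosed' k hdim (X := X)
  have hEc := SplitP1.isCoh_of_rank hE
  let O := Coh.structureModule X
  have hO : PicF.IsInvertible O := AmpleLib.isInvertible_structureModule
  have hOc : Coh.IsCoh O := isCoh_of_line hO
  by_cases hP : ∃ (P : X) (hP : IsClosed ({P} : Set X)),
      Module.finrank k (Coh.HH X (CohB1.tensorMod E (ClSub.idealMod (ptIdeal P hP))) 0) ≠ 0
  · obtain ⟨P, hP, h0⟩ := hP
    have hI := isInvertible_ptIdeal_of_normal k hdim hP (hn P)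
    obtain ⟨φ, hφ, -⟩ := exists_section_mono k hdim (Clifford24.isFinLocFreeOfRank_tensorMod hE hI) h0
    obtain ⟨A, hA, ⟨e⟩⟩ := CurveRR24.exists_inverse k hI
    obtain ⟨g, hgne⟩ := exists_hom_untwist k hdim hI hA e φ hφ
    refine ⟨_, g, AmpleLib.isInvertible_tensorMod hO hA, hgne, ?_⟩
    rw [gdeg_tensor_line k hdim hO hA, gdeg_structure k hdim, gdeg_inverse k hdim hI hA e,
      ← deg_line k hI, deg_ptIdeal k hP, finrank_resField k hP]
    norm_num
  · push Not at hP
    exfalso
    have hEg : Curv2.IsGloballyGenerated E := by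
      refine globallyGenerated_of_h1 k hdim hn hE fun P hP' => ?_
      have hI := isInvertible_ptIdeal_of_normal k hdim hP' (hn P)
      have hT := Clifford24.isFinLocFreeOfRank_tensorMod hE hI
      rw [subsingleton_h1_iff_h0 k hdim (SplitP1.isCoh_of_rank hT), hP P hP', grk_eq hT,
        gdeg_twist_point k hdim hE hP', hd, hg]
      norm_num
    haveI := LocallyOfFiniteType.jacobsonSpace (X ↘ Spec (CommRingCat.of k))
    obtain ⟨P, -, hP'⟩ := nonempty_inter_closedPoints (X := X) Set.univ_nonempty isClosed_univ.isLocallyClosed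
    have hle := h0_le_twist k hdim hE hP'
    rw [hP P hP'] at hle
    have hge := gdeg_le_h0_add k hdim hEc
    rw [grk_eq hE, hd, hg] at hge
    have h2 : Module.finrank k (Coh.HH X E 0) = 2 := by push_cast at hle hge; omega
    haveI := finite_HH_of_isCoh k hEc 0
    haveI : Module.Finite k (O ⟶ E) := Module.Finite.equiv (SerreDual.homUnitHH k _).symm
    let b := Module.finBasisOfFinrankEq k (O ⟶ E) ((SerreDual.homUnitHH k E).finrank_eq.trans h2)
    let u : O ⊞ O ⟶ E := biprod.desc (b 0) (b 1)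
    obtain ⟨ι, p, hp⟩ := hEg
    let p' : freeMod X ι ⟶ E := p
    haveI : Epi p' := hp
    have hfac : (freeDesc fun i => b.repr (freeInj i ≫ p') 0 • biprod.inl +
        b.repr (freeInj i ≫ p') 1 • biprod.inr) ≫ u = p' := by
      refine freeMod_hom_ext fun i => ?_
      rw [← Category.assoc, freeInj_freeDesc, Preadditive.add_comp, Linear.smul_comp, Linear.smul_comp,
        biprod.inl_desc, biprod.inr_desc]
      conv_rhs => rw [← b.sum_repr (freeInj i ≫ p')]
      rw [Fin.sum_univ_two]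
    haveI : Epi u := epi_of_epi_fac hfac
    let T := ShortComplex.mk (biprod.inl : O ⟶ O ⊞ O) (biprod.snd : O ⊞ O ⟶ O) (by simp)
    have hT : T.ShortExact := (ShortComplex.Splitting.ofHasBinaryBiproduct O O).shortExact
    have hTc : Coh.IsCoh (O ⊞ O) := Clifford24.isCoh_biprod hOc hOc
    have r1 := grk_additive hT hTc
    have d1 := gdeg_additive k hT hOc hTc hOc
    change grk (O ⊞ O) = grk O + grk O at r1
    change gdeg k (O ⊞ O) = gdeg k O + gdeg k O at d1
    rw [gdeg_structure k hdim] at d1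
    rw [rank_one hO] at r1
    have hK := Coherent.isCoh_kernel u hTc hEc.1
    have r2 := grk_additive (EulerLib.shortExact_kernel u) hTc
    have d2 := gdeg_additive k (EulerLib.shortExact_kernel u) hK hTc hEc
    change grk (O ⊞ O) = grk (kernel u) + grk E at r2
    change gdeg k (O ⊞ O) = gdeg k (kernel u) + gdeg k E at d2
    rw [grk_eq hE] at r2
    have := (torsion_deg k hdim hK (by omega)).1
    omega

/-- On a genus one curve a rank two bundle has a line subbundle of at least half the degree, rounded down. -/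
theorem exists_line_half [IsAlgClosed k] (hg : Curv2.genus k X = 1) {E : X.Modules}
    (hE : FlatMod.IsFinLocFreeOfRank 2 E) :
    ∃ (L : X.Modules) (i : L ⟶ E), Mono i ∧ PicF.IsInvertible L ∧ PicF.IsInvertible (cokernel i) ∧
      gdeg k E ≤ 2 * gdeg k L + 1 ∧
      (∀ (G : X.Modules) (f : G ⟶ E), PicF.IsInvertible G → f ≠ 0 → gdeg k G ≤ gdeg k L) := by
  have hn := isIntegrallyClosed' k hdim (X := X)
  obtain ⟨L, i, hi, hL, hQ, hmax⟩ := exists_max_line_sub k hdim (by norm_num) hE
  refine ⟨L, i, hi, hL, invertible_of_rank_one hQ, ?_, hmax⟩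
  obtain ⟨m, hm⟩ : ∃ m : ℤ, gdeg k E = 2 * m ∨ gdeg k E = 2 * m + 1 := ⟨gdeg k E / 2, by omega⟩
  have finish : ∀ (δ : ℤ) (N : X.Modules) (M : X.Modules) (f : M ⟶ CohB1.tensorMod E N),
      PicF.IsInvertible N → PicF.IsInvertible M → f ≠ 0 → δ ≤ gdeg k M → δ - gdeg k N ≤ gdeg k L := by
    intro δ N M f hN hM hf hδ
    obtain ⟨A, hA, ⟨e⟩⟩ := CurveRR24.exists_inverse k hN
    obtain ⟨g, hgne⟩ := exists_hom_untwist k hdim hN hA e f hf
    have := hmax _ g (AmpleLib.isInvertible_tensorMod hM hA) hgne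
    rw [gdeg_tensor_line k hdim hM hA, gdeg_inverse k hdim hN hA e] at this
    omega
  rcases hm with hm | hm
  · obtain ⟨N, hN, hdN⟩ := exists_line_deg k hdim (1 - m) (X := X)
    obtain ⟨M, f, hM, hf, hdM⟩ := exists_line_of_deg_two k hdim hg
      (Clifford24.isFinLocFreeOfRank_tensorMod hE hN) (by rw [gdeg_twist k hdim hn hN 2 hE, hdN, hm]; push_cast; ring)
    have := finish 1 N M f hN hM hf hdM
    omega
  · obtain ⟨N, hN, hdN⟩ := exists_line_deg k hdim (-m) (X := X)
    have hT := Clifford24.isFinLocFreeOfRank_tensorMod hE hN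
    have hge := gdeg_le_h0_add k hdim (SplitP1.isCoh_of_rank hT)
    rw [grk_eq hT, gdeg_twist k hdim hn hN 2 hE, hdN, hm, hg] at hge
    obtain ⟨φ, hφ, -⟩ := exists_section_mono k hdim hT (by intro h0; rw [h0] at hge; push_cast at hge; omega)
    have := finish 0 N _ φ hN AmpleLib.isInvertible_structureModule hφ (gdeg_structure k hdim).ge
    omega

/-- The maximal line subbundle decides semistability in rank two. -/
theorem ss_of_max_line {E L : X.Modules} (hE : FlatMod.IsFinLocFreeOfRank 2 E)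
    (hmax : ∀ (G : X.Modules) (f : G ⟶ E), PicF.IsInvertible G → f ≠ 0 → gdeg k G ≤ gdeg k L)
    (hL : 2 * gdeg k L ≤ gdeg k E) : SS k E := by
  have hn := isIntegrallyClosed' k hdim (X := X)
  intro G ι hι hG
  haveI := hι
  obtain ⟨h2, hGf⟩ := sub_bundle hdim.le hn hE ι hG
  rw [grk_eq hE]
  rcases (by omega : grk G = 0 ∨ grk G = 1 ∨ grk G = 2) with h | h | h
  · rw [(zero_rank_sub k hdim hn hE ι hG h).2, h]; simp
  · rw [h] at hGf ⊢
    have := hmax G ι (invertible_of_rank_one hGf) fun h0 =>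
      not_isZero_of_grk hGf Nat.one_pos (IsZero.of_mono_eq_zero ι h0)
    push_cast
    omega
  · have := (full_rank k hdim ι hG (SplitP1.isCoh_of_rank hE) (h.trans (grk_eq hE).symm)).1
    rw [h]
    push_cast
    omega

end Groth.Agent.VB5
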