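import Groth.Agent.VB5.Twist
import Groth.Agent.VB5.MaxDestab
import Groth.Agent.DCat.PullTensor

/-!
# Pairs `φ : E ⟶ E ⊗ L` on curves: invariant submodules, semistability
-/

set_option autoImplicit false
set_option linter.style.haveILetI false
set_option linter.unusedSectionVars false
set_option backward.isDefEq.respectTransparency.types false

universe u

open CategoryTheory CategoryTheory.Limits AlgebraicGeometry Opposite TopologicalSpace
open Groth.Agent.Coherent Groth.Agent.PicLib Groth.Agent.AmpleLib Groth.Agent.EulerLib Groth.Agent.CurveRR24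

namespace Groth.Agent.VB5

variable {X : Scheme.{u}}

/-- `f ⊗ L`. -/
noncomputable abbrev tens {A B : X.Modules} (f : A ⟶ B) (L : X.Modules) :
    CohB1.tensorMod A L ⟶ CohB1.tensorMod B L :=
  AmpleLib.tensorMap f (𝟙 L)

theorem sheafify_whisker {A B : X.Modules} (f : A ⟶ B) (L : X.Modules) :
    (CohB1.sheafifyMod X).map (MonoidalCategoryStruct.whiskerRight (C := CohB1.PMod X) f.val (CohB1.toPMod L)) =
      tens f L :=
  AmpleLib.hom_ext fun U a b => by
    exact (DCat.PullTensor.tensorBi_map_tmul f U a b).trans (AmpleLib.tensorMap_tmul f (𝟙 L) a b).symm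

theorem to_tens {A B G : X.Modules} {f : A ⟶ B} {L : X.Modules} {χ : G ⟶ CohB1.tensorMod A L}
    {rhs : G ⟶ CohB1.tensorMod B L}
    (h : χ ≫ (CohB1.sheafifyMod X).map
      (MonoidalCategoryStruct.whiskerRight (C := CohB1.PMod X) f.val (CohB1.toPMod L)) = rhs) :
    χ ≫ tens f L = rhs :=
  (congrArg (fun t => χ ≫ t) (sheafify_whisker f L).symm).trans h

theorem of_tens {A B G : X.Modules} {f : A ⟶ B} {L : X.Modules} {χ : G ⟶ CohB1.tensorMod A L}
    {rhs : G ⟶ CohB1.tensorMod B L} (h : χ ≫ tens f L = rhs) :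
    χ ≫ (CohB1.sheafifyMod X).map
      (MonoidalCategoryStruct.whiskerRight (C := CohB1.PMod X) f.val (CohB1.toPMod L)) = rhs :=
  (congrArg (fun t => χ ≫ t) (sheafify_whisker f L)).trans h

theorem to_tens' {A B G : X.Modules} {f : A ⟶ B} {L : X.Modules} {φ : G ⟶ CohB1.tensorMod A L}
    {lhs : G ⟶ CohB1.tensorMod B L}
    (h : lhs = φ ≫ (CohB1.sheafifyMod X).map
      (MonoidalCategoryStruct.whiskerRight (C := CohB1.PMod X) f.val (CohB1.toPMod L))) :
    lhs = φ ≫ tens f L :=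
  (to_tens h.symm).symm

theorem tens_comp {A B C : X.Modules} (f : A ⟶ B) (g : B ⟶ C) (L : X.Modules) :
    tens (f ≫ g) L = tens f L ≫ tens g L :=
  AmpleLib.hom_ext fun U a b => by
    rw [Scheme.Modules.Hom.comp_app, ConcreteCategory.comp_apply, tensorMap_tmul, tensorMap_tmul, tensorMap_tmul]
    rfl

theorem tens_zero {A B : X.Modules} (L : X.Modules) : tens (0 : A ⟶ B) L = 0 :=
  AmpleLib.hom_ext fun U a b => by
    rw [tensorMap_tmul]
    show tmul (0 : Γ(B, U)) _ = 0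
    exact tmul_zero_left _

theorem tens_comp_zero {A B C : X.Modules} (f : A ⟶ B) (g : B ⟶ C) (h : f ≫ g = 0) (L : X.Modules) :
    tens f L ≫ tens g L = 0 := by
  rw [← tens_comp, h, tens_zero]

/-- `j` is invariant under `φ`. -/
def Inv {L E G : X.Modules} (φ : E ⟶ CohB1.tensorMod E L) (j : G ⟶ E) : Prop :=
  ∃ χ : G ⟶ CohB1.tensorMod G L, χ ≫ tens j L = j ≫ φ

variable {L : X.Modules} (hL : PicF.IsInvertible L)
include hL

theorem inv_of_zero {S : ShortComplex X.Modules} (hS : S.ShortExact) (φ : S.X₂ ⟶ CohB1.tensorMod S.X₂ L)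
    (h : S.f ≫ φ ≫ tens S.g L = 0) : Inv φ S.f := by
  have hT := twistSeq_shortExact hL hS
  exact ⟨hT.fIsKernel.lift (KernelFork.ofι (S.f ≫ φ) (by rw [Category.assoc]; exact h)),
    hT.fIsKernel.fac (KernelFork.ofι (S.f ≫ φ) _) WalkingParallelPair.zero⟩

theorem exists_quot_field {S : ShortComplex X.Modules} (hS : S.ShortExact) (φ : S.X₂ ⟶ CohB1.tensorMod S.X₂ L)
    (hinv : Inv φ S.f) :
    ∃ φ' : S.X₃ ⟶ CohB1.tensorMod S.X₃ L, S.g ≫ φ' = φ ≫ tens S.g L := by
  obtain ⟨χ, hχ⟩ := hinv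
  have h : S.f ≫ (φ ≫ tens S.g L) = 0 := by
    rw [← Category.assoc, ← hχ, Category.assoc, tens_comp_zero S.f S.g S.zero, comp_zero]
  exact ⟨hS.gIsCokernel.desc (CokernelCofork.ofπ (φ ≫ tens S.g L) h),
    hS.gIsCokernel.fac (CokernelCofork.ofπ (φ ≫ tens S.g L) h) WalkingParallelPair.one⟩

theorem inv_comp {E G H : X.Modules} {φ : E ⟶ CohB1.tensorMod E L} (j : G ⟶ E) {χ : G ⟶ CohB1.tensorMod G L}
    (hχ : χ ≫ tens j L = j ≫ φ) (i : H ⟶ G) (hi : Inv χ i) : Inv φ (i ≫ j) := by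
  obtain ⟨α, hα⟩ := hi
  exact ⟨α, by rw [tens_comp, ← Category.assoc, hα, Category.assoc, hχ, Category.assoc]⟩

/-- Kernel and image of a compatible map are invariant. -/
theorem inv_image {E F I : X.Modules} (φ : E ⟶ CohB1.tensorMod E L) (ψ : F ⟶ CohB1.tensorMod F L) (f : E ⟶ F)
    (hf : f ≫ ψ = φ ≫ tens f L) (p : E ⟶ I) [Epi p] (j : I ⟶ F) [Mono j] (hpj : p ≫ j = f) :
    Inv φ (kernel.ι p) ∧ Inv ψ j := by
  haveI : Mono (tens j L) := mono_tensorMap hL j
  have hz : kernel.ι p ≫ φ ≫ tens p L = 0 := by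
    rw [← cancel_mono (tens j L), zero_comp]
    simp only [Category.assoc]
    rw [← tens_comp, hpj, ← hf, ← hpj, ← Category.assoc, ← Category.assoc, kernel.condition, zero_comp, zero_comp]
  have hS := EulerLib.shortExact_kernel p
  refine ⟨inv_of_zero hL hS φ hz, ?_⟩
  obtain ⟨χ, hχ⟩ := exists_quot_field hL hS φ (inv_of_zero hL hS φ hz)
  refine ⟨χ, ?_⟩
  rw [← cancel_epi p, ← Category.assoc, show p ≫ χ = φ ≫ tens p L from hχ, Category.assoc, ← tens_comp, hpj, ← hf,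
    ← hpj, Category.assoc]

/-- The preimage of an invariant submodule of the quotient. -/
theorem inv_preimage {S : ShortComplex X.Modules} (hS : S.ShortExact) (φ : S.X₂ ⟶ CohB1.tensorMod S.X₂ L)
    (φ' : S.X₃ ⟶ CohB1.tensorMod S.X₃ L) (hφ' : S.g ≫ φ' = φ ≫ tens S.g L)
    {G : X.Modules} (i : G ⟶ S.X₃) [Mono i] (hi : Inv φ' i) :
    Inv φ (kernel.ι (S.g ≫ cokernel.π i)) := by
  haveI := hS.epi_g
  let π := S.g ≫ cokernel.π i
  haveI : Epi π := epi_comp _ _
  obtain ⟨χ, hχ⟩ := hi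
  have hl : (kernel.ι π ≫ S.g) ≫ cokernel.π i = 0 := by rw [Category.assoc]; exact kernel.condition π
  let l : kernel π ⟶ G := (EulerLib.shortExact_cokernel i).fIsKernel.lift (KernelFork.ofι _ hl)
  have hli : l ≫ i = kernel.ι π ≫ S.g :=
    (EulerLib.shortExact_cokernel i).fIsKernel.fac (KernelFork.ofι _ hl) WalkingParallelPair.zero
  refine inv_of_zero hL (EulerLib.shortExact_kernel π) φ ?_
  show kernel.ι π ≫ φ ≫ tens (S.g ≫ cokernel.π i) L = 0
  rw [tens_comp, ← Category.assoc φ, ← hφ', Category.assoc, ← Category.assoc (kernel.ι π), ← hli, Category.assoc,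
    ← Category.assoc i, ← hχ, Category.assoc, tens_comp_zero i _ (cokernel.condition i), comp_zero, comp_zero]

omit hL

variable [IsIntegral X] [IsLocallyNoetherian X]
variable (k : Type u) [Field k] [X.Over (Spec (CommRingCat.of k))]

/-- Semistability of a pair, on invariant coherent submodules. -/
def SSH {E : X.Modules} (φ : E ⟶ CohB1.tensorMod E L) : Prop :=
  ∀ (G : X.Modules) (j : G ⟶ E), Mono j → Coh.IsCoh G → Inv φ j →
    gdeg k G * (grk E : ℤ) ≤ gdeg k E * (grk G : ℤ)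

variable [IsProper (X ↘ Spec (CommRingCat.of k))]
  (hdim : topologicalKrullDim X = 1) (hn : ∀ x : X, IsIntegrallyClosed (X.presheaf.stalk x))
include k hdim hn

theorem ssh_iff {r : ℕ} {E : X.Modules} (hE : FlatMod.IsFinLocFreeOfRank r E) (φ : E ⟶ CohB1.tensorMod E L) :
    SSH k φ ↔ ∀ (G : X.Modules) (n : ℕ) (j : G ⟶ E), Mono j → 0 < n → FlatMod.IsFinLocFreeOfRank n G →
      Inv φ j → Curv2.deg k X G n * (r : ℤ) ≤ Curv2.deg k X E r * (n : ℤ) := by
  constructor
  · intro h G n j hj _ hG hinv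
    have := h G j hj (SplitP1.isCoh_of_rank hG) hinv
    rwa [deg_eq_gdeg k hG, deg_eq_gdeg k hE, ← grk_eq hG, ← grk_eq hE]
  · intro h G j hj hG hinv
    haveI := hj
    rcases Nat.eq_zero_or_pos (grk G) with h0 | hpos
    · rw [(zero_rank_sub k hdim hn hE j hG h0).2, h0]; simp
    · have hGf := (sub_bundle hdim.le hn hE j hG).2
      have := h G _ j hj hpos hGf hinv
      rwa [deg_eq_gdeg k hGf, deg_eq_gdeg k hE, ← grk_eq hE] at this

include hL in
/-- Maps from torsion modules to bundles vanish. -/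
theorem hom_eq_zero_of_torsion {r : ℕ} {E T : X.Modules} (hE : FlatMod.IsFinLocFreeOfRank r E) (hT : Coh.IsCoh T)
    (h0 : grk T = 0) (f : T ⟶ E) : f = 0 := by
  have hEc := SplitP1.isCoh_of_rank hE
  have hI : Coh.IsCoh (Abelian.coimage f) :=
    Coherent.isCoh_cokernel (kernel.ι f) (Coherent.isCoh_kernel f hT hEc.1).1 hT
  have hr := grk_additive (EulerLib.shortExact_cokernel (kernel.ι f)) hT
  change grk T = grk (kernel f) + grk (Abelian.coimage f) at hr
  haveI : Mono (Abelian.factorThruCoimage f) := inferInstance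
  have hz := (zero_rank_sub k hdim hn hE (Abelian.factorThruCoimage f) hI (by omega)).1
  rw [← Abelian.coimage.fac f, hz.eq_of_src (Abelian.factorThruCoimage f) 0, comp_zero]

include hL in
/-- The quotient of a semistable pair by an invariant submodule of the same slope. -/
theorem quot_ssh {S : ShortComplex X.Modules} (hS : S.ShortExact) {r : ℕ} (hr : 0 < r)
    (hE : FlatMod.IsFinLocFreeOfRank r S.X₂) (h1 : Coh.IsCoh S.X₁)
    (φ : S.X₂ ⟶ CohB1.tensorMod S.X₂ L) (hinv : Inv φ S.f) (hss : SSH k φ)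
    (hμ : gdeg k S.X₁ * (r : ℤ) = gdeg k S.X₂ * (grk S.X₁ : ℤ)) :
    FlatMod.IsFinLocFreeOfRank (r - grk S.X₁) S.X₃ ∧
      gdeg k S.X₃ * (r : ℤ) = gdeg k S.X₂ * (grk S.X₃ : ℤ) ∧
      ∀ φ' : S.X₃ ⟶ CohB1.tensorMod S.X₃ L, S.g ≫ φ' = φ ≫ tens S.g L → SSH k φ' := by
  haveI := EulerLib.isNoetherian_of_proper k (X := X)
  haveI := hS.mono_f
  haveI := hS.epi_g
  have h2 : Coh.IsCoh S.X₂ := SplitP1.isCoh_of_rank hE
  have h3 : Coh.IsCoh S.X₃ := AssSch12.isCoh_of_epi S.X₂ S.g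
    (isCoh_of_iso ((cokernelIsCokernel S.f).coconePointUniqueUpToIso hS.gIsCokernel) (Coherent.isCoh_cokernel S.f h1.1 h2)).1
    (Coherent.locallyFinGen_of_isFT S.X₂ h2.2)
  have hr2 : grk S.X₂ = r := grk_eq hE
  have key : ∀ {G : X.Modules} (i : G ⟶ S.X₃) [Mono i], Coh.IsCoh G →
      ∀ (φ' : S.X₃ ⟶ CohB1.tensorMod S.X₃ L), S.g ≫ φ' = φ ≫ tens S.g L → Inv φ' i →
      gdeg k G * (r : ℤ) ≤ gdeg k S.X₂ * (grk G : ℤ) := by
    intro G i _ hG φ' hφ' hi
    let π := S.g ≫ cokernel.π i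
    haveI : Epi π := epi_comp _ _
    have hC := Coherent.isCoh_cokernel i hG.1 h3
    have hP := Coherent.isCoh_kernel π h2 hC.1
    have h := hss _ (kernel.ι π) inferInstance hP (inv_preimage hL hS φ φ' hφ' i hi)
    have r1 := grk_additive hS h2
    have r2 := grk_additive (EulerLib.shortExact_cokernel i) h3
    have r3 := grk_additive (EulerLib.shortExact_kernel π) h2
    have d1 := gdeg_additive k hS h1 h2 h3
    have d2 := gdeg_additive k (EulerLib.shortExact_cokernel i) hG h3 hC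
    have d3 := gdeg_additive k (EulerLib.shortExact_kernel π) hP h2 hC
    change grk S.X₃ = grk G + grk (cokernel i) at r2
    change grk S.X₂ = grk (kernel π) + grk (cokernel i) at r3
    change gdeg k S.X₃ = gdeg k G + gdeg k (cokernel i) at d2
    change gdeg k S.X₂ = gdeg k (kernel π) + gdeg k (cokernel i) at d3
    rw [hr2, show gdeg k (kernel π) = gdeg k S.X₁ + gdeg k G by omega,
      show grk (kernel π) = grk S.X₁ + grk G by omega] at h
    push_cast at h
    linarith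
  obtain ⟨φ₀, hφ₀⟩ := exists_quot_field hL hS φ hinv
  obtain ⟨P, π, hπ, hP, hT⟩ := exists_tf_quotient hdim.le hn h3
  haveI := hπ
  have hTc := Coherent.isCoh_kernel π h3 (SplitP1.isCoh_of_rank hP).1
  have hTinv : Inv φ₀ (kernel.ι π) := inv_of_zero hL (EulerLib.shortExact_kernel π) φ₀
    (hom_eq_zero_of_torsion hL k hdim hn (Clifford24.isFinLocFreeOfRank_tensorMod hP hL) hTc hT _)
  have hle := key (kernel.ι π) hTc φ₀ hφ₀ hTinv
  rw [hT, Nat.cast_zero, mul_zero] at hle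
  have hT' := torsion_deg k hdim hTc hT
  haveI : Mono π := Preadditive.mono_of_isZero_kernel _ (hT'.2 (by
    have hr0 : (0 : ℤ) < r := by exact_mod_cast hr
    nlinarith [hT'.1]))
  haveI := isIso_of_mono_of_epi π
  have hrS := grk_additive hS h2
  have hdS := gdeg_additive k hS h1 h2 h3
  have hP' : FlatMod.IsFinLocFreeOfRank (grk S.X₃) S.X₃ := fun x => by
    obtain ⟨U, hxU, ⟨e⟩⟩ := hP x
    exact ⟨U, hxU, ⟨(Scheme.Modules.restrictFunctor U.ι).mapIso (asIso π) ≪≫ e⟩⟩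
  have h3r : (r : ℤ) = (grk S.X₁ : ℤ) + (grk S.X₃ : ℤ) := by exact_mod_cast hr2 ▸ hrS
  have hd3 : gdeg k S.X₃ * (r : ℤ) = gdeg k S.X₂ * (grk S.X₃ : ℤ) := by
    linear_combination gdeg k S.X₂ * h3r - (r : ℤ) * hdS - hμ
  refine ⟨by rwa [show r - grk S.X₁ = grk S.X₃ by omega], hd3, fun φ' hφ' G i hi hG hinvG => ?_⟩
  haveI := hi
  have h := key i hG φ' hφ' hinvG
  refine le_of_mul_le_mul_right ?_ (show (0 : ℤ) < r by exact_mod_cast hr)
  calc _ = gdeg k G * (r : ℤ) * (grk S.X₃ : ℤ) := by ring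
    _ ≤ gdeg k S.X₂ * (grk G : ℤ) * (grk S.X₃ : ℤ) := mul_le_mul_of_nonneg_right h (Int.natCast_nonneg _)
    _ = gdeg k S.X₂ * (grk S.X₃ : ℤ) * (grk G : ℤ) := by ring
    _ = _ := by rw [← hd3]; ring

include hL in
/-- No nonzero map from the maximal destabilising subbundle to its quotient twisted by degree `≤ 0`. -/
theorem hom_twist_eq_zero_of_max {r : ℕ} {E E₁ : X.Modules} (hE : FlatMod.IsFinLocFreeOfRank r E) (i : E₁ ⟶ E)
    [Mono i] (hE₁c : Coh.IsCoh E₁) (hpos : 0 < grk E₁)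
    (hmax : ∀ (G : X.Modules) (j : G ⟶ E), Mono j → Coh.IsCoh G →
        gdeg k G * (grk E₁ : ℤ) ≤ gdeg k E₁ * (grk G : ℤ) ∧
        (0 < grk G → gdeg k G * (grk E₁ : ℤ) = gdeg k E₁ * (grk G : ℤ) → grk G ≤ grk E₁))
    (hL0 : gdeg k L ≤ 0) (g : E₁ ⟶ CohB1.tensorMod (cokernel i) L) : g = 0 := by
  haveI := EulerLib.isNoetherian_of_proper k (X := X)
  have hEc : Coh.IsCoh E := SplitP1.isCoh_of_rank hE
  have hE₁ := (sub_bundle hdim.le hn hE i hE₁c).2
  have hr1 : (0 : ℤ) < (grk E₁ : ℤ) := by exact_mod_cast hpos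
  by_contra hne
  have hQf := bundle_cokernel_of_max k hdim hn hE i hE₁c fun P jP hjP hP hPr => by
    have := (hmax P jP hjP hP).1
    rw [hPr] at this
    exact le_of_mul_le_mul_right this hr1
  have hQ := SplitP1.isCoh_of_rank hQf
  have hE1ss : SS k E₁ := by
    intro H jH hjH hH
    haveI := hjH
    exact (hmax H (jH ≫ i) (mono_comp _ _) hH).1
  obtain ⟨I, p, jI, hp, hjI, -, hI, hI0⟩ :=
    exists_image k hdim hn hE₁ (Clifford24.isFinLocFreeOfRank_tensorMod hQf hL) g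
  haveI := hjI
  have hc := hI0 hne
  have hq := hE1ss.quot k hE₁c p hI
  obtain ⟨M, hM, ⟨e⟩⟩ := CurveRR24.exists_inverse k hL
  obtain ⟨back⟩ := nonempty_untwist (cokernel i) hL hM e
  haveI := mono_tensorMap hM jI
  have hIf := (sub_bundle hdim.le hn (Clifford24.isFinLocFreeOfRank_tensorMod hQf hL) jI hI).2
  obtain ⟨P, jP, hjP, hP, hPr, hPd⟩ := exists_preimage_sub k (EulerLib.shortExact_cokernel i) hE₁c hEc hQ
    (tens jI M ≫ back.hom) (EulerLib.isCoh_twist hM hI)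
  change grk P = grk E₁ + grk (CohB1.tensorMod I M) at hPr
  change gdeg k P = gdeg k E₁ + gdeg k (CohB1.tensorMod I M) at hPd
  rw [grk_twist hIf hM] at hPr
  rw [gdeg_twist k hdim hn hM _ hIf] at hPd
  have hd := CurveRR24.deg_tensor k hdim.le hL hM
  rw [CurveRR24.deg_congr k e, CurveRR24.deg_structure, deg_line k hL, deg_line k hM] at hd
  obtain ⟨h1, h2⟩ := hmax P jP hjP hP
  rw [hPr, hPd] at h1 h2
  push_cast at h1 h2
  have hM0 : 0 ≤ (grk I : ℤ) * gdeg k M * (grk E₁ : ℤ) :=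
    mul_nonneg (mul_nonneg (Int.natCast_nonneg _) (by omega)) hr1.le
  have := h2 (by omega) (by nlinarith)
  omega

include hL in
/-- A semistable pair with twist of nonpositive degree is a semistable bundle. -/
theorem ss_of_ssh [GeometricallyIntegral (X ↘ Spec (CommRingCat.of k))] {r : ℕ} (hr : 0 < r) {E : X.Modules}
    (hE : FlatMod.IsFinLocFreeOfRank r E) (φ : E ⟶ CohB1.tensorMod E L) (hss : SSH k φ)
    (hL0 : gdeg k L ≤ 0) : SS k E := by
  haveI := EulerLib.isNoetherian_of_proper k (X := X)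
  have hEc : Coh.IsCoh E := SplitP1.isCoh_of_rank hE
  obtain ⟨E₁, i, hi, hE₁c, hpos, hE₁, hmax⟩ := exists_max_destab k hdim hn hr hE
  haveI := hi
  have hr1 : (0 : ℤ) < (grk E₁ : ℤ) := by exact_mod_cast hpos
  intro G j hj hG
  have hG1 := (hmax G j hj hG).1
  suffices h1 : gdeg k E₁ * (grk E : ℤ) ≤ gdeg k E * (grk E₁ : ℤ) by
    refine le_of_mul_le_mul_right ?_ hr1
    nlinarith [mul_le_mul_of_nonneg_right hG1 (Int.natCast_nonneg (grk E)),
      mul_le_mul_of_nonneg_right h1 (Int.natCast_nonneg (grk G))]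
  by_cases hz : i ≫ φ ≫ tens (cokernel.π i) L = 0
  · exact hss E₁ i hi hE₁c (inv_of_zero hL (EulerLib.shortExact_cokernel i) φ hz)
  exact absurd (hom_twist_eq_zero_of_max hL k hdim hn hE i hE₁c hpos hmax hL0 _) hz

end Groth.Agent.VB5
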