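import Groth.Agent.VB5.Higgs
import Groth.Agent.VB5.Line
import Groth.Agent.VB5.Sections
import Groth.Agent.VB5.Split
import Groth.Agent.Clifford24.Canonical
import Groth.Agent.KLLib.Basic
import Groth.Agent.AbVarLib.AlgClosedIntegral

/-!
# Nilpotent twisted endomorphisms of rank two bundles; secants of curves embedded by `K ⊗ N`
-/

set_option autoImplicit false
set_option linter.style.haveILetI false
set_option linter.unusedSectionVars false
set_option backward.isDefEq.respectTransparency.types false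

universe u

open CategoryTheory CategoryTheory.Limits AlgebraicGeometry Opposite TopologicalSpace
open Groth.Agent.Coherent Groth.Agent.PicLib Groth.Agent.AmpleLib Groth.Agent.EulerLib Groth.Agent.CurveRR24

namespace Groth.Agent.VB5

variable {X : Scheme.{u}} {K : X.Modules} (hK : PicF.IsInvertible K)
include hK

/-- A map `E/L → L ⊗ K` gives a square-zero map `E → E ⊗ K`. -/
theorem exists_sq_zero {L E : X.Modules} (j : L ⟶ E) [Mono j] (β : cokernel j ⟶ CohB1.tensorMod L K) (hβ : β ≠ 0) :
    ∃ α : E ⟶ CohB1.tensorMod E K, α ≠ 0 ∧ α ≫ tens α K = 0 := by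
  haveI : Mono (tens j K) := mono_tensorMap hK j
  refine ⟨cokernel.π j ≫ β ≫ tens j K, fun h => hβ ?_, ?_⟩
  · rw [← cancel_mono (tens j K), zero_comp, ← cancel_epi (cokernel.π j), comp_zero]
    exact h
  · rw [tens_comp]
    simp only [Category.assoc]
    rw [← Category.assoc (tens j K), tens_comp_zero j _ (cokernel.condition j), zero_comp, comp_zero, comp_zero]

variable [IsIntegral X] [IsLocallyNoetherian X]
variable (k : Type u) [Field k] [X.Over (Spec (CommRingCat.of k))] [IsProper (X ↘ Spec (CommRingCat.of k))]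
  (hdim : topologicalKrullDim X = 1) (hn : ∀ x : X, IsIntegrallyClosed (X.presheaf.stalk x))
include k hdim hn

/-- A nonzero square-zero map `E → E ⊗ K` on a rank two bundle comes from a line subbundle. -/
theorem exists_sub_of_sq_zero {E : X.Modules} (hE : FlatMod.IsFinLocFreeOfRank 2 E)
    (α : E ⟶ CohB1.tensorMod E K) (hα : α ≠ 0) (hsq : α ≫ tens α K = 0) :
    ∃ (L : X.Modules) (j : L ⟶ E), PicF.IsInvertible L ∧ Mono j ∧ PicF.IsInvertible (cokernel j) ∧
      ∃ β : cokernel j ⟶ CohB1.tensorMod L K, β ≠ 0 := by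
  haveI := EulerLib.isNoetherian_of_proper k (X := X)
  have hEc : Coh.IsCoh E := SplitP1.isCoh_of_rank hE
  have hEK := Clifford24.isFinLocFreeOfRank_tensorMod hE hK
  obtain ⟨I, p, jI, hp, hjI, hpj, hI, hI0⟩ := exists_image k hdim hn hE hEK α
  haveI := hp
  haveI := hjI
  have hI1 := hI0 hα
  have hKer := Coherent.isCoh_kernel p hEc hI.1
  have hr := grk_additive (EulerLib.shortExact_kernel p) hEc
  change grk E = grk (kernel p) + grk I at hr
  rw [grk_eq hE] at hr
  have hz : jI ≫ tens p K = 0 := by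
    haveI : Mono (tens jI K) := mono_tensorMap hK jI
    rw [← cancel_mono (tens jI K), zero_comp, ← cancel_epi p, comp_zero, Category.assoc, ← tens_comp, hpj,
      ← Category.assoc, hpj]
    exact hsq
  have hI2 : grk I ≠ 2 := fun h2 => hα (by
    haveI : Mono p := Preadditive.mono_of_isZero_kernel _ (zero_rank_sub k hdim hn hE (kernel.ι p) hKer (by omega)).1
    haveI : Mono (tens p K) := mono_tensorMap hK p
    rw [← hpj, (cancel_mono (tens p K)).1 (hz.trans zero_comp.symm), comp_zero])
  have hIf := (sub_bundle hdim.le hn hEK jI hI).2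
  have hLf := (sub_bundle hdim.le hn hE (kernel.ι p) hKer).2
  rw [show grk I = 1 by omega] at hIf
  rw [show grk (kernel p) = 1 by omega] at hLf
  have hS := EulerLib.shortExact_kernel p
  let e : cokernel (kernel.ι p) ≅ I :=
    IsColimit.coconePointUniqueUpToIso (cokernelIsCokernel (kernel.ι p)) hS.gIsCokernel
  refine ⟨kernel p, kernel.ι p, invertible_of_rank_one hLf, inferInstance, KLLib.isInvertible_of_iso e.symm
    (invertible_of_rank_one hIf), ?_⟩
  have hT := twistSeq_shortExact hK hS
  let b : I ⟶ CohB1.tensorMod (kernel p) K := hT.fIsKernel.lift (KernelFork.ofι jI hz)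
  have hb : b ≫ tens (kernel.ι p) K = jI := hT.fIsKernel.fac (KernelFork.ofι jI hz) WalkingParallelPair.zero
  refine ⟨e.hom ≫ b, fun h => hα ?_⟩
  have hb0 : b = 0 := by rw [← cancel_epi e.hom, h, comp_zero]
  rw [← hpj, ← hb, hb0, zero_comp, comp_zero]

/-- For a line subbundle of maximal degree of a very stable bundle the pairing vanishes on no pair. -/
theorem comp_ne_zero_of_max {E : X.Modules} (hE : FlatMod.IsFinLocFreeOfRank 2 E)
    (hvs : ∀ α : E ⟶ CohB1.tensorMod E K, α ≫ tens α K = 0 → α = 0)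
    {L : X.Modules} (hL : PicF.IsInvertible L)
    (hmax : ∀ (M : X.Modules) (i : M ⟶ E), PicF.IsInvertible M → Mono i → gdeg k M ≤ gdeg k L)
    (s : L ⟶ E) (hs : s ≠ 0) (t : E ⟶ CohB1.tensorMod L K) (ht : t ≠ 0) : s ≫ t ≠ 0 := by
  haveI := EulerLib.isNoetherian_of_proper k (X := X)
  intro hst
  have hEc : Coh.IsCoh E := SplitP1.isCoh_of_rank hE
  have hLK := Clifford24.isFinLocFreeOfRank_tensorMod (PicLib.isFinLocFreeOfRank_one hL) hK
  obtain ⟨I, p, jI, hp, hjI, hpj, hI, hI0⟩ := exists_image k hdim hn hE hLK t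
  haveI := hp
  haveI := hjI
  have hI1 := hI0 ht
  have hKer := Coherent.isCoh_kernel p hEc hI.1
  have hr := grk_additive (EulerLib.shortExact_kernel p) hEc
  change grk E = grk (kernel p) + grk I at hr
  rw [grk_eq hE] at hr
  have hIle : grk I ≤ 1 := by
    have h1 := grk_additive (EulerLib.shortExact_cokernel jI) (SplitP1.isCoh_of_rank hLK)
    change grk _ = grk I + grk (cokernel jI) at h1
    rw [grk_eq hLK] at h1
    omega
  have hIf := (sub_bundle hdim.le hn hLK jI hI).2
  have hLf := (sub_bundle hdim.le hn hE (kernel.ι p) hKer).2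
  rw [show grk I = 1 by omega] at hIf
  rw [show grk (kernel p) = 1 by omega] at hLf
  have hJ := invertible_of_rank_one hLf
  have hsp : s ≫ p = 0 := by rw [← cancel_mono jI, zero_comp, Category.assoc, hpj, hst]
  let v : L ⟶ kernel p := kernel.lift p s hsp
  have hv : v ≠ 0 := fun h => hs (by rw [← kernel.lift_ι p s hsp]; exact (congrArg (· ≫ kernel.ι p) h).trans zero_comp)
  obtain ⟨hle, -, hiso⟩ := line_map k hdim hn hL hJ v hv
  haveI := hiso (le_antisymm hle (hmax _ (kernel.ι p) hJ inferInstance))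
  have hS := EulerLib.shortExact_kernel p
  let e : cokernel (kernel.ι p) ≅ I :=
    IsColimit.coconePointUniqueUpToIso (cokernelIsCokernel (kernel.ι p)) hS.gIsCokernel
  haveI : Mono (tens v K) := mono_tensorMap hK v
  obtain ⟨α, hα, hsq⟩ := exists_sq_zero hK (kernel.ι p) (e.hom ≫ jI ≫ tens v K) fun h => ht (by
    have h1 : jI = 0 := by rw [← cancel_mono (tens v K), zero_comp, ← cancel_epi e.hom, h, comp_zero]
    rw [← hpj, h1, comp_zero])
  exact hα (hvs α hsq)

omit hn hK

variable [Smooth (X ↘ Spec (CommRingCat.of k))] [GeometricallyIntegral (X ↘ Spec (CommRingCat.of k))]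

/-- A `(deg N)`-secant `I` of `X ⊂ |K ⊗ N|` inverts `N`. -/
theorem nonempty_tensor_iso_of_secant {K N I : X.Modules} (eK : K ≅ omega k (X := X))
    (hN : PicF.IsInvertible N) (hI : PicF.IsInvertible I) (hd : gdeg k I + gdeg k N = 0)
    (h0 : Curv2.genus k X ≤ Module.finrank k (Coh.HH X (CohB1.tensorMod I (CohB1.tensorMod K N)) 0)) :
    Nonempty (CohB1.tensorMod I N ≅ Coh.structureModule X) := by
  haveI := EulerLib.isNoetherian_of_proper k (X := X)
  have hΩ := omega_line k hdim (X := X)
  have hK : PicF.IsInvertible K := KLLib.isInvertible_of_iso eK.symm hΩ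
  have hKN := AmpleLib.isInvertible_tensorMod hK hN
  have hT := AmpleLib.isInvertible_tensorMod hI hKN
  have hIN := AmpleLib.isInvertible_tensorMod hI hN
  obtain ⟨i⟩ := Clifford24.nonempty_iso_omega_of_deg k hdim hT (by
    rw [deg_tensor k hdim.le hI hKN, deg_tensor k hdim.le hK hN, deg_congr k eK]
    rw [← deg_line k hI, ← deg_line k hN] at hd
    have := OmegaDual24.deg_omega k hdim (X := X)
    linarith) h0
  obtain ⟨a⟩ := exists_assocIso' K hI hN
  obtain ⟨b⟩ := exists_assocIso' I hK hN
  exact Clifford24.nonempty_iso_of_tensor_iso k hK hIN AmpleLib.isInvertible_structureModule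
    (a.symm ≪≫ AmpleLib.tensorIso (tensorComm K I) (Iso.refl N) ≪≫ b ≪≫ i ≪≫ eK.symm ≪≫
      (unitTensorIso K).symm ≪≫ tensorComm _ _)

/-- `h⁰(K ⊗ N)` for `deg N > 0`. -/
theorem h0_omega_tensor {K N : X.Modules} (eK : K ≅ omega k (X := X)) (hN : PicF.IsInvertible N)
    (hd : 0 < gdeg k N) :
    (Module.finrank k (Coh.HH X (CohB1.tensorMod K N) 0) : ℤ) = gdeg k N + (Curv2.genus k X : ℤ) - 1 := by
  haveI := EulerLib.isNoetherian_of_proper k (X := X)
  have hK : PicF.IsInvertible K := KLLib.isInvertible_of_iso eK.symm (omega_line k hdim (X := X))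
  have hKN := AmpleLib.isInvertible_tensorMod hK hN
  have hO := CurveRR24.h0_structure_of_geomIntegral k (X := X)
  have hdeg : gdeg k (CohB1.tensorMod K N) = 2 * (Curv2.genus k X : ℤ) - 2 + gdeg k N := by
    rw [← deg_line k hKN, deg_tensor k hdim.le hK hN, deg_congr k eK, OmegaDual24.deg_omega k hdim (X := X),
      deg_line k hN]
  haveI h1 := CurveRR24.subsingleton_h1_of_deg k hdim.le hO hKN (by rw [deg_line k hKN]; omega)
  have := (subsingleton_h1_iff_h0 k hdim (CurveRR24.isCoh_of_isInvertible k hKN)).1 h1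
  rw [rank_one hKN] at this
  omega

/-- A mono into the structure sheaf which trivialises against `N` gives a section of `N`. -/
theorem h0_ne_zero_of_secant {N I : X.Modules} (hN : PicF.IsInvertible N)
    (ι : I ⟶ Coh.structureModule X) [Mono ι] (e : CohB1.tensorMod I N ≅ Coh.structureModule X) :
    Module.finrank k (Coh.HH X N 0) ≠ 0 := by
  haveI := EulerLib.isNoetherian_of_proper k (X := X)
  haveI := CurveRR24.finite_HH_of_isCoh k (CurveRR24.isCoh_of_isInvertible k hN) 0
  intro h
  haveI : Subsingleton (Coh.HH X N 0) := (Module.finrank_zero_iff (R := k)).1 h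
  haveI : Subsingleton (Coh.structureModule X ⟶ N) := (SerreDual.homUnitHH k N).toEquiv.subsingleton
  haveI : Mono (tens ι N) := mono_tensorMap hN ι
  let φ : Coh.structureModule X ⟶ N := e.inv ≫ tens ι N ≫ (unitTensorIso N).hom
  haveI : Mono φ := inferInstance
  exact not_isZero_of_grk (PicLib.isFinLocFreeOfRank_one AmpleLib.isInvertible_structureModule) Nat.one_pos
    ((IsZero.iff_id_eq_zero _).2 ((cancel_mono φ).1 (Subsingleton.elim _ _)))

/-- A section of `N` gives a secant. -/
theorem exists_secant {K N : X.Modules} (eK : K ≅ omega k (X := X)) (hN : PicF.IsInvertible N)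
    (h0 : Module.finrank k (Coh.HH X N 0) ≠ 0) :
    ∃ (I : X.Modules) (ι : I ⟶ Coh.structureModule X), PicF.IsInvertible I ∧ Mono ι ∧ gdeg k I = -gdeg k N ∧
      Module.finrank k (Coh.HH X (CohB1.tensorMod I (CohB1.tensorMod K N)) 0) = Curv2.genus k X := by
  haveI := EulerLib.isNoetherian_of_proper k (X := X)
  obtain ⟨φ, hφ, hm⟩ := exists_section_mono k hdim (PicLib.isFinLocFreeOfRank_one hN) h0
  haveI := hm
  obtain ⟨M, hM, ⟨e⟩⟩ := CurveRR24.exists_inverse k hN
  haveI : Mono (tens φ M) := mono_tensorMap hM φ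
  refine ⟨M, (unitTensorIso M).inv ≫ tens φ M ≫ e.hom, hM, inferInstance, ?_, ?_⟩
  · have h := deg_tensor k hdim.le hN hM
    rw [deg_congr k e, deg_structure, deg_line k hN, deg_line k hM] at h
    omega
  · have hK : PicF.IsInvertible K := KLLib.isInvertible_of_iso eK.symm (omega_line k hdim (X := X))
    obtain ⟨a⟩ := exists_assocIso' K hN hM
    rw [finrank_HH_congr k (tensorComm M _ ≪≫ a ≪≫ AmpleLib.tensorIso (Iso.refl K) e ≪≫ tensorComm _ _ ≪≫
      unitTensorIso K ≪≫ eK) 0]
    exact (OmegaDual24.finrank_omega k hdim).1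

/-- Two secants inverting an `N` with one section agree. -/
theorem exists_iso_over {N I I' : X.Modules} (hN : PicF.IsInvertible N) (hI : PicF.IsInvertible I)
    (hI' : PicF.IsInvertible I') (h1 : Module.finrank k (Coh.HH X N 0) ≤ 1)
    (ι : I ⟶ Coh.structureModule X) [Mono ι] (ι' : I' ⟶ Coh.structureModule X) [Mono ι']
    (a : CohB1.tensorMod I N ≅ Coh.structureModule X) (a' : CohB1.tensorMod I' N ≅ Coh.structureModule X) :
    ∃ φ : I' ≅ I, φ.hom ≫ ι = ι' := by
  haveI := EulerLib.isNoetherian_of_proper k (X := X)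
  obtain ⟨e⟩ := Clifford24.nonempty_iso_of_tensor_iso k hN hI' hI (tensorComm N I' ≪≫ a' ≪≫ a.symm ≪≫ tensorComm I N)
  have hO : PicF.IsInvertible (Coh.structureModule X) := AmpleLib.isInvertible_structureModule
  haveI : Module.Finite k (I' ⟶ Coh.structureModule X) :=
    finite_hom k (exists_rank_free (PicLib.isFinLocFreeOfRank_one hI'))
      (exists_rank_free (PicLib.isFinLocFreeOfRank_one hO))
  obtain ⟨-, hf⟩ := SerreDual.finrank_hom_eq (k := k) (Coh.structureModule X) hI' hN a'
  rw [finrank_HH_congr k (unitTensorIso N) 0] at hf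
  have hfin : Module.finrank k (I' ⟶ Coh.structureModule X) ≤ 1 := hf ▸ h1
  obtain ⟨v, hv⟩ := finrank_le_one_iff.1 hfin
  obtain ⟨c, hc⟩ := hv (e.hom ≫ ι)
  obtain ⟨c', hc'⟩ := hv ι'
  have hne : ∀ {J : X.Modules} (hJ : PicF.IsInvertible J) (i : J ⟶ Coh.structureModule X), Mono i → i ≠ 0 := by
    intro J hJ i hi h
    refine not_isZero_of_grk (PicLib.isFinLocFreeOfRank_one hJ) Nat.one_pos ((IsZero.iff_id_eq_zero _).2 ?_)
    exact (cancel_mono i).1 (by rw [h, comp_zero, comp_zero])
  have hc0 : c ≠ 0 := fun h => hne hI' (e.hom ≫ ι) (mono_comp _ _) (by rw [← hc, h, zero_smul])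
  have hc0' : c' ≠ 0 := fun h => hne hI' ι' inferInstance (by rw [← hc', h, zero_smul])
  refine ⟨{ hom := (c' / c) • e.hom
            inv := (c / c') • e.inv
            hom_inv_id := ?_
            inv_hom_id := ?_ }, ?_⟩
  · rw [Linear.smul_comp, Linear.comp_smul, smul_smul, e.hom_inv_id]
    rw [show c' / c * (c / c') = 1 by field_simp, one_smul]
  · rw [Linear.smul_comp, Linear.comp_smul, smul_smul, e.inv_hom_id]
    rw [show c / c' * (c' / c) = 1 by field_simp, one_smul]
  · rw [Linear.smul_comp, ← hc, smul_smul, ← hc', div_mul_cancel₀ _ hc0]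

end Groth.Agent.VB5
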