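import Groth.Agent.VB5.Sections
import Groth.Agent.AmpleLib.Power

/-!
# Sums of powers of a line bundle
-/

set_option autoImplicit false
set_option linter.style.haveILetI false
set_option linter.unusedSectionVars false
set_option backward.isDefEq.respectTransparency.types false

universe u

open CategoryTheory CategoryTheory.Limits AlgebraicGeometry Opposite TopologicalSpace Polynomial
open Groth.Agent.Coherent Groth.Agent.PicLib Groth.Agent.AmpleLib Groth.Agent.EulerLib Groth.Agent.CurveRR24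

namespace Groth.Agent.VB5

variable {X : Scheme.{u}}

/-- `P(L)`. -/
noncomputable abbrev evalPoly (L : X.Modules) (P : Polynomial ℕ) : X.Modules :=
  ∐ fun i : Fin (P.natDegree + 1) => ∐ fun _ : Fin (P.coeff ↑i) => CohB1.tensorPow L ↑i

/-- A sum in which one summand occurs once and the others never. -/
theorem nonempty_single {n : ℕ} (B : Fin n → X.Modules) (c : Fin n → ℕ) (i₀ : Fin n) (h1 : c i₀ = 1)
    (h0 : ∀ i, i ≠ i₀ → c i = 0) : Nonempty ((∐ fun i => ∐ fun _ : Fin (c i) => B i) ≅ B i₀) := by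
  refine ⟨{
    hom := Sigma.desc fun i => Sigma.desc fun a =>
      if h : i = i₀ then eqToHom (congrArg B h) else 0
    inv := Sigma.ι (fun _ : Fin (c i₀) => B i₀) ⟨0, by omega⟩ ≫ Sigma.ι (fun i => ∐ fun _ : Fin (c i) => B i) i₀
    hom_inv_id := ?_
    inv_hom_id := by simp }⟩
  refine Sigma.hom_ext _ _ fun i => Sigma.hom_ext _ _ fun a => ?_
  rcases eq_or_ne i i₀ with rfl | h
  · have ha : a = ⟨0, by omega⟩ := Fin.ext (by have := a.isLt; omega)
    subst ha
    simp
  · have := a.isLt; have := h0 i h; omega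

/-- Maps out of a finite sum. -/
noncomputable def sigmaHomEquiv (k : Type u) [Field k] [X.Over (Spec (CommRingCat.of k))] {n : ℕ}
    (F : Fin n → X.Modules) (B : X.Modules) : ((∐ F) ⟶ B) ≃ₗ[k] ((i : Fin n) → (F i ⟶ B)) where
  toFun φ i := Sigma.ι F i ≫ φ
  map_add' φ ψ := funext fun i => Preadditive.comp_add _ _ _ (Sigma.ι F i) φ ψ
  map_smul' c φ := funext fun i => Linear.comp_smul _ _ _ (Sigma.ι F i) c φ
  invFun g := Sigma.desc g
  left_inv φ := Sigma.hom_ext _ _ fun i => Sigma.ι_desc (fun j => Sigma.ι F j ≫ φ) i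
  right_inv g := funext fun i => Sigma.ι_desc g i

variable [IsIntegral X] [IsLocallyNoetherian X]
  (k : Type u) [Field k] [X.Over (Spec (CommRingCat.of k))] [IsProper (X ↘ Spec (CommRingCat.of k))]
  [Smooth (X ↘ Spec (CommRingCat.of k))] [GeometricallyIntegral (X ↘ Spec (CommRingCat.of k))]
  (hdim : topologicalKrullDim X = 1) {L : X.Modules} (hL : PicF.IsInvertible L)
include k hdim hL

theorem finite_hom_pow (i j : ℕ) : Module.Finite k (CohB1.tensorPow L i ⟶ CohB1.tensorPow L j) := by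
  obtain ⟨M, hM, ⟨e⟩⟩ := CurveRR24.exists_inverse k (AmpleLib.isInvertible_tensorPow hL i)
  exact (Clifford24.hom_equiv_h0 k (AmpleLib.isInvertible_tensorPow hL i) (AmpleLib.isInvertible_tensorPow hL j) hM e).1

theorem finrank_hom_evalPoly (P : Polynomial ℕ) (j N : ℕ) (hN : P.natDegree < N) :
    Module.finrank k (evalPoly L P ⟶ CohB1.tensorPow L j) =
      ∑ i ∈ Finset.range N, P.coeff i * Module.finrank k (CohB1.tensorPow L i ⟶ CohB1.tensorPow L j) := by
  haveI : ∀ i, Module.Finite k (CohB1.tensorPow L i ⟶ CohB1.tensorPow L j) := fun i => finite_hom_pow k hdim hL i j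
  haveI : ∀ i : Fin (P.natDegree + 1),
      Module.Finite k ((∐ fun _ : Fin (P.coeff ↑i) => CohB1.tensorPow L ↑i) ⟶ CohB1.tensorPow L j) :=
    fun i => Module.Finite.equiv (sigmaHomEquiv k _ _).symm
  rw [(sigmaHomEquiv k _ _).finrank_eq, Module.finrank_pi_fintype,
    ← Finset.sum_subset (Finset.range_subset_range.2 (show P.natDegree + 1 ≤ N by omega))
      (fun i _ hi => by rw [coeff_eq_zero_of_natDegree_lt (by simpa using hi), zero_mul]),
    ← Fin.sum_univ_eq_sum_range fun i => P.coeff i * Module.finrank k (CohB1.tensorPow L i ⟶ CohB1.tensorPow L j)]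
  refine Finset.sum_congr rfl fun i _ => ?_
  rw [(sigmaHomEquiv k _ _).finrank_eq, Module.finrank_pi_fintype, Finset.sum_const, Finset.card_univ,
    Fintype.card_fin, smul_eq_mul]

/-- Without torsion, powers have no maps to other powers of smaller or equal degree. -/
theorem subsingleton_hom_pow (htor : ∀ m : ℕ, 0 < m → ¬ Nonempty (CohB1.tensorPow L m ≅ Coh.structureModule X))
    {i j : ℕ} (hij : i ≠ j) (hd : (j : ℤ) * gdeg k L ≤ (i : ℤ) * gdeg k L) :
    Subsingleton (CohB1.tensorPow L i ⟶ CohB1.tensorPow L j) := by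
  have hn := isIntegrallyClosed' k hdim (X := X)
  have hpow : ∀ n, gdeg k (CohB1.tensorPow L n) = (n : ℤ) * gdeg k L := fun n => by
    rw [← deg_line k (AmpleLib.isInvertible_tensorPow hL n), CurveRR24.deg_tensorPow k hdim.le hL n, deg_line k hL]
  refine subsingleton_of_forall_eq 0 fun f => by_contra fun hf => ?_
  obtain ⟨h1, -, h3⟩ := line_map k hdim hn (AmpleLib.isInvertible_tensorPow hL i) (AmpleLib.isInvertible_tensorPow hL j) f hf
  rw [hpow, hpow] at h1 h3
  haveI := h3 (le_antisymm h1 hd)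
  have key : ∀ a m : ℕ, Nonempty (CohB1.tensorPow L (a + m) ≅ CohB1.tensorPow L a) →
      Nonempty (CohB1.tensorPow L m ≅ Coh.structureModule X) := by
    rintro a m ⟨u⟩
    obtain ⟨w, -⟩ := AmpleLib.exists_powIso hL a m
    have hA := AmpleLib.isInvertible_tensorPow hL a
    obtain ⟨M, hM, ⟨e⟩⟩ := CurveRR24.exists_inverse k hA
    obtain ⟨as⟩ := EulerLib.exists_assocIso' M hA (AmpleLib.isInvertible_tensorPow hL m)
    exact ⟨(AmpleLib.unitTensorIso _).symm ≪≫
      AmpleLib.tensorIso ((AmpleLib.tensorComm M _ ≪≫ e).symm) (Iso.refl _) ≪≫ as ≪≫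
      AmpleLib.tensorIso (Iso.refl M) (w ≪≫ u) ≪≫ AmpleLib.tensorComm M _ ≪≫ e⟩
  rcases Nat.lt_or_gt_of_ne hij with h | h
  · exact htor (j - i) (by omega) (key i (j - i) ⟨eqToIso (by rw [Nat.add_sub_cancel' h.le]) ≪≫ (asIso f).symm⟩)
  · exact htor (i - j) (by omega) (key j (i - j) ⟨eqToIso (by rw [Nat.add_sub_cancel' h.le]) ≪≫ asIso f⟩)

theorem eq_of_evalPoly_iso (htor : ∀ m : ℕ, 0 < m → ¬ Nonempty (CohB1.tensorPow L m ≅ Coh.structureModule X))
    (P Q : Polynomial ℕ) (e : evalPoly L P ≅ evalPoly L Q) : P = Q := by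
  by_contra hne
  let N := max P.natDegree Q.natDegree + 1
  let S := (Finset.range N).filter fun i => P.coeff i ≠ Q.coeff i
  have hS : S.Nonempty := by
    by_contra hS
    refine hne (Polynomial.ext fun i => ?_)
    by_contra hi
    rcases lt_or_ge i N with h | h
    · exact hS ⟨i, Finset.mem_filter.2 ⟨Finset.mem_range.2 h, hi⟩⟩
    · exact hi (by rw [coeff_eq_zero_of_natDegree_lt (by omega), coeff_eq_zero_of_natDegree_lt (by omega)])
  obtain ⟨j, hj, hmin⟩ := S.exists_min_image (fun i => (i : ℤ) * gdeg k L) hS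
  have h := (Linear.homCongr k e (Iso.refl (CohB1.tensorPow L j))).finrank_eq
  rw [finrank_hom_evalPoly k hdim hL P j N (by omega), finrank_hom_evalPoly k hdim hL Q j N (by omega)] at h
  have hjN := (Finset.mem_filter.1 hj).1
  rw [← Finset.add_sum_erase _ _ hjN, ← Finset.add_sum_erase _ _ hjN] at h
  have hrest : ∀ i ∈ (Finset.range N).erase j,
      P.coeff i * Module.finrank k (CohB1.tensorPow L i ⟶ CohB1.tensorPow L j) =
        Q.coeff i * Module.finrank k (CohB1.tensorPow L i ⟶ CohB1.tensorPow L j) := fun i hi => by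
    obtain ⟨hij, hiN⟩ := Finset.mem_erase.1 hi
    by_cases hi' : P.coeff i = Q.coeff i
    · rw [hi']
    · haveI := subsingleton_hom_pow k hdim hL htor hij (hmin i (Finset.mem_filter.2 ⟨hiN, hi'⟩))
      rw [Module.finrank_zero_of_subsingleton, mul_zero, mul_zero]
  rw [Finset.sum_congr rfl hrest] at h
  haveI := finite_hom_pow k hdim hL j j
  have hpos : Module.finrank k (CohB1.tensorPow L j ⟶ CohB1.tensorPow L j) ≠ 0 := fun h0 => by
    haveI := Module.finrank_zero_iff.1 h0
    exact not_isZero_of_grk (PicLib.isFinLocFreeOfRank_one (AmpleLib.isInvertible_tensorPow hL j)) Nat.one_pos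
      ((IsZero.iff_id_eq_zero _).2 (Subsingleton.elim _ _))
  exact (Finset.mem_filter.1 hj).2 (Nat.eq_of_mul_eq_mul_right (Nat.pos_of_ne_zero hpos) (by omega))

end Groth.Agent.VB5
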