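import Groth.Agent.WeilFin.Ops
import Groth.Agent.VB5.Jointly
import Groth.Agent.VB5.Twist
import Groth.Agent.VB5.Bound
import Groth.Agent.AbCubeLib.FrobPull
import Groth.Agent.AmpleLib.Generated
import Groth.Agent.PicTau27.Gen
import Groth.Agent.Surf15.H0
import Groth.Agent.VB5.DualDeg
import Groth.Agent.KRRPBLib.Basic

/-!
# Sections of Frobenius pullbacks of a bundle on a curve grow at most linearly in `p^n`
-/

set_option autoImplicit false
set_option linter.style.haveILetI false
set_option linter.unusedSectionVars false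
set_option backward.isDefEq.respectTransparency.types false

universe u

open CategoryTheory CategoryTheory.Limits AlgebraicGeometry Opposite TopologicalSpace
open Groth.Agent.Coherent Groth.Agent.PicLib Groth.Agent.AmpleLib Groth.Agent.EulerLib Groth.Agent.CurveRR24

namespace Groth.Agent.VB5

variable {X : Scheme.{u}}

section Iterate

variable (σ : X ⟶ X)

/-- The iterated pullback. -/
noncomputable abbrev pullIter (n : ℕ) : X.Modules → X.Modules := ((Scheme.Modules.pullback σ).obj)^[n]

theorem pullIter_succ (n : ℕ) (M : X.Modules) :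
    pullIter σ (n + 1) M = (Scheme.Modules.pullback σ).obj (pullIter σ n M) :=
  Function.iterate_succ_apply' _ _ _

theorem isFinLocFree_pullIter {M : X.Modules} (h : FlatMod.IsFinLocFree M) :
    ∀ n, FlatMod.IsFinLocFree (pullIter σ n M)
  | 0 => h
  | n + 1 => by rw [pullIter_succ]; exact DCat.PullPerf.isFinLocFree_pullback _ (isFinLocFree_pullIter h n)

theorem nonempty_pullIter_dual {E : X.Modules} (hE : FlatMod.IsFinLocFree E) : ∀ n,
    Nonempty (pullIter σ n (WeilFin.dual E) ≅ WeilFin.dual (pullIter σ n E))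
  | 0 => ⟨Iso.refl _⟩
  | n + 1 => by
    obtain ⟨e⟩ := nonempty_pullIter_dual hE n
    obtain ⟨w⟩ := CycLib28.PB.Ops.nonempty_pullback_dual σ (isFinLocFree_pullIter σ hE n)
    rw [pullIter_succ, pullIter_succ]
    exact ⟨(Scheme.Modules.pullback σ).mapIso e ≪≫ w⟩

theorem exists_epi_pullIter {G N : X.Modules} {p : ℕ} (π : (∐ fun _ : Fin p => N) ⟶ G) [Epi π] : ∀ n,
    ∃ π' : (∐ fun _ : Fin p => pullIter σ n N) ⟶ pullIter σ n G, Epi π'
  | 0 => ⟨π, ‹Epi π›⟩
  | n + 1 => by
    obtain ⟨π', hπ'⟩ := exists_epi_pullIter π n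
    haveI := hπ'
    haveI := (Scheme.Modules.pullbackPushforwardAdjunction σ).leftAdjoint_preservesColimits
      (F := Scheme.Modules.pullback σ)
    haveI : Epi ((Scheme.Modules.pullback σ).map π') := inferInstance
    rw [pullIter_succ, pullIter_succ]
    exact ⟨(PreservesCoproduct.iso (Scheme.Modules.pullback σ) _).inv ≫ (Scheme.Modules.pullback σ).map π',
      epi_comp _ _⟩

/-- A quotient of copies of `N` dualises to maps into `dual N` jointly injective. -/
theorem exists_jointlyMono_dual {G N : X.Modules} {p : ℕ} (π : (∐ fun _ : Fin p => N) ⟶ G) [Epi π] :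
    ∃ φ : Fin p → (WeilFin.dual G ⟶ WeilFin.dual N), JointlyMono φ := by
  classical
  let F : Fin p → X.Modules := fun _ => N
  refine ⟨fun j => SerreDual.precompApp π _ ≫ SerreDual.precompApp (Sigma.ι F j) _, ?_⟩
  intro Z x hx
  haveI := SerreDual.mono_precompApp π (Coh.structureModule X)
  refine zero_of_comp_mono (SerreDual.precompApp π (Coh.structureModule X)) ?_
  let pr : ∀ j, (∐ F) ⟶ N := fun j => Sigma.desc fun i => if i = j then 𝟙 N else 0
  have htot : ∑ j, pr j ≫ Sigma.ι F j = 𝟙 (∐ F) := Sigma.hom_ext _ _ fun i => by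
    rw [Preadditive.comp_sum, Finset.sum_eq_single i]
    · simp [pr, F]
    · intro b _ hb
      simp [pr, F, Ne.symm hb]
    · intro h; exact absurd (Finset.mem_univ i) h
  have key : ∀ j, (x ≫ SerreDual.precompApp π (Coh.structureModule X)) ≫
      SerreDual.precompApp (Sigma.ι F j) (Coh.structureModule X) = 0 := fun j => by
    rw [Category.assoc]; exact hx j
  calc x ≫ SerreDual.precompApp π (Coh.structureModule X)
      = (x ≫ SerreDual.precompApp π (Coh.structureModule X)) ≫
          SerreDual.precompApp (𝟙 (∐ F)) (Coh.structureModule X) := by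
        rw [SerreDual.precompApp_id, Category.comp_id]
    _ = 0 := by
        rw [← htot, SerreDual.precompApp_sum, Preadditive.comp_sum]
        refine Finset.sum_eq_zero fun j _ => ?_
        rw [SerreDual.precompApp_comp, ← Category.assoc, key j, zero_comp]

theorem JointlyMono.precomp_iso {F F' N : X.Modules} {M : ℕ} {φ : Fin M → (F ⟶ N)} (h : JointlyMono φ)
    (e : F' ≅ F) : JointlyMono fun i => e.hom ≫ φ i := by
  intro Z x hx
  refine zero_of_comp_mono e.hom ?_
  exact h _ fun i => by rw [Category.assoc]; exact hx i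

end Iterate

variable [IsIntegral X] [IsLocallyNoetherian X]
  (k : Type u) [Field k] [X.Over (Spec (CommRingCat.of k))] [IsProper (X ↘ Spec (CommRingCat.of k))]
  [Smooth (X ↘ Spec (CommRingCat.of k))] [GeometricallyIntegral (X ↘ Spec (CommRingCat.of k))]
  (hdim : topologicalKrullDim X = 1)

include k in
theorem h0_le_of_jointlyMono {G N : X.Modules} {m : ℕ} (hN : Coh.IsCoh N) (φ : Fin m → (G ⟶ N))
    (h : JointlyMono φ) :
    Module.finrank k (Coh.HH X G 0) ≤ m * Module.finrank k (Coh.HH X N 0) := by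
  haveI := CurveRR24.finite_HH_of_isCoh k hN 0
  let O := Coh.structureModule X
  haveI : Module.Finite k (O ⟶ N) := Module.Finite.equiv (SerreDual.homUnitHH k _).symm
  rw [← (SerreDual.homUnitHH k G).finrank_eq, ← (SerreDual.homUnitHH k N).finrank_eq]
  refine (LinearMap.finrank_le_finrank_of_injective (f := LinearMap.pi fun i => Linear.rightComp k O (φ i))
    fun a b hab => ?_).trans (le_of_eq ?_)
  · rw [← sub_eq_zero]
    refine h _ fun i => ?_
    rw [Preadditive.sub_comp, sub_eq_zero]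
    exact congrFun hab i
  · rw [Module.finrank_pi_fintype, Finset.sum_const, Finset.card_univ, Fintype.card_fin, smul_eq_mul]

include hdim in
/-- Degree of the Frobenius pullbacks of a line bundle. -/
theorem deg_pullIter_frob (p : ℕ) [Fact p.Prime] [FrobSch.IsCharP X p] {N : X.Modules}
    (hN : PicF.IsInvertible N) : ∀ n, PicF.IsInvertible (pullIter (FrobSch.frob X p) n N) ∧
      Curv2.deg k X (pullIter (FrobSch.frob X p) n N) 1 = ((p ^ n : ℕ) : ℤ) * Curv2.deg k X N 1
  | 0 => ⟨hN, by simp⟩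
  | n + 1 => by
    obtain ⟨h1, h2⟩ := deg_pullIter_frob p hN n
    let M := pullIter (FrobSch.frob X p) n N
    have hle : ∀ U : X.Opens, U ≤ FrobSch.frob X p ⁻¹ᵁ U := fun U => le_rfl
    have happ : ∀ (U : X.Opens) (s : Γ(X, U)), ((FrobSch.frob X p).appLE U U (hle U)).hom s = s ^ p := fun U s => by
      rw [← FrobSch.frob_app X p U s, Scheme.Hom.app_eq_appLE]
      rfl
    have h3 := AbCubeLib.pull_eq_pow_of_powerMap (FrobSch.frob X p) p hle happ (PicM.of h1)
    rw [PicM.pull_of, ← PicM.of_tensorPow h1, PicM.of_eq_iff] at h3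
    obtain ⟨e⟩ := h3
    have hp : PicF.IsInvertible (CohB1.tensorPow M p) := AmpleLib.isInvertible_tensorPow h1 p
    rw [pullIter_succ]
    refine ⟨glocus_isInvertible_of_iso e.symm hp, ?_⟩
    rw [CurveRR24.deg_congr k e 1, CurveRR24.deg_tensorPow k hdim.le h1 p, h2, pow_succ']
    push_cast
    ring

include hdim in
theorem exists_frob_h0_bound [IsAlgClosed k] (p : ℕ) [Fact p.Prime] [FrobSch.IsCharP X p] {E L : X.Modules}
    (hE : FlatMod.IsFinLocFree E) (hL : PicF.IsInvertible L) :
    ∃ M : ℕ, ∀ n : ℕ, Module.finrank k (Coh.HH X (CohB1.tensorMod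
      (((Scheme.Modules.pullback (FrobSch.frob X p)).obj)^[n] E) L) 0) ≤ M * p ^ n := by
  have hn' := isIntegrallyClosed' k hdim (X := X)
  obtain ⟨A, hA, hAa⟩ := exists_ample k hdim hn'
  let G := WeilFin.dual E
  have hG : FlatMod.IsFinLocFree G := CohBC.isFinLocFree_internalHom hE (CohBC.isFinLocFree_structureModule X)
  obtain ⟨d, hd⟩ := eventually_globallyGenerated hAa G (CohBC.isCoh_of_isFinLocFree hG)
  have hgg := hd d le_rfl
  let N := CohB1.tensorPow A d
  have hNi : PicF.IsInvertible N := AmpleLib.isInvertible_tensorPow hA d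
  obtain ⟨N', hN', ⟨eN⟩⟩ := CurveRR24.exists_inverse k hNi
  obtain ⟨π, hπ⟩ := PicTau27.exists_epi_free k
    (CohBC.isCoh_of_isFinLocFree (WeilFin.isFinLocFree_tensorMod hG (isFinLocFree_of_invertible hNi))) hgg rfl
  haveI := hπ
  obtain ⟨π', hπ'⟩ := PicTau27.exists_epi_twists eN π
  haveI := hπ'
  let m := Module.finrank k (Coh.HH X (CohB1.tensorMod G N) 0)
  let c0 := Module.finrank k (Coh.HH X (Coh.structureModule X) 0)
  refine ⟨m * (c0 + (Curv2.deg k X N' 1).natAbs + (Curv2.deg k X L 1).natAbs), fun n => ?_⟩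
  let σ := FrobSch.frob X p
  obtain ⟨πn, hπn⟩ := @exists_epi_pullIter _ σ _ _ _ π' hπ' n
  haveI := hπn
  obtain ⟨φ, hφ⟩ := exists_jointlyMono_dual πn
  obtain ⟨e1⟩ := nonempty_pullIter_dual σ hE n
  obtain ⟨e2⟩ := CycLib28.PB.Ops.nonempty_dual_congr e1
  obtain ⟨e3⟩ := WeilFin.nonempty_dual_dual (isFinLocFree_pullIter σ hE n)
  have hψ : JointlyMono fun i => (SerreDual.twistF L).map ((e3 ≪≫ e2).hom ≫ φ i) :=
    JointlyMono.twist (isFinLocFree_of_invertible hL) (hφ.precomp_iso (e3 ≪≫ e2))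
  obtain ⟨hNn, hdeg⟩ := deg_pullIter_frob k hdim p hN' n
  obtain ⟨J, hJ, ⟨eJ⟩⟩ := CurveRR24.exists_inverse k hNn
  have hDi : PicF.IsInvertible (WeilFin.dual (pullIter σ n N')) :=
    KRRPBLib.isInvertible_of_rankOne (CycLib28.PB.Ops.isFinLocFreeOfRank_dual (isFinLocFreeOfRank_one hNn))
  have hline : PicF.IsInvertible (CohB1.tensorMod (WeilFin.dual (pullIter σ n N')) L) :=
    AmpleLib.isInvertible_tensorMod hDi hL
  refine (h0_le_of_jointlyMono k (isCoh_of_line hline) _ hψ).trans ?_
  rw [mul_assoc]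
  refine Nat.mul_le_mul_left m ?_
  have hdd : Curv2.deg k X (WeilFin.dual (pullIter σ n N')) 1 = - Curv2.deg k X (pullIter σ n N') 1 := by
    rw [deg_line k hDi, deg_line k hNn]
    exact gdeg_dual k hdim hn' 1 (isFinLocFreeOfRank_one hNn)
  have hb := Surf15.h0_le_deg k hdim.le hline
    (D := ((p ^ n : ℕ) : ℤ) * (Curv2.deg k X N' 1).natAbs + (Curv2.deg k X L 1).natAbs) (by
      rw [CurveRR24.deg_tensor k hdim.le hDi hL, hdd, hdeg]
      have hle : -(((p ^ n : ℕ) : ℤ) * Curv2.deg k X N' 1) ≤ ((p ^ n : ℕ) : ℤ) * (Curv2.deg k X N' 1).natAbs := by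
        rw [← mul_neg]
        exact mul_le_mul_of_nonneg_left (by omega) (Int.natCast_nonneg _)
      omega)
  have hp1 : 1 ≤ p ^ n := Nat.one_le_pow _ _ (Fact.out : p.Prime).pos
  rw [max_eq_left (by positivity)] at hb
  have h4 : (Module.finrank k (Coh.HH X (CohB1.tensorMod (WeilFin.dual (pullIter σ n N')) L) 0)) ≤
      c0 + (p ^ n * (Curv2.deg k X N' 1).natAbs + (Curv2.deg k X L 1).natAbs) := by
    zify
    push_cast at hb ⊢
    exact hb
  refine h4.trans ?_
  have h5 : c0 ≤ c0 * p ^ n := Nat.le_mul_of_pos_right _ hp1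
  have h6 : (Curv2.deg k X L 1).natAbs ≤ (Curv2.deg k X L 1).natAbs * p ^ n := Nat.le_mul_of_pos_right _ hp1
  rw [add_mul, add_mul, mul_comm (p ^ n) _]
  omega

end Groth.Agent.VB5
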