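import Groth.Agent.VB5.Bound
import Groth.Agent.VB5.Twist
import Groth.Agent.Clifford24.SubBundle
import Groth.Agent.AmpleLib.FTIdeal

/-!
# Global generation of bundles from vanishing of `H¹(E(-P))`
-/

set_option autoImplicit false
set_option linter.style.haveILetI false
set_option linter.unusedSectionVars false
set_option backward.isDefEq.respectTransparency.types false

universe u

open CategoryTheory CategoryTheory.Limits AlgebraicGeometry Opposite TopologicalSpace
open Groth.Agent.Coherent Groth.Agent.PicLib Groth.Agent.AmpleLib Groth.Agent.EulerLib Groth.Agent.CurveRR24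
open Groth.Agent.ModStalk

namespace Groth.Agent.VB5

variable {X : Scheme.{u}}

/-- The fibre `M_P / m M_P` as a module over the local ring. -/
noncomputable abbrev fibQuot (P : X) (M : X.Modules) : ModuleCat.{u} (X.presheaf.stalk P) :=
  ModuleCat.of _ ((M.presheaf.stalk P) ⧸
    (IsLocalRing.maximalIdeal (X.presheaf.stalk P) •
      (⊤ : Submodule (X.presheaf.stalk P) (M.presheaf.stalk P))))

/-- Evaluation at `P`. -/
noncomputable def evalMap (P : X) (M : X.Modules) : M ⟶ (sky P).obj (fibQuot P M) :=
  ⟨liftSky (P := M.val) (ModuleCat.ofHom (Submodule.mkQ _))⟩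

theorem evalMap_app_eq_zero_iff (P : X) (M : X.Modules) (W : X.Opens) (s : Γ(M, W)) :
    (evalMap P M).app W s = 0 ↔ ∀ h : P ∈ W, M.presheaf.germ W P h s ∈
      IsLocalRing.maximalIdeal (X.presheaf.stalk P) •
        (⊤ : Submodule (X.presheaf.stalk P) (M.presheaf.stalk P)) := by
  constructor
  · intro h0 h
    exact (Submodule.Quotient.mk_eq_zero _).1
      (congrArg (fun z => sval (A := fibQuot P M) (U := W) z h) h0)
  · exact fun h0 => sval_ext (A := fibQuot P M) (U := W) fun h =>
      (Submodule.Quotient.mk_eq_zero _).2 (h0 h)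

theorem isQCoh_fibSky (P : X) (M : X.Modules) : Coh.IsQCoh ((sky P).obj (fibQuot P M)) := by
  refine AssSch12.isQCoh_sky _ 1 fun r hr a => ?_
  obtain ⟨m, rfl⟩ := Submodule.mkQ_surjective _ a
  rw [pow_one, ← map_smul]
  exact (Submodule.Quotient.mk_eq_zero _).2 (Submodule.smul_mem_smul hr trivial)

variable [IsIntegral X] [IsLocallyNoetherian X]

/-- A module mapping injectively to a skyscraper at a non-generic point is torsion. -/
theorem grk_of_mono_sky {P : X} (hP : IsClosed ({P} : Set X)) (hne : genericPoint X ≠ P)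
    {A : ModuleCat.{u} (X.presheaf.stalk P)} {T : X.Modules} (j : T ⟶ (sky P).obj A) [Mono j] : grk T = 0 := by
  have : Subsingleton (T.presheaf.stalk (genericPoint X)) := subsingleton_of_forall_eq 0 fun m => by
    obtain ⟨W, hW, t, rfl⟩ := TopCat.Presheaf.exists_germ_eq T.presheaf m
    let W' : X.Opens := W ⊓ ⟨{P}ᶜ, hP.isOpen_compl⟩
    have hη : genericPoint X ∈ W' := ⟨hW, hne⟩
    rw [← TopCat.Presheaf.germ_res_apply T.presheaf (homOfLE (inf_le_left : W' ≤ W)) _ hη t]
    suffices h : T.presheaf.map (homOfLE (inf_le_left : W' ≤ W)).op t = 0 by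
      exact (congrArg (T.presheaf.germ W' (genericPoint X) hη) h).trans (map_zero _)
    refine Coherent.app_injective_of_mono j W' ?_
    rw [map_zero]
    exact sval_ext (A := A) (U := W') fun h => absurd rfl h.2
  exact Module.finrank_zero_of_subsingleton

theorem genericPoint_ne {P : X} (hdim : topologicalKrullDim X = 1) (hP : IsClosed ({P} : Set X)) :
    genericPoint X ≠ P := fun h => genericPoint_notMem_of_dim hdim hP
    (topologicalKrullDim_zero_of_discreteTopology ↥({P} : Set X)) h

variable (k : Type u) [Field k] [X.Over (Spec (CommRingCat.of k))] [IsProper (X ↘ Spec (CommRingCat.of k))]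
  (hdim : topologicalKrullDim X = 1)
include k hdim

theorem euler_eq_h0 {Q : X.Modules} (hQ : Coh.IsCoh Q) (h0 : grk Q = 0) :
    Curv2.euler k X Q = (Module.finrank k (Coh.HH X Q 0) : ℤ) := by
  have hηQ : genericPoint X ∉ CohB1.support Q := by
    refine (Coherent.notMem_support_iff _ _).2 (ModuleCat.isZero_iff_subsingleton.2 ?_)
    haveI := finite_generic hQ
    exact (Module.finrank_zero_iff (R := X.functionField) (M := Q.presheaf.stalk (genericPoint X))).1 h0
  exact euler_eq_h0_of_small k hdim.le hQ.1
    (Coherent.isClosed_support _ (Coherent.locallyFinGen_of_isFT _ hQ.2)) hηQ subset_rfl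

theorem euler_le_h0' {F : X.Modules} (hF : Coh.IsCoh F) :
    Curv2.euler k X F ≤ (Module.finrank k (Coh.HH X F 0) : ℤ) := euler_le_h0 k hdim hF.1

theorem subsingleton_h1_iff {F : X.Modules} (hF : Coh.IsCoh F) :
    Subsingleton (Coh.HH X F 1) ↔ Curv2.euler k X F = (Module.finrank k (Coh.HH X F 0) : ℤ) := by
  haveI := finite_HH_of_isCoh k hF 1
  rw [euler_eq_h0_sub_h1 k hdim.le F hF.1, ← Module.finrank_zero_iff (R := k) (M := Coh.HH X F 1)]
  omega

/-- `H¹` vanishes on a module receiving one without `H¹` with torsion cokernel. -/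
theorem subsingleton_h1_of_mono {F G : X.Modules} (l : F ⟶ G) [Mono l] (hF : Coh.IsCoh F) (hG : Coh.IsCoh G)
    (hQ0 : grk (cokernel l) = 0) (h1 : Subsingleton (Coh.HH X F 1)) : Subsingleton (Coh.HH X G 1) := by
  have hQ := Coherent.isCoh_cokernel l hF.1 hG
  have hS := EulerLib.shortExact_cokernel l
  have he := euler_additive k X _ hS hF hG hQ
  change Curv2.euler k X G = Curv2.euler k X F + Curv2.euler k X (cokernel l) at he
  rw [euler_eq_h0 k hdim hQ hQ0, (subsingleton_h1_iff k hdim hF).1 h1] at he
  have hle := Clifford24.h0_le_kernel_add k hG hQ (cokernel.π l)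
  have hiso := CurveRR24.finrank_HH_congr k
    (hS.fIsKernel.conePointUniqueUpToIso (kernelIsKernel (cokernel.π l))) 0
  change Module.finrank k (Coh.HH X F 0) = Module.finrank k (Coh.HH X (kernel (cokernel.π l)) 0) at hiso
  rw [subsingleton_h1_iff k hdim hG]
  have := euler_le_h0' k hdim hG
  omega

variable (hn : ∀ x : X, IsIntegrallyClosed (X.presheaf.stalk x))
include hn

include k in
/-- Global generation criterion. -/
theorem globallyGenerated_of_h1 {r : ℕ} {E : X.Modules} (hE : FlatMod.IsFinLocFreeOfRank r E)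
    (h1 : ∀ (P : X) (hP : IsClosed ({P} : Set X)),
      Subsingleton (Coh.HH X (CohB1.tensorMod E (ClSub.idealMod (ptIdeal P hP))) 1)) :
    Curv2.IsGloballyGenerated E := by
  classical
  haveI := EulerLib.isNoetherian_of_proper k (X := X)
  have hEc : Coh.IsCoh E := SplitP1.isCoh_of_rank hE
  haveI := finite_HH_of_isCoh k hEc 0
  haveI : Module.Finite k (Coh.structureModule X ⟶ E) := Module.Finite.equiv (SerreDual.homUnitHH k _).symm
  let b := Module.finBasis k (Coh.structureModule X ⟶ E)
  refine ⟨ULift.{u} (Fin (Module.finrank k (Coh.structureModule X ⟶ E))), freeDesc fun i => b i.down, ?_⟩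
  let p : freeMod X (ULift.{u} (Fin (Module.finrank k (Coh.structureModule X ⟶ E)))) ⟶ E :=
    freeDesc fun i => b i.down
  show Epi p
  have hGq : Coh.IsQCoh (freeMod X (ULift.{u} (Fin (Module.finrank k (Coh.structureModule X ⟶ E))))) :=
    Coherent.isQCoh_freeMod
  let π := cokernel.π p
  have hC : Coh.IsCoh (cokernel p) := Coherent.isCoh_cokernel p hGq hEc
  by_contra hep
  have hC0 : ¬ IsZero (cokernel p) := fun hz =>
    hep (Abelian.epi_of_cokernel_π_eq_zero _ (hz.eq_of_tgt _ _))
  have hclo : IsClosed (CohB1.support (cokernel p)) :=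
    Coherent.isClosed_support _ (Coherent.locallyFinGen_of_isFT _ hC.2)
  haveI := LocallyOfFiniteType.jacobsonSpace (X ↘ Spec (CommRingCat.of k))
  obtain ⟨P, hPC, hP⟩ := nonempty_inter_closedPoints (EulerLib.support_nonempty hC0) hclo.isLocallyClosed
  let f := π ≫ evalMap P (cokernel p)
  haveI := hEc.1
  haveI := isQCoh_fibSky P (cokernel p)
  have hTq : Coh.IsQCoh (Abelian.image f) := Coherent.isQCoh_image f
  have hT : Coh.IsCoh (Abelian.image f) := AssSch12.isCoh_of_epi E (Abelian.factorThruImage f) hTq
    (Coherent.locallyFinGen_of_isFT E hEc.2)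
  have hT0 : grk (Abelian.image f) = 0 :=
    grk_of_mono_sky hP (genericPoint_ne hdim hP) (Abelian.image.ι f)
  have hf : f ≠ 0 := by
    intro hf0
    haveI := AssSch12.finite_stalk hC P
    haveI : Nontrivial ((cokernel p).presheaf.stalk P) := not_subsingleton_iff_nontrivial.1 hPC
    refine top_ne_bot (α := Submodule (X.presheaf.stalk P) ((cokernel p).presheaf.stalk P))
      (Submodule.eq_bot_of_le_smul_of_le_jacobson_bot (IsLocalRing.maximalIdeal _) ⊤ Module.Finite.fg_top
        (fun z _ => ?_) (IsLocalRing.maximalIdeal_le_jacobson _))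
    obtain ⟨W, hW, s, rfl⟩ := TopCat.Presheaf.exists_germ_eq (cokernel p).presheaf z
    obtain ⟨W', hle, hW', b, hb⟩ := Coherent.exists_lift_of_epi π W s P hW
    have h0 : f.app W' b = 0 := by rw [hf0]; rfl
    have h2 := (evalMap_app_eq_zero_iff P (cokernel p) W' (π.app W' b)).1 h0 hW'
    rw [show π.app W' b = _ from hb] at h2
    rwa [show (cokernel p).presheaf.germ W' P hW' (resM (cokernel p) hle s) =
      (cokernel p).presheaf.germ W P hW s from TopCat.Presheaf.germ_res_apply _ _ _ hW' s] at h2
  have hTnz : ¬ IsZero (Abelian.image f) := EulerLib.image_ne_zero hf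
  let I := ptIdeal P hP
  let μ := Clifford24.mulR I E
  haveI : Mono μ := Clifford24.mono_mulR I fun x => let ⟨U, hx, e⟩ := hE x; ⟨U, r, hx, e⟩
  have hμ : μ ≫ f = 0 := AmpleLib.hom_ext fun W a c => by
    show f.app W (μ.app W (tmul a c)) = 0
    rw [Clifford24.mulR_tmul]
    refine (evalMap_app_eq_zero_iff P (cokernel p) W _).2 fun h => ?_
    show (cokernel p).presheaf.germ W P h (π.app W ((show Γ(X, W) from (ClSub.idealModι I).app W c) • a)) ∈ _
    rw [Scheme.Modules.Hom.app_smul, QCohLoc.germ_smul']
    refine Submodule.smul_mem_smul ((IsLocalRing.mem_maximalIdeal _).2 fun hu => ?_) trivial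
    exact basicOpen_idealModι_le I W c ((X.mem_basicOpen _ P h).2 hu) ((support_ptIdeal hP).ge rfl)
  let q := Abelian.factorThruImage f
  have hμq : μ ≫ q = 0 := by
    rw [← cancel_mono (Abelian.image.ι f), Category.assoc, Abelian.image.fac, hμ, zero_comp]
  let l := kernel.lift q μ hμq
  haveI : Mono l := mono_of_mono_fac (kernel.lift_ι q μ hμq)
  have hI : PicF.IsInvertible (ClSub.idealMod I) := isInvertible_ptIdeal_of_normal k hdim hP (hn P)
  have hFc : Coh.IsCoh (CohB1.tensorMod E (ClSub.idealMod I)) := EulerLib.isCoh_twist hI hEc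
  have hKc := Coherent.isCoh_kernel q hEc hT.1
  have hKr : grk (kernel q) = r := by
    have h := grk_additive (EulerLib.shortExact_kernel q) hEc
    change grk E = grk (kernel q) + grk (Abelian.image f) at h
    rw [hT0, grk_eq hE] at h
    omega
  have hQr : grk (cokernel l) = 0 := by
    have h := grk_additive (EulerLib.shortExact_cokernel l) hKc
    change grk (kernel q) = grk (CohB1.tensorMod E (ClSub.idealMod I)) + grk (cokernel l) at h
    rw [hKr, grk_twist hE hI] at h
    omega
  have hK1 : Subsingleton (Coh.HH X (kernel q) 1) := subsingleton_h1_of_mono k hdim l hFc hKc hQr (h1 P hP)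
  have he := euler_additive k X _ (EulerLib.shortExact_kernel q) hKc hEc hT
  change Curv2.euler k X E = Curv2.euler k X (kernel q) + Curv2.euler k X (Abelian.image f) at he
  rw [euler_eq_h0 k hdim hT hT0, (subsingleton_h1_iff k hdim hKc).1 hK1] at he
  have hTd := torsion_deg k hdim hT hT0
  have hpos : 0 < Module.finrank k (Coh.HH X (Abelian.image f) 0) := by
    by_contra h0
    refine hTnz (hTd.2 ?_)
    rw [gdeg, hT0, euler_eq_h0 k hdim hT hT0]
    simp [show Module.finrank k (Coh.HH X (Abelian.image f) 0) = 0 by omega]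
  haveI := finite_HH_of_isCoh k hKc 0
  have hall : Module.finrank k (Coh.HH X E 0) ≤ Module.finrank k (Coh.HH X (kernel q) 0) := by
    let O := Coh.structureModule X
    haveI : Module.Finite k (O ⟶ kernel q) := Module.Finite.equiv (SerreDual.homUnitHH k _).symm
    rw [← (SerreDual.homUnitHH k E).finrank_eq, ← (SerreDual.homUnitHH k (kernel q)).finrank_eq]
    suffices hsurj : Function.Surjective (Linear.rightComp k O (kernel.ι q)) by
      have h := LinearMap.finrank_range_le (Linear.rightComp k O (kernel.ι q))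
      rwa [LinearMap.range_eq_top.2 hsurj, finrank_top] at h
    intro a
    have hq0 : a ≫ q = 0 := ?_
    refine ⟨kernel.lift q a hq0, kernel.lift_ι q a hq0⟩
    rw [← cancel_mono (Abelian.image.ι f), Category.assoc, Abelian.image.fac, zero_comp]
    have ha : a ≫ π = 0 := by
      rw [← b.sum_repr a, Preadditive.sum_comp]
      refine Finset.sum_eq_zero fun i _ => ?_
      rw [Linear.smul_comp, show b i = freeInj (ULift.up i) ≫ p from (freeInj_freeDesc (fun i : ULift.{u} (Fin _) => b i.down) (ULift.up i)).symm,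
        Category.assoc, cokernel.condition, comp_zero, smul_zero]
    rw [← Category.assoc, ha, zero_comp]
  have := euler_le_h0' k hdim hEc
  have h0le := Clifford24.h0_le_kernel_add k hEc hT q
  omega

end Groth.Agent.VB5
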