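import Groth.Agent.VB5.RankTwo

/-!
# Sections of submodules of semistable bundles
-/

set_option autoImplicit false
set_option linter.style.haveILetI false
set_option linter.unusedSectionVars false
set_option backward.isDefEq.respectTransparency.types false

universe u

open CategoryTheory CategoryTheory.Limits AlgebraicGeometry Opposite TopologicalSpace
open Groth.Agent.Coherent Groth.Agent.PicLib Groth.Agent.AmpleLib Groth.Agent.EulerLib Groth.Agent.CurveRR24

namespace Groth.Agent.VB5

variable {X : Scheme.{u}} [IsIntegral X] [IsLocallyNoetherian X]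
  (k : Type u) [Field k] [X.Over (Spec (CommRingCat.of k))] [IsProper (X ↘ Spec (CommRingCat.of k))]
  [Smooth (X ↘ Spec (CommRingCat.of k))] [GeometricallyIntegral (X ↘ Spec (CommRingCat.of k))]
  (hdim : topologicalKrullDim X = 1)
include k hdim

/-- All submodules of slope below `n`: at most `r * n` sections. -/
theorem h0_le_of_slope_lt [IsAlgClosed k] {r : ℕ} : ∀ (n : ℕ) {E : X.Modules},
    FlatMod.IsFinLocFreeOfRank r E →
    (∀ (G : X.Modules) (j : G ⟶ E), Mono j → Coh.IsCoh G → 0 < grk G → gdeg k G < (n : ℤ) * grk G) →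
      Module.finrank k (Coh.HH X E 0) ≤ r * n
  | 0, E, hE, h => by
    by_contra hne
    obtain ⟨φ, -, hm⟩ := exists_section_mono k hdim hE (by omega)
    have := h _ φ hm (isCoh_of_line AmpleLib.isInvertible_structureModule)
      (by rw [rank_one AmpleLib.isInvertible_structureModule]; exact Nat.one_pos)
    rw [gdeg_structure k hdim] at this
    simp at this
  | n + 1, E, hE, h => by
    have hn := isIntegrallyClosed' k hdim (X := X)
    haveI := LocallyOfFiniteType.jacobsonSpace (X ↘ Spec (CommRingCat.of k))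
    obtain ⟨P, -, hP⟩ := nonempty_inter_closedPoints (X := X) Set.univ_nonempty isClosed_univ.isLocallyClosed
    have hI := isInvertible_ptIdeal_of_normal k hdim hP (hn P)
    obtain ⟨M, hM, ⟨e⟩⟩ := CurveRR24.exists_inverse k hI
    obtain ⟨back⟩ := nonempty_untwist E hI hM e
    have hT := Clifford24.isFinLocFreeOfRank_tensorMod hE hI
    have h1 := h0_le_of_slope_lt n hT fun G j hj hG hpos => by
      haveI := hj
      have hGf := (sub_bundle hdim.le hn hT j hG).2
      haveI := mono_tensorMap hM j
      have h2 := h _ (tensorMap j (𝟙 M) ≫ back.hom) (mono_comp _ _) (EulerLib.isCoh_twist hM hG)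
        (by rw [grk_twist hGf hM]; exact hpos)
      rw [grk_twist hGf hM, gdeg_twist k hdim hn hM _ hGf, gdeg_inverse k hdim hI hM e, ← deg_line k hI,
        deg_ptIdeal k hP, finrank_resField k hP] at h2
      push_cast at h2
      linarith
    have h2 := h0_le_twist k hdim hE hP
    rw [Nat.mul_succ]
    omega

/-- Sections of a submodule of a semistable bundle of large slope. -/
theorem h0_sub_le [IsAlgClosed k] {r : ℕ} (hr : 0 < r) {E A : X.Modules} (hE : FlatMod.IsFinLocFreeOfRank r E)
    (hss : SS k E) (hbig : (r : ℤ) * ((Curv2.genus k X : ℤ) * (r + 1)) ≤ gdeg k E + r)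
    (i : A ⟶ E) [Mono i] (hA : Coh.IsCoh A) :
    (r : ℤ) * Module.finrank k (Coh.HH X A 0) ≤
      (grk A : ℤ) * (gdeg k E + (r : ℤ) * (1 - (Curv2.genus k X : ℤ))) := by
  haveI := EulerLib.isNoetherian_of_proper k (X := X)
  have hn := isIntegrallyClosed' k hdim (X := X)
  obtain ⟨hsr, hAf⟩ := sub_bundle hdim.le hn hE i hA
  have hAd := hss A i inferInstance hA
  rw [grk_eq hE] at hAd
  by_cases h1 : Subsingleton (Coh.HH X A 1)
  · rw [← (subsingleton_h1_iff_h0 k hdim hA).1 h1]
    linarith
  · obtain ⟨Ω, f, hΩ, hdΩ, hf⟩ := exists_hom_omega k hdim hA h1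
    obtain ⟨I, p, j, hp, hj, -, hI, hI0⟩ := exists_image k hdim hn hAf (PicLib.isFinLocFreeOfRank_one hΩ) f
    haveI := hp; haveI := hj
    have hI1 := (sub_bundle hdim.le hn (PicLib.isFinLocFreeOfRank_one hΩ) j hI).1
    have hIeq : grk I = 1 := by have := hI0 hf; omega
    have hK := Coherent.isCoh_kernel p hA hI.1
    have hr2 := grk_additive (EulerLib.shortExact_kernel p) hA
    change grk A = grk (kernel p) + grk I at hr2
    rw [hIeq] at hr2
    have hrpos : (0 : ℤ) < r := by exact_mod_cast hr
    have hd0 : 0 ≤ gdeg k E + r := le_trans (mul_nonneg hrpos.le (mul_nonneg (Int.natCast_nonneg _) (by linarith))) hbig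
    have he1 := Int.emod_add_mul_ediv (gdeg k E + r) (r : ℤ)
    have he2 := Int.emod_nonneg (gdeg k E + r) (show (r : ℤ) ≠ 0 by omega)
    have he3 := Int.emod_lt_of_pos (gdeg k E + r) hrpos
    obtain ⟨n, hn1⟩ : ∃ n : ℕ, (n : ℤ) = (gdeg k E + r) / r := ⟨_, Int.toNat_of_nonneg (Int.ediv_nonneg hd0 hrpos.le)⟩
    rw [← hn1] at he1
    have hKf := (sub_bundle hdim.le hn hAf (kernel.ι p) hK).2
    have hKb := h0_le_of_slope_lt k hdim n hKf fun G l hl hG hpos => by
      haveI := hl
      have := hss G ((l ≫ kernel.ι p) ≫ i) (mono_comp _ _) hG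
      rw [grk_eq hE] at this
      refine lt_of_mul_lt_mul_right ?_ hrpos.le
      calc gdeg k G * (r : ℤ) ≤ gdeg k E * grk G := this
        _ < (n : ℤ) * r * grk G := by
          refine mul_lt_mul_of_pos_right ?_ (by exact_mod_cast hpos)
          linarith
        _ = _ := by ring
    have hO := omega_line k hdim (X := X)
    have hIb := h0_le_of_mono k j (isCoh_of_line hΩ)
    have hΩb : Module.finrank k (Coh.HH X Ω 0) ≤ Curv2.genus k X := by
      haveI := hj
      rcases Nat.eq_zero_or_pos (Module.finrank k (Coh.HH X Ω 0)) with h0 | h0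
      · omega
      haveI : Nontrivial (Coh.HH X Ω 0) := Module.nontrivial_of_finrank_pos (R := k) h0
      rw [← deg_line k hΩ] at hdΩ
      rcases Clifford24.nonspecial_or_clifford k hdim hΩ inferInstance with h2 | h2 <;> omega
    have h4 := Clifford24.h0_le_kernel_add k hA hI p
    have hKb' : (Module.finrank k (Coh.HH X (kernel p) 0) : ℤ) * r ≤ (grk (kernel p) : ℤ) * (gdeg k E + r) := by
      have h5 : (Module.finrank k (Coh.HH X (kernel p) 0) : ℤ) ≤ (grk (kernel p) : ℤ) * n := by exact_mod_cast hKb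
      calc _ ≤ (grk (kernel p) : ℤ) * n * r := mul_le_mul_of_nonneg_right h5 hrpos.le
        _ = (grk (kernel p) : ℤ) * (r * n) := by ring
        _ ≤ _ := mul_le_mul_of_nonneg_left (by linarith) (Int.natCast_nonneg _)
    have hg : (r : ℤ) * Module.finrank k (Coh.HH X I 0) ≤ (r : ℤ) * (Curv2.genus k X : ℤ) :=
      mul_le_mul_of_nonneg_left (by omega) hrpos.le
    have h6 : (r : ℤ) * Module.finrank k (Coh.HH X A 0) ≤
        (r : ℤ) * ((Module.finrank k (Coh.HH X (kernel p) 0) : ℤ) + Module.finrank k (Coh.HH X I 0)) :=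
      mul_le_mul_of_nonneg_left (by exact_mod_cast h4) hrpos.le
    have hA1 : (grk A : ℤ) = (grk (kernel p) : ℤ) + 1 := by exact_mod_cast hr2
    have hs : (grk (kernel p) : ℤ) + 1 ≤ r := by omega
    have h7 := mul_le_mul_of_nonneg_left hs (mul_nonneg hrpos.le (Int.natCast_nonneg (Curv2.genus k X)))
    rw [hA1]
    linarith

end Groth.Agent.VB5
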